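import Cfsg.Agent.Lib.Solvable.Hall
import Cfsg.Agent.Lib.Cores.Basic

/-!
# Hall–Higman 1.2.3 and `C(F(G)) ≤ F(G)` (owner: helper2)

* `IsPiSeparable.exists_normal_between`
* `centralizer_piCore_le`: π-separable, `O_{π'}(G) = 1` ⟹ `C(O_π(G)) ≤ O_π(G)`
* `centralizer_pCore_le`: the same for `π = {p}`
* `centralizer_fitting_le`: solvable ⟹ `C(F(G)) ≤ F(G)`
-/

open Pointwise

namespace Cfsg.Agent.Solvable

variable {G : Type*} [Group G] {π : Set ℕ}

theorem IsPiSeparable.exists_normal_between [Finite G] (h : IsPiSeparable π G) {A B : Subgroup G}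
    [A.Normal] [B.Normal] (hAB : A < B) :
    ∃ M : Subgroup G, M.Normal ∧ A < M ∧ M ≤ B ∧
      (IsPiNum π (A.relIndex M) ∨ IsPiNum πᶜ (A.relIndex M)) := by
  obtain ⟨N, ⟨hNn, hNB⟩, hmax⟩ := wellFounded_gt.has_min
    {N : Subgroup G | N.Normal ∧ N ⊓ B ≤ A} ⟨⊥, inferInstance, inf_le_left.trans bot_le⟩
  obtain ⟨M, hMn, hlt, hidx⟩ := h N hNn (fun he => hAB.not_ge (by simpa [he] using hNB))
  refine ⟨A ⊔ M ⊓ B, Subgroup.sup_normal _ _, lt_of_le_of_ne le_sup_left fun he => ?_,
    sup_le hAB.le inf_le_right, ?_⟩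
  · exact hmax M ⟨hMn, le_sup_right.trans he.ge⟩ hlt
  have hd : A.relIndex (A ⊔ M ⊓ B) ∣ N.relIndex M := by
    rw [Subgroup.relIndex_sup_left]
    refine (Subgroup.relIndex_dvd_of_le_left _ hNB).trans ?_
    have he : (N ⊓ B).relIndex (M ⊓ B) = N.relIndex (M ⊓ B) := by
      rw [← Subgroup.inf_relIndex_right, inf_assoc,
        inf_of_le_right (inf_le_right : M ⊓ B ≤ B), Subgroup.inf_relIndex_right]
    rw [he]
    exact relIndex_dvd_relIndex_of_normal inf_le_left
  exact hidx.imp (fun h => h.of_dvd hd) (fun h => h.of_dvd hd)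

theorem exists_normal_between_abelian [Finite G] [Group.IsSolvable G] {A B : Subgroup G}
    [A.Normal] [B.Normal] (hAB : A < B) :
    ∃ M : Subgroup G, M.Normal ∧ A < M ∧ M ≤ B ∧ ⁅M, M⁆ ≤ A := by
  let f := QuotientGroup.mk' A
  have hf : f.ker = A := QuotientGroup.ker_mk' A
  have hBn : (B.map f).Normal :=
    (inferInstance : B.Normal).map f (QuotientGroup.mk'_surjective A)
  obtain ⟨p, -, M, hMn, hM0, hMB, hMc, -, -, -⟩ :=
    exists_minimal_normal_pGroup (N := B.map f) (map_mk'_ne_bot hAB.not_ge)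
  refine ⟨M.comap f, inferInstance, lt_of_le_of_ne (QuotientGroup.le_comap_mk' A M) fun he => hM0 ?_,
    ?_, ?_⟩
  · rw [← Subgroup.map_comap_eq_self_of_surjective (QuotientGroup.mk'_surjective A) M]
    exact (Subgroup.map_eq_bot_iff _).2 (by rw [hf]; exact he.ge)
  · refine (Subgroup.comap_mono hMB).trans ?_
    rw [Subgroup.comap_map_eq_self (hf.le.trans hAB.le)]
  · refine Subgroup.commutator_le.2 fun a ha b hb => ?_
    rw [← hf, MonoidHom.mem_ker, map_commutatorElement, commutatorElement_eq_one_iff_mul_comm]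
    exact congrArg Subtype.val (mul_comm' (⟨f a, ha⟩ : M) ⟨f b, hb⟩)

theorem le_centralizer_iff_commute {A B : Subgroup G} :
    A ≤ Subgroup.centralizer (B : Set G) ↔ ∀ a ∈ A, ∀ b ∈ B, b * a = a * b :=
  ⟨fun h a ha b hb => Subgroup.mem_centralizer_iff.1 (h ha) b hb,
    fun h a ha => Subgroup.mem_centralizer_iff.2 fun b hb => h a ha b hb⟩

/-- **Hall–Higman Lemma 1.2.3.** -/
theorem centralizer_piCore_le [Finite G] (h : IsPiSeparable π G) (h1 : Cfsg.piCore πᶜ G = ⊥) :
    Subgroup.centralizer (Cfsg.piCore π G : Set G) ≤ Cfsg.piCore π G := by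
  set O := Cfsg.piCore π G with hOdef
  set C := Subgroup.centralizer (O : Set G)
  by_contra hCO
  have hlt : O ⊓ C < C := lt_of_le_of_ne inf_le_right fun he => hCO (inf_eq_right.1 he)
  obtain ⟨M, hMn, hZM, hMC, hidx⟩ := h.exists_normal_between hlt
  have hOπ : IsPiNum π (Nat.card O) := fun q hq hd => Cores.card_piCore π hq hd
  have hZπ : IsPiNum π (Nat.card ↥(O ⊓ C)) := hOπ.of_dvd (Subgroup.card_dvd_of_le inf_le_left)
  have hMcard : Nat.card ↥(O ⊓ C) * (O ⊓ C).relIndex M = Nat.card M := by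
    have h2 := Subgroup.relIndex_mul_relIndex ⊥ (O ⊓ C) M bot_le hZM.le
    rwa [Subgroup.relIndex_bot_left, Subgroup.relIndex_bot_left] at h2
  rcases hidx with hidx | hidx
  · have hM : M ≤ O := Cores.le_piCore hMn (hMcard ▸ hZπ.mul hidx)
    exact hZM.not_ge (le_inf hM hMC)
  · obtain ⟨K, hKM, hKc, hKsup⟩ := exists_lift_of_coprime hZM.le (hZπ.coprime hidx)
    have hKcomm : ∀ z ∈ O, MulAut.conj z • K = K := by
      intro z hz
      refine mem_normalizer_iff_conj.1 ((Subgroup.mem_normalizer_iff).2 fun k => ?_)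
      have hzk : ∀ x ∈ C, z * x * z⁻¹ = x := fun x hx => by
        rw [Subgroup.mem_centralizer_iff.1 hx z hz, mul_inv_cancel_right]
      constructor
      · intro hk
        rw [hzk k (hMC (hKM hk))]
        exact hk
      · intro hk
        have h3 := hzk _ (hMC (hKM hk))
        have h4 : z * k * z⁻¹ = k := mul_left_cancel (mul_right_cancel h3)
        rwa [h4] at hk
    have hKn : K.Normal := by
      refine ⟨fun k hk g => ?_⟩
      have hgsup : MulAut.conj g • K ⊔ O ⊓ C = K ⊔ O ⊓ C := by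
        conv_lhs => rw [← conj_normal g (O ⊓ C), ← Subgroup.smul_sup, hKsup, conj_normal g M]
        rw [hKsup]
      have hcop : (Nat.card K).Coprime (Nat.card ↥(O ⊓ C)) := by
        rw [hKc]; exact (hZπ.coprime hidx).symm
      have hZs : Group.IsSolvable ↥(O ⊓ C) := by
        refine Group.isSolvable_of_comm fun a b => Subtype.ext ?_
        exact (Subgroup.mem_centralizer_iff.1 b.2.2 a a.2.1)
      obtain ⟨z, hz, hconj⟩ := exists_conj_of_sup_eq (Or.inl hZs) hgsup.symm hcop
        (by rw [card_conj]; exact hcop)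
      rw [hKcomm z hz.1] at hconj
      rw [hconj]
      exact Subgroup.smul_mem_pointwise_smul k (MulAut.conj g) K hk
    have hK0 : K = ⊥ := by
      refine le_bot_iff.1 (h1 ▸ Cores.le_piCore hKn fun q hq hd => ?_)
      exact (hKc ▸ hidx : IsPiNum πᶜ (Nat.card K)) q hq hd
    rw [hK0, bot_sup_eq] at hKsup
    exact hZM.ne hKsup

theorem piCore_compl_singleton_eq_pPrimeCore [Finite G] (p : ℕ) [Fact p.Prime] :
    Cfsg.piCore ({p}ᶜ : Set ℕ) G = Cfsg.pPrimeCore p G := by
  rw [Cores.pPrimeCore_eq_piCore_ne]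
  rfl

/-- **Hall–Higman Lemma 1.2.3** for one prime. -/
theorem centralizer_pCore_le [Finite G] {p : ℕ} [Fact p.Prime] (h : IsPiSeparable {p} G)
    (h1 : Cfsg.pPrimeCore p G = ⊥) :
    Subgroup.centralizer (Cfsg.pCore p G : Set G) ≤ Cfsg.pCore p G := by
  rw [Cores.pCore_eq_piCore]
  exact centralizer_piCore_le h (by rw [piCore_compl_singleton_eq_pPrimeCore, h1])

theorem centralizer_pCore_le_of_isSolvable [Finite G] [Group.IsSolvable G] {p : ℕ} [Fact p.Prime]
    (h1 : Cfsg.pPrimeCore p G = ⊥) :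
    Subgroup.centralizer (Cfsg.pCore p G : Set G) ≤ Cfsg.pCore p G :=
  centralizer_pCore_le (isPiSeparable_of_isSolvable _) h1

/-- In a solvable group the centralizer of the Fitting subgroup lies in the Fitting subgroup. -/
theorem centralizer_fitting_le (G : Type*) [Group G] [Finite G] [Group.IsSolvable G] :
    Subgroup.centralizer (Cfsg.fittingSubgroup G : Set G) ≤ Cfsg.fittingSubgroup G := by
  have hFn : (Cfsg.fittingSubgroup G).Normal := Subgroup.sSup_normal _ fun _ h => h.1
  set F := Cfsg.fittingSubgroup G with hF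
  set C := Subgroup.centralizer (F : Set G)
  by_contra hCF
  have hlt : F ⊓ C < C := lt_of_le_of_ne inf_le_right fun he => hCF (inf_eq_right.1 he)
  obtain ⟨M, hMn, hZM, hMC, hab⟩ := exists_normal_between_abelian hlt
  have hnil : Group.IsNilpotent M := by
    refine Subgroup.isNilpotent_of_lowerCentralSeries_eq_bot (n := 2) ?_
    rw [Subgroup.lowerCentralSeries_succ, Subgroup.lowerCentralSeries_succ,
      Subgroup.lowerCentralSeries_zero, Subgroup.commutator_eq_bot_iff_le_centralizer]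
    intro z hz
    refine Subgroup.mem_centralizer_iff.2 fun m hm => ?_
    exact (Subgroup.mem_centralizer_iff.1 (hMC hm) z (hab hz).1).symm
  exact hZM.not_ge (le_inf (le_sSup ⟨hMn, hnil⟩) hMC)

end Cfsg.Agent.Solvable
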