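import Cfsg.Agent.Lib.Solvable.Basic

/-!
# Schur–Zassenhaus, conjugacy half (owner: helper2)

* `exists_conj_of_sup_eq`: `N` normal in `G`, `H ⊔ N = K ⊔ N`, `|H|`, `|K|` prime to `|N|`, and `N` or `H`
  solvable: `H` and `K` are conjugate by an element of `N`.
* `exists_conj_of_card_eq_index`: the same for two complements of a normal Hall subgroup.
* `exists_conj_of_isComplement'`
-/

open Pointwise

namespace Cfsg.Agent.Solvable

variable {G : Type*} [Group G]

theorem exists_conj_of_isComplement'_of_isMulCommutative [Finite G] {N : Subgroup G} [N.Normal]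
    [IsMulCommutative N] (hN : (Nat.card N).Coprime N.index) {H K : Subgroup G}
    (hH : Subgroup.IsComplement' H N) (hK : Subgroup.IsComplement' K N) :
    ∃ n ∈ N, MulAut.conj n • H = K := by
  let mk : N.LeftTransversal → N.QuotientDiff := Quotient.mk''
  let α : N.QuotientDiff := mk ⟨(H : Set G), hH⟩
  let β : N.QuotientDiff := mk ⟨(K : Set G), hK⟩
  have key : ∀ (L : Subgroup G) (hL : Subgroup.IsComplement' L N),
      MulAction.stabilizer G (mk ⟨(L : Set G), hL⟩) = L := by
    intro L hL
    have hle : L ≤ MulAction.stabilizer G (mk ⟨(L : Set G), hL⟩) := by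
      intro g hg
      refine congrArg Quotient.mk'' (Subtype.ext ?_)
      exact op_smul_coe_set (inv_mem hg)
    refine (Subgroup.eq_of_le_of_card_ge hle (le_of_eq ?_)).symm
    have h2 := Subgroup.isComplement'_stabilizer_of_coprime
      (α := mk ⟨(L : Set G), hL⟩) hN
    rw [← h2.symm.index_eq_card, hL.index_eq_card]
  obtain ⟨h, hh⟩ := Subgroup.exists_smul_eq hN α β
  refine ⟨h, h.2, ?_⟩
  have h3 := MulAction.stabilizer_smul_eq_stabilizer_map_conj (h : G) α
  have h4 : (h : G) • α = β := hh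
  rw [h4, key K hK, key H hH] at h3
  exact h3.symm

theorem exists_conj_of_sup_eq_of_isMulCommutative [Finite G] {N : Subgroup G} [N.Normal]
    [IsMulCommutative N] {H K : Subgroup G} (hsup : H ⊔ N = K ⊔ N)
    (hH : (Nat.card H).Coprime (Nat.card N)) (hK : (Nat.card K).Coprime (Nat.card N)) :
    ∃ n ∈ N, MulAut.conj n • H = K := by
  have hHL : H ≤ H ⊔ N := le_sup_left
  have hNL : N ≤ H ⊔ N := le_sup_right
  have hKL : K ≤ H ⊔ N := hsup ▸ le_sup_left
  have hcardH := card_sup_of_disjoint H N (inf_eq_bot_of_coprime hH)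
  have hcardK : Nat.card ↥(H ⊔ N) = Nat.card K * Nat.card N :=
    hsup ▸ card_sup_of_disjoint K N (inf_eq_bot_of_coprime hK)
  have eH := Nat.card_congr (Subgroup.subgroupOfEquivOfLe hHL).toEquiv
  have eK := Nat.card_congr (Subgroup.subgroupOfEquivOfLe hKL).toEquiv
  have eN := Nat.card_congr (Subgroup.subgroupOfEquivOfLe hNL).toEquiv
  have hcH : Subgroup.IsComplement' (H.subgroupOf (H ⊔ N)) (N.subgroupOf (H ⊔ N)) :=
    Subgroup.isComplement'_of_coprime (by rw [eH, eN, hcardH]) (by rw [eH, eN]; exact hH)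
  have hcK : Subgroup.IsComplement' (K.subgroupOf (H ⊔ N)) (N.subgroupOf (H ⊔ N)) :=
    Subgroup.isComplement'_of_coprime (by rw [eK, eN, ← hcardK]) (by rw [eK, eN]; exact hK)
  have hcomm : ∀ x ∈ N, ∀ y ∈ N, x * y = y * x := fun x hx y hy =>
    congrArg Subtype.val (mul_comm' (⟨x, hx⟩ : N) ⟨y, hy⟩)
  have : IsMulCommutative ↥(N.subgroupOf (H ⊔ N)) :=
    ⟨⟨fun a b => Subtype.ext (Subtype.ext (hcomm _ a.2 _ b.2))⟩⟩
  have hcop : (Nat.card ↥(N.subgroupOf (H ⊔ N))).Coprime (N.subgroupOf (H ⊔ N)).index := by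
    rw [hcH.index_eq_card, eN, eH]
    exact hH.symm
  obtain ⟨n, hn, hconj⟩ := exists_conj_of_isComplement'_of_isMulCommutative hcop hcH hcK
  refine ⟨n, hn, ?_⟩
  have h := congrArg (Subgroup.map (H ⊔ N).subtype) hconj
  rw [map_conj, Subgroup.map_subgroupOf_eq_of_le hHL, Subgroup.map_subgroupOf_eq_of_le hKL] at h
  exact h

theorem exists_conj_of_sup_eq_of_solvable_left [Finite G] {N : Subgroup G} [hn : N.Normal]
    [hs : Group.IsSolvable N] {H K : Subgroup G} (hsup : H ⊔ N = K ⊔ N)
    (hH : (Nat.card H).Coprime (Nat.card N)) (hK : (Nat.card K).Coprime (Nat.card N)) :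
    ∃ n ∈ N, MulAut.conj n • H = K := by
  revert hn hs H K
  induction N using WellFoundedLT.induction with
  | _ N ih =>
    intro hn hs H K hsup hH hK
    rcases eq_or_ne N ⊥ with rfl | hN
    · simp only [sup_bot_eq] at hsup
      exact ⟨1, one_mem _, by rw [conj_one_smul, hsup]⟩
    have hlt := commutator_lt_of_solvable hN
    let f := QuotientGroup.mk' ⁅N, N⁆
    have hf : f.ker = ⁅N, N⁆ := QuotientGroup.ker_mk' _
    have : (N.map f).Normal := hn.map _ (QuotientGroup.mk'_surjective _)
    have : IsMulCommutative ↥(N.map f) := by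
      refine ⟨⟨?_⟩⟩
      rintro ⟨_, a, ha, rfl⟩ ⟨_, b, hb, rfl⟩
      refine Subtype.ext (commutatorElement_eq_one_iff_mul_comm.1 ?_)
      rw [← map_commutatorElement, ← MonoidHom.mem_ker, hf]
      exact Subgroup.commutator_mem_commutator ha hb
    have hdH : Nat.card (H.map f) ∣ Nat.card H := Subgroup.card_map_dvd H f
    have hdK : Nat.card (K.map f) ∣ Nat.card K := Subgroup.card_map_dvd K f
    have hdN : Nat.card (N.map f) ∣ Nat.card N := Subgroup.card_map_dvd N f
    obtain ⟨_, ⟨n, hnN, rfl⟩, hconj⟩ := exists_conj_of_sup_eq_of_isMulCommutative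
      (N := N.map f) (H := H.map f) (K := K.map f)
      (by rw [← Subgroup.map_sup, hsup, Subgroup.map_sup])
      ((hH.coprime_dvd_left hdH).coprime_dvd_right hdN)
      ((hK.coprime_dvd_left hdK).coprime_dvd_right hdN)
    rw [← map_conj] at hconj
    have hsup' := sup_eq_sup_of_map_eq hconj
    have : Group.IsSolvable ↥⁅N, N⁆ := isSolvable_of_le hlt.le
    have hd : Nat.card ↥⁅N, N⁆ ∣ Nat.card N := Subgroup.card_dvd_of_le hlt.le
    obtain ⟨m, hm, hconj'⟩ := @ih ⁅N, N⁆ hlt inferInstance inferInstance (MulAut.conj n • H) K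
      hsup' (by rw [card_conj]; exact hH.coprime_dvd_right hd) (hK.coprime_dvd_right hd)
    exact ⟨m * n, mul_mem (hlt.le hm) hnN, by rw [← conj_conj, hconj']⟩

/-- Two `p`-subgroups of a subgroup `T` with index prime to `p` in `T` are conjugate in `T`. -/
theorem exists_conj_of_pGroup [Finite G] {p : ℕ} [Fact p.Prime] {T P Q : Subgroup G}
    (hP : IsPGroup p P) (hQ : IsPGroup p Q) (hPT : P ≤ T) (hQT : Q ≤ T)
    (hPi : ¬ p ∣ P.relIndex T) (hQi : ¬ p ∣ Q.relIndex T) :
    ∃ t ∈ T, MulAut.conj t • P = Q := by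
  have hP' : IsPGroup p (P.subgroupOf T) := hP.of_equiv (Subgroup.subgroupOfEquivOfLe hPT).symm
  have hQ' : IsPGroup p (Q.subgroupOf T) := hQ.of_equiv (Subgroup.subgroupOfEquivOfLe hQT).symm
  obtain ⟨t, ht⟩ := MulAction.exists_smul_eq T (hP'.toSylow hPi) (hQ'.toSylow hQi)
  refine ⟨t, t.2, ?_⟩
  have h : MulAut.conj t • P.subgroupOf T = Q.subgroupOf T := congrArg Sylow.toSubgroup ht
  have h' := congrArg (Subgroup.map T.subtype) h
  rw [map_conj, Subgroup.map_subgroupOf_eq_of_le hPT, Subgroup.map_subgroupOf_eq_of_le hQT] at h'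
  exact h'

private theorem sz_aux (n : ℕ) : ∀ {G : Type*} [Group G] [Finite G] (N H K : Subgroup G) [N.Normal]
    [Group.IsSolvable H], Nat.card H = n → H ⊔ N = K ⊔ N → (Nat.card H).Coprime (Nat.card N) →
    (Nat.card K).Coprime (Nat.card N) → ∃ n ∈ N, MulAut.conj n • H = K := by
  induction n using Nat.strongRecOn with
  | _ c ih =>
    intro G _ _ N H K _ hsol hc hsup hH hK
    subst hc
    have hcardH := card_sup_of_disjoint H N (inf_eq_bot_of_coprime hH)
    have hHK : Nat.card H = Nat.card K := by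
      have := hsup ▸ card_sup_of_disjoint K N (inf_eq_bot_of_coprime hK)
      rw [hcardH] at this
      exact Nat.eq_of_mul_eq_mul_right Nat.card_pos this
    rcases eq_or_ne H ⊥ with rfl | hH0
    · exact ⟨1, one_mem _, by
        rw [conj_one_smul, Subgroup.eq_bot_of_card_eq K (by rw [← hHK, Subgroup.card_bot])]⟩
    have : Nontrivial H := (Subgroup.nontrivial_iff_ne_bot H).2 hH0
    obtain ⟨p, hp, P', hP'n, hP'0, hP'p⟩ := exists_normal_pGroup_ne_bot H
    have := Fact.mk hp
    let P : Subgroup G := P'.map H.subtype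
    have hPH : P ≤ H := Subgroup.map_subtype_le P'
    have hPp : IsPGroup p P := hP'p.map _
    have hPH' : H ≤ Subgroup.normalizer (P : Set G) := by
      have h := Subgroup.le_normalizer_map (H := P') H.subtype
      rw [Subgroup.normalizer_eq_top_iff.2 hP'n, ← MonoidHom.range_eq_map,
        Subgroup.range_subtype] at h
      exact h
    have hPcard : Nat.card P = Nat.card P' :=
      Subgroup.card_map_of_injective H.subtype_injective
    have hP1 : Nat.card P ∣ Nat.card H := Subgroup.card_dvd_of_le hPH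
    have hpN : ¬ p ∣ Nat.card N := by
      obtain ⟨k, hk⟩ := IsPGroup.iff_card.1 hPp
      have hk0 : k ≠ 0 := by
        rintro rfl
        rw [hPcard, pow_zero] at hk
        exact hP'0 (Subgroup.eq_bot_of_card_eq P' hk)
      exact fun h => Nat.not_coprime_of_dvd_of_dvd hp.one_lt
        ((dvd_pow_self p hk0).trans (hk ▸ hP1)) h hH
    -- the corresponding subgroup of `K`
    let Q : Subgroup G := (P ⊔ N) ⊓ K
    have hPQ : Q ⊔ N = P ⊔ N := by
      refine le_antisymm (sup_le inf_le_left le_sup_right) ?_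
      have h2 : P ⊔ N ≤ K ⊔ N := sup_le ((hPH.trans le_sup_left).trans hsup.le) le_sup_right
      intro x hx
      obtain ⟨k, hk, m, hm, rfl⟩ := Subgroup.mem_sup_of_normal_right.1 (h2 hx)
      refine Subgroup.mul_mem_sup ⟨?_, hk⟩ hm
      simpa using mul_mem hx ((le_sup_right : N ≤ P ⊔ N) (inv_mem hm))
    have hPN : P ⊓ N = ⊥ := inf_eq_bot_of_coprime (hH.coprime_dvd_left hP1)
    have hQN : Q ⊓ N = ⊥ :=
      inf_eq_bot_of_coprime (hK.coprime_dvd_left (Subgroup.card_dvd_of_le inf_le_right))
    have hQcard : Nat.card Q = Nat.card P := by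
      have h1 := card_sup_of_disjoint Q N hQN
      rw [hPQ, card_sup_of_disjoint P N hPN] at h1
      exact (Nat.eq_of_mul_eq_mul_right Nat.card_pos h1).symm
    have hPidx : ∀ R : Subgroup G, R ≤ P ⊔ N → Nat.card R = Nat.card P →
        R.relIndex (P ⊔ N) = Nat.card N := by
      intro R hR hRc
      have h1 := Subgroup.relIndex_mul_relIndex ⊥ R (P ⊔ N) bot_le hR
      rw [Subgroup.relIndex_bot_left, Subgroup.relIndex_bot_left, hRc,
        card_sup_of_disjoint P N hPN] at h1
      exact Nat.eq_of_mul_eq_mul_left Nat.card_pos h1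
    have hQp : IsPGroup p Q := by
      obtain ⟨k, hk⟩ := IsPGroup.iff_card.1 hPp
      exact IsPGroup.of_card (hQcard.trans hk)
    obtain ⟨t, ht, htPQ⟩ := exists_conj_of_pGroup hPp hQp le_sup_left inf_le_left
      (by rw [hPidx P le_sup_left rfl]; exact hpN) (by rw [hPidx Q inf_le_left hQcard]; exact hpN)
    obtain ⟨a, ha, b, hb, rfl⟩ := Subgroup.mem_sup_of_normal_left.1
      (sup_comm P N ▸ ht : t ∈ N ⊔ P)
    rw [← conj_conj, conj_eq_self hb] at htPQ
    -- replace `H` by a conjugate, so that `Q` lies in both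
    have hQH : Q ≤ MulAut.conj a • H := htPQ ▸ conj_mono a hPH
    have hH'Q : MulAut.conj a • H ≤ Subgroup.normalizer (Q : Set G) := by
      intro x hx
      rw [mem_conj_iff] at hx
      have h1 := mem_normalizer_iff_conj.1 (hPH' hx)
      rw [mem_normalizer_iff_conj, ← htPQ, conj_conj]
      calc MulAut.conj (x * a) • P = MulAut.conj (a * (a⁻¹ * x * a)) • P := by congr 2; group
        _ = MulAut.conj a • P := by rw [← conj_conj, h1]
    have hKQ : K ≤ Subgroup.normalizer (Q : Set G) := by
      intro x hx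
      rw [mem_normalizer_iff_conj, Subgroup.smul_inf, conj_eq_self hx]
      have hx' : x ∈ H ⊔ N := hsup ▸ (le_sup_left : K ≤ K ⊔ N) hx
      obtain ⟨y, hy, m, hm, rfl⟩ := Subgroup.mem_sup_of_normal_right.1 hx'
      rw [← conj_conj, conj_eq_self ((le_sup_right : N ≤ P ⊔ N) hm), Subgroup.smul_sup,
        conj_normal _ N, mem_normalizer_iff_conj.1 (hPH' hy)]
    let L := Subgroup.normalizer (Q : Set G)
    let H₁ := MulAut.conj a • H
    let Q₁ := Q.subgroupOf L
    have : Q₁.Normal := Subgroup.normal_in_normalizer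
    let f := QuotientGroup.mk' Q₁
    have hf : f.ker = Q₁ := QuotientGroup.ker_mk' _
    have hH₁sup : H₁ ⊔ N = K ⊔ N := by
      have := congrArg (MulAut.conj a • ·) hsup
      simp only [Subgroup.smul_sup, conj_normal] at this
      rw [this]
      refine le_antisymm (sup_le ?_ le_sup_right) (sup_le ?_ le_sup_right)
      · intro x hx
        rw [mem_conj_iff] at hx
        have haN : a ∈ K ⊔ N := (le_sup_right : N ≤ _) ha
        have hxK : a⁻¹ * x * a ∈ K ⊔ N := (le_sup_left : K ≤ _) hx
        have h2 := mul_mem (mul_mem haN hxK) (inv_mem haN)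
        simpa [mul_assoc] using h2
      · intro x hx
        have haN : a ∈ MulAut.conj a • K ⊔ N := (le_sup_right : N ≤ _) ha
        have h1 : MulAut.conj a x ∈ MulAut.conj a • K ⊔ N :=
          (le_sup_left : MulAut.conj a • K ≤ _) (Subgroup.smul_mem_pointwise_smul x _ K hx)
        have h2 := mul_mem (mul_mem (inv_mem haN) h1) haN
        simpa [MulAut.conj_apply, mul_assoc] using h2
    have hsupL : H₁.subgroupOf L ⊔ N.subgroupOf L = K.subgroupOf L ⊔ N.subgroupOf L := by
      refine Subgroup.map_injective L.subtype_injective ?_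
      simp only [Subgroup.map_sup, Subgroup.subgroupOf_map_subtype]
      rw [inf_of_le_left hH'Q, inf_of_le_left hKQ, ← sup_inf_assoc _ N L hH'Q,
        ← sup_inf_assoc _ N L hKQ, hH₁sup]
    have eH₁ : Nat.card ↥(H₁.subgroupOf L) = Nat.card H :=
      (Nat.card_congr (Subgroup.subgroupOfEquivOfLe hH'Q).toEquiv).trans (card_conj _ _)
    have eK₁ : Nat.card ↥(K.subgroupOf L) = Nat.card K :=
      Nat.card_congr (Subgroup.subgroupOfEquivOfLe hKQ).toEquiv
    have dN : Nat.card ↥((N.subgroupOf L).map f) ∣ Nat.card N :=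
      (Subgroup.card_map_dvd _ f).trans <| by
        rw [← Subgroup.card_map_of_injective (K := N.subgroupOf L) L.subtype_injective,
          Subgroup.subgroupOf_map_subtype]
        exact Subgroup.card_dvd_of_le inf_le_left
    have hlt : Nat.card ↥((H₁.subgroupOf L).map f) < Nat.card H := by
      have h1 := card_eq_card_map_mul f (H₁.subgroupOf L)
      rw [hf, inf_of_le_right (fun x hx => hQH hx : Q₁ ≤ H₁.subgroupOf L), eH₁,
        Nat.card_congr (Subgroup.subgroupOfEquivOfLe (Subgroup.le_normalizer (H := Q))).toEquiv,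
        hQcard, hPcard] at h1
      rw [h1]
      exact lt_mul_of_one_lt_right Nat.card_pos ((Subgroup.one_lt_card_iff_ne_bot _).2 hP'0)
    have : Group.IsSolvable ↥H₁ := isSolvable_conj a H
    have : Group.IsSolvable ↥(H₁.subgroupOf L) := isSolvable_subgroupOf L
    have : Group.IsSolvable ↥((H₁.subgroupOf L).map f) := isSolvable_map f _
    have : ((N.subgroupOf L).map f).Normal :=
      (inferInstance : (N.subgroupOf L).Normal).map _ (QuotientGroup.mk'_surjective _)
    obtain ⟨_, ⟨m, hm, rfl⟩, hconj⟩ := ih _ hlt ((N.subgroupOf L).map f) ((H₁.subgroupOf L).map f)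
      ((K.subgroupOf L).map f) rfl
      (by rw [← Subgroup.map_sup, hsupL, Subgroup.map_sup])
      (((eH₁ ▸ hH).coprime_dvd_left (Subgroup.card_map_dvd _ f)).coprime_dvd_right dN)
      (((eK₁ ▸ hK).coprime_dvd_left (Subgroup.card_map_dvd _ f)).coprime_dvd_right dN)
    rw [← map_conj] at hconj
    have h5 := sup_eq_sup_of_map_eq hconj
    have hmQ : Q₁ ≤ MulAut.conj m • H₁.subgroupOf L := by
      rw [← conj_normal m Q₁]
      exact conj_mono m (fun x hx => hQH hx)
    rw [sup_of_le_left hmQ,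
      sup_of_le_left (fun x hx => (Subgroup.mem_subgroupOf.1 hx).2 : Q₁ ≤ K.subgroupOf L)] at h5
    refine ⟨m * a, mul_mem hm ha, ?_⟩
    have h6 := congrArg (Subgroup.map L.subtype) h5
    rw [map_conj, Subgroup.map_subgroupOf_eq_of_le hH'Q,
      Subgroup.map_subgroupOf_eq_of_le hKQ, conj_conj] at h6
    exact h6

/-- **Schur–Zassenhaus conjugacy**, relative form. -/
theorem exists_conj_of_sup_eq [Finite G] {N : Subgroup G} [N.Normal] {H K : Subgroup G}
    (hs : Group.IsSolvable N ∨ Group.IsSolvable H) (hsup : H ⊔ N = K ⊔ N)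
    (hH : (Nat.card H).Coprime (Nat.card N)) (hK : (Nat.card K).Coprime (Nat.card N)) :
    ∃ n ∈ N, MulAut.conj n • H = K := by
  rcases hs with hs | hs
  · exact exists_conj_of_sup_eq_of_solvable_left hsup hH hK
  · exact sz_aux _ N H K rfl hsup hH hK

theorem sup_eq_top_of_card_eq_index [Finite G] {N : Subgroup G} [N.Normal]
    (hN : (Nat.card N).Coprime N.index) {H : Subgroup G} (hH : Nat.card H = N.index) : H ⊔ N = ⊤ := by
  refine Subgroup.eq_top_of_card_eq _ ?_
  rw [card_sup_of_disjoint H N (inf_eq_bot_of_coprime (hH ▸ hN.symm)), hH, Subgroup.index_mul_card]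

theorem isSolvable_of_isSolvable_quotient [Finite G] {N : Subgroup G} [N.Normal]
    (hN : (Nat.card N).Coprime N.index) {H : Subgroup G} (hH : Nat.card H = N.index)
    (hs : Group.IsSolvable (G ⧸ N)) : Group.IsSolvable H := by
  refine Group.isSolvable_of_isSolvable_injective (f := (QuotientGroup.mk' N).comp H.subtype) ?_
  refine (injective_iff_map_eq_one _).2 fun x hx => Subtype.ext ?_
  have hb : H ⊓ N = ⊥ := inf_eq_bot_of_coprime (hH ▸ hN.symm)
  exact Subgroup.mem_bot.1 (hb ▸ (⟨x.2, (QuotientGroup.eq_one_iff (x : G)).1 hx⟩ : (x : G) ∈ H ⊓ N))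

/-- **Schur–Zassenhaus conjugacy** for complements of a normal Hall subgroup, given by their orders. -/
theorem exists_conj_of_card_eq_index [Finite G] {N : Subgroup G} [N.Normal]
    (hN : (Nat.card N).Coprime N.index) (hs : Group.IsSolvable N ∨ Group.IsSolvable (G ⧸ N))
    {H K : Subgroup G} (hH : Nat.card H = N.index) (hK : Nat.card K = N.index) :
    ∃ n ∈ N, MulAut.conj n • H = K :=
  exists_conj_of_sup_eq (hs.imp_right (isSolvable_of_isSolvable_quotient hN hH))
    (by rw [sup_eq_top_of_card_eq_index hN hH, sup_eq_top_of_card_eq_index hN hK])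
    (hH ▸ hN.symm) (hK ▸ hN.symm)

theorem exists_conj_of_isComplement' [Finite G] {N : Subgroup G} [N.Normal]
    (hN : (Nat.card N).Coprime N.index) (hs : Group.IsSolvable N ∨ Group.IsSolvable (G ⧸ N))
    {H K : Subgroup G} (hH : Subgroup.IsComplement' N H) (hK : Subgroup.IsComplement' N K) :
    ∃ n ∈ N, MulAut.conj n • H = K :=
  exists_conj_of_card_eq_index hN hs hH.symm.index_eq_card.symm hK.symm.index_eq_card.symm

end Cfsg.Agent.Solvable
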