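import Cfsg.Agent.EqLemmas

/-!
# Basic lemmas for the theory of finite solvable groups (owner: helper2)

* conjugates: `card_conj`, `index_conj`, `map_conj`, `conj_conj`, `mem_normalizer_iff_conj`, `conj_eq_self`
* orders: `card_eq_card_map_mul`, `card_map_of_disjoint`, `card_sup_mul_card_inf`, `card_sup_of_disjoint`,
  `sup_inf_assoc` (Dedekind)
* π-numbers: `IsPiNum`
* minimal normal subgroups: `exists_minimal_normal`, `elementaryAbelian_of_minimal_normal`,
  `exists_normal_pGroup_ne_bot`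
* solvability: `isSolvable_of_le`, `isSolvable_map`, `isSolvable_sup`
-/

open Pointwise

namespace Cfsg.Agent.Solvable

variable {G G' : Type*} [Group G] [Group G']

section Conj

theorem conj_eq_map (g : G) (H : Subgroup G) :
    MulAut.conj g • H = H.map (MulAut.conj g).toMonoidHom := rfl

theorem mem_conj_iff (g x : G) (H : Subgroup G) :
    x ∈ MulAut.conj g • H ↔ g⁻¹ * x * g ∈ H := by
  rw [Subgroup.mem_pointwise_smul_iff_inv_smul_mem, ← map_inv]
  simp [MulAut.smul_def]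

theorem card_conj (g : G) (H : Subgroup G) : Nat.card ↥(MulAut.conj g • H) = Nat.card H :=
  (Nat.card_congr (Subgroup.equivSMul (MulAut.conj g) H).toEquiv).symm

theorem index_conj (g : G) (H : Subgroup G) : (MulAut.conj g • H).index = H.index :=
  Subgroup.index_map_equiv H (MulAut.conj g)

theorem conj_conj (a b : G) (H : Subgroup G) :
    MulAut.conj a • MulAut.conj b • H = MulAut.conj (a * b) • H := by
  rw [← mul_smul, ← map_mul]

theorem conj_one_smul (H : Subgroup G) : MulAut.conj (1 : G) • H = H := by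
  rw [map_one, one_smul]

theorem conj_inv_smul (g : G) (H : Subgroup G) : MulAut.conj g⁻¹ • MulAut.conj g • H = H := by
  rw [conj_conj, inv_mul_cancel, conj_one_smul]

theorem eq_conj_inv {g : G} {H K : Subgroup G} (h : MulAut.conj g • H = K) :
    MulAut.conj g⁻¹ • K = H := by
  rw [← h, conj_inv_smul]

theorem conj_mono (g : G) {H K : Subgroup G} (h : H ≤ K) : MulAut.conj g • H ≤ MulAut.conj g • K :=
  Subgroup.map_mono h

theorem map_conj (f : G →* G') (g : G) (H : Subgroup G) :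
    (MulAut.conj g • H).map f = MulAut.conj (f g) • H.map f := by
  rw [conj_eq_map, conj_eq_map, Subgroup.map_map, Subgroup.map_map]
  congr 1
  ext x
  simp

theorem mem_normalizer_iff_conj {g : G} {H : Subgroup G} :
    g ∈ Subgroup.normalizer (H : Set G) ↔ MulAut.conj g • H = H :=
  Subgroup.mem_normalizer_iff_map_conj_eq

theorem conj_eq_self {g : G} {H : Subgroup G} (hg : g ∈ H) : MulAut.conj g • H = H :=
  Subgroup.conj_smul_eq_self_of_mem hg

theorem conj_normal (g : G) (N : Subgroup G) [N.Normal] : MulAut.conj g • N = N :=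
  Subgroup.Normal.conj_smul_eq_self g N

theorem isSolvable_conj (g : G) (H : Subgroup G) [Group.IsSolvable H] :
    Group.IsSolvable ↥(MulAut.conj g • H) :=
  Group.isSolvable_of_surjective (f := (Subgroup.equivSMul (MulAut.conj g) H).toMonoidHom)
    (Subgroup.equivSMul (MulAut.conj g) H).surjective

end Conj

section Card

theorem card_eq_card_map_mul (f : G →* G') (H : Subgroup G) :
    Nat.card H = Nat.card (H.map f) * Nat.card ↥(H ⊓ f.ker) := by
  rw [← Subgroup.relIndex_ker, mul_comm, ← Subgroup.inf_relIndex_right, inf_comm f.ker,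
    ← Subgroup.relIndex_bot_left (H ⊓ f.ker), Subgroup.relIndex_mul_relIndex _ _ _ bot_le inf_le_left,
    Subgroup.relIndex_bot_left]

theorem card_map_of_disjoint (f : G →* G') (H : Subgroup G) (h : H ⊓ f.ker = ⊥) :
    Nat.card (H.map f) = Nat.card H := by
  rw [card_eq_card_map_mul f H, h, Subgroup.card_bot, mul_one]

theorem card_sup_mul_card_inf (H N : Subgroup G) [N.Normal] :
    Nat.card ↥(H ⊔ N) * Nat.card ↥(H ⊓ N) = Nat.card H * Nat.card N := by
  have h1 := card_eq_card_map_mul (QuotientGroup.mk' N) H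
  have h2 := card_eq_card_map_mul (QuotientGroup.mk' N) (H ⊔ N)
  rw [QuotientGroup.ker_mk'] at h1 h2
  rw [Subgroup.map_sup, (Subgroup.map_eq_bot_iff N).2 (QuotientGroup.ker_mk' N).ge, sup_bot_eq,
    inf_of_le_right (le_sup_right : N ≤ H ⊔ N)] at h2
  rw [h1, h2]
  ring

theorem card_sup_of_disjoint (H N : Subgroup G) [N.Normal] (h : H ⊓ N = ⊥) :
    Nat.card ↥(H ⊔ N) = Nat.card H * Nat.card N := by
  have := card_sup_mul_card_inf H N
  rwa [h, Subgroup.card_bot, mul_one] at this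

theorem card_sup_dvd (H N : Subgroup G) [N.Normal] :
    Nat.card ↥(H ⊔ N) ∣ Nat.card H * Nat.card N :=
  ⟨_, (card_sup_mul_card_inf H N).symm⟩

theorem inf_eq_bot_of_coprime {H K : Subgroup G} (h : (Nat.card H).Coprime (Nat.card K)) :
    H ⊓ K = ⊥ :=
  disjoint_iff.1 (Subgroup.disjoint_of_coprime_natCard h)

/-- Dedekind's law for a normal subgroup. -/
theorem sup_inf_assoc (A N L : Subgroup G) [N.Normal] (hA : A ≤ L) :
    (A ⊔ N) ⊓ L = A ⊔ N ⊓ L := by
  refine le_antisymm ?_ (le_inf (sup_le_sup_left inf_le_left _) (sup_le hA inf_le_right))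
  rintro x ⟨hx, hxL⟩
  obtain ⟨a, ha, n, hn, rfl⟩ := Subgroup.mem_sup_of_normal_right.1 hx
  exact Subgroup.mul_mem_sup ha ⟨hn, by simpa using mul_mem (inv_mem (hA ha)) hxL⟩

theorem map_mk'_ne_bot {H N : Subgroup G} [N.Normal] (h : ¬ H ≤ N) :
    H.map (QuotientGroup.mk' N) ≠ ⊥ := fun h' =>
  h (by simpa using (Subgroup.map_eq_bot_iff H).1 h')

theorem eq_of_map_eq {f : G →* G'} {H K : Subgroup G} (hH : f.ker ≤ H) (hK : f.ker ≤ K)
    (h : H.map f = K.map f) : H = K := by
  rw [← Subgroup.comap_map_eq_self hH, ← Subgroup.comap_map_eq_self hK, h]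

theorem sup_eq_sup_of_map_eq {N H K : Subgroup G} [N.Normal]
    (h : H.map (QuotientGroup.mk' N) = K.map (QuotientGroup.mk' N)) : H ⊔ N = K ⊔ N := by
  have := Subgroup.map_eq_map_iff.1 h
  rwa [QuotientGroup.ker_mk'] at this

theorem map_eq_map_of_sup_eq {N H K : Subgroup G} [N.Normal] (h : H ⊔ N = K ⊔ N) :
    H.map (QuotientGroup.mk' N) = K.map (QuotientGroup.mk' N) :=
  Subgroup.map_eq_map_iff.2 (by rwa [QuotientGroup.ker_mk'])

theorem exists_eq_map_mk' (N : Subgroup G) [N.Normal] (Q : Subgroup (G ⧸ N)) :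
    ∃ H : Subgroup G, N ≤ H ∧ H.map (QuotientGroup.mk' N) = Q :=
  ⟨Q.comap (QuotientGroup.mk' N), QuotientGroup.le_comap_mk' N Q,
    Subgroup.map_comap_eq_self_of_surjective (QuotientGroup.mk'_surjective N) Q⟩

theorem card_quotient_lt [Finite G] {N : Subgroup G} (hN : N ≠ ⊥) :
    Nat.card (G ⧸ N) < Nat.card G := by
  rw [Subgroup.card_eq_card_quotient_mul_card_subgroup N]
  exact lt_mul_of_one_lt_right Nat.card_pos (N.one_lt_card_iff_ne_bot.2 hN)

theorem card_lt_of_ne_top [Finite G] {H : Subgroup G} (hH : H ≠ ⊤) : Nat.card H < Nat.card G :=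
  (Subgroup.card_le_card_group H).lt_of_ne fun h => hH (Subgroup.eq_top_of_card_eq H h)

end Card

section PiNum

/-- `n` is a π-number: all its prime divisors lie in `π`. -/
def IsPiNum (π : Set ℕ) (n : ℕ) : Prop := ∀ p : ℕ, p.Prime → p ∣ n → p ∈ π

variable {π : Set ℕ} {m n : ℕ}

theorem IsPiNum.of_dvd (h : IsPiNum π n) (hd : m ∣ n) : IsPiNum π m :=
  fun p hp hpm => h p hp (hpm.trans hd)

theorem IsPiNum.mul (hm : IsPiNum π m) (hn : IsPiNum π n) : IsPiNum π (m * n) :=
  fun p hp h => (hp.dvd_mul.1 h).elim (hm p hp) (hn p hp)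

theorem isPiNum_one : IsPiNum π 1 := fun p hp h => absurd (Nat.dvd_one.1 h) hp.ne_one

theorem isPiNum_pow {p : ℕ} (hp : p.Prime) (hπ : p ∈ π) (k : ℕ) : IsPiNum π (p ^ k) :=
  fun _ hq h => ((Nat.prime_dvd_prime_iff_eq hq hp).1 (hq.dvd_of_dvd_pow h)) ▸ hπ

theorem IsPiNum.coprime (hm : IsPiNum π m) (hn : IsPiNum πᶜ n) : m.Coprime n :=
  Nat.coprime_of_dvd fun p hp h1 h2 => hn p hp h2 (hm p hp h1)

theorem IsPiNum.eq_one (hm : IsPiNum π m) (hm' : IsPiNum πᶜ m) : m = 1 := by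
  simpa [Nat.coprime_self] using hm.coprime hm'

theorem IsPiNum.mono {σ : Set ℕ} (h : IsPiNum π n) (hs : π ⊆ σ) : IsPiNum σ n :=
  fun p hp hpn => hs (h p hp hpn)

theorem isPiNum_of_isPGroup [Finite G] {p : ℕ} [hp : Fact p.Prime] (hG : IsPGroup p G) (hπ : p ∈ π) :
    IsPiNum π (Nat.card G) := by
  obtain ⟨k, hk⟩ := IsPGroup.iff_card.1 hG
  rw [hk]
  exact isPiNum_pow hp.out hπ k

theorem isPiNum_primeFactors (hn : n ≠ 0) : IsPiNum (n.primeFactors : Set ℕ) n :=
  fun _ hp h => Nat.mem_primeFactors.2 ⟨hp, h, hn⟩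

theorem isPiNum_compl_primeFactors (h : m.Coprime n) : IsPiNum (m.primeFactors : Set ℕ)ᶜ n :=
  fun _ hp h1 h2 => Nat.not_coprime_of_dvd_of_dvd hp.one_lt
    (Nat.mem_primeFactors.1 h2).2.1 h1 h

theorem isPiHall_iff {H : Subgroup G} :
    Cfsg.IsPiHall π H ↔ IsPiNum π (Nat.card H) ∧ IsPiNum πᶜ H.index :=
  ⟨fun h => ⟨h.1, fun p hp hd hπ => h.2 p hp hπ hd⟩, fun h => ⟨h.1, fun p hp hπ hd => h.2 p hp hd hπ⟩⟩

theorem isPiNum_card_sup [Finite G] {H N : Subgroup G} [N.Normal]
    (hH : IsPiNum π (Nat.card H)) (hN : IsPiNum π (Nat.card N)) :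
    IsPiNum π (Nat.card ↥(H ⊔ N)) :=
  (hH.mul hN).of_dvd (card_sup_dvd H N)

end PiNum

section Solvable

theorem isSolvable_of_le {H K : Subgroup G} (h : H ≤ K) [Group.IsSolvable K] : Group.IsSolvable H :=
  Group.isSolvable_of_isSolvable_injective (Subgroup.inclusion_injective h)

theorem isSolvable_map (f : G →* G') (H : Subgroup G) [Group.IsSolvable H] :
    Group.IsSolvable (H.map f) :=
  Group.isSolvable_of_surjective (f.subgroupMap_surjective H)

theorem isSolvable_of_isPGroup [Finite G] {p : ℕ} [Fact p.Prime] (h : IsPGroup p G) :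
    Group.IsSolvable G :=
  have := h.isNilpotent
  inferInstance

theorem isSolvable_subgroupOf {H : Subgroup G} [Group.IsSolvable H] (L : Subgroup G) :
    Group.IsSolvable ↥(H.subgroupOf L) := by
  have : Group.IsSolvable ↥(H ⊓ L) := isSolvable_of_le inf_le_left
  let f : ↥(H.subgroupOf L) →* ↥(H ⊓ L) :=
    ((L.subtype).comp (H.subgroupOf L).subtype).codRestrict _ fun x => ⟨x.2, x.1.2⟩
  refine Group.isSolvable_of_isSolvable_injective (f := f) fun x y h => ?_
  exact Subtype.ext (Subtype.ext (congrArg (fun z : ↥(H ⊓ L) => (z : G)) h))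

theorem isSolvable_subgroup_quotient_iff (N : Subgroup G) [N.Normal] :
    Group.IsSolvable G ↔ Group.IsSolvable N ∧ Group.IsSolvable (G ⧸ N) :=
  Group.isSolvable_iff_subgroup_quotient N

theorem isSolvable_sup (H N : Subgroup G) [N.Normal] [Group.IsSolvable H] [Group.IsSolvable N] :
    Group.IsSolvable ↥(H ⊔ N) := by
  let f := (QuotientGroup.mk' N).subgroupMap (H ⊔ N)
  have hmap : (H ⊔ N).map (QuotientGroup.mk' N) = H.map (QuotientGroup.mk' N) :=
    map_eq_map_of_sup_eq (by rw [sup_assoc, sup_idem])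
  have : Group.IsSolvable ↥((H ⊔ N).map (QuotientGroup.mk' N)) := by
    rw [hmap]; exact isSolvable_map _ H
  refine Group.isSolvable_of_ker_le_range (Subgroup.inclusion (le_sup_right : N ≤ H ⊔ N)) f ?_
  intro x hx
  have hxN : (x : G) ∈ N := by
    have := congrArg (fun z : ↥((H ⊔ N).map (QuotientGroup.mk' N)) => (z : G ⧸ N)) hx
    exact (QuotientGroup.eq_one_iff (x : G)).1 this
  exact ⟨⟨x, hxN⟩, Subtype.ext rfl⟩

theorem commutator_lt_of_solvable {N : Subgroup G} [hs : Group.IsSolvable N] (hN : N ≠ ⊥) :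
    ⁅N, N⁆ < N := by
  have : Nontrivial N := (Subgroup.nontrivial_iff_ne_bot N).2 hN
  rw [← Subgroup.map_subtype_commutator]
  refine lt_of_le_of_ne (Subgroup.map_subtype_le _) fun h => ?_
  have h2 : (commutator N).map N.subtype = (⊤ : Subgroup N).map N.subtype := by
    rw [h, ← MonoidHom.range_eq_map, Subgroup.range_subtype]
  exact (hs.commutator_lt_top_of_nontrivial).ne (Subgroup.map_injective N.subtype_injective h2)

end Solvable

section MinimalNormal

/-- Below every nontrivial normal subgroup of a finite group lies a minimal normal subgroup. -/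
theorem exists_minimal_normal [Finite G] {N : Subgroup G} [hN : N.Normal] (h : N ≠ ⊥) :
    ∃ M : Subgroup G, M.Normal ∧ M ≠ ⊥ ∧ M ≤ N ∧
      ∀ K : Subgroup G, K.Normal → K ≤ M → K = ⊥ ∨ K = M := by
  obtain ⟨M, ⟨⟨hM1, hM2, hM3⟩, hmin⟩⟩ := wellFounded_lt.has_min
    {K : Subgroup G | K.Normal ∧ K ≠ ⊥ ∧ K ≤ N} ⟨N, hN, h, le_rfl⟩
  refine ⟨M, hM1, hM2, hM3, fun K hK hKM => or_iff_not_imp_left.2 fun hK0 => ?_⟩
  exact eq_of_le_of_not_lt hKM (hmin K ⟨hK, hK0, hKM.trans hM3⟩)

/-- A solvable minimal normal subgroup of a finite group is an elementary abelian `p`-group. -/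
theorem elementaryAbelian_of_minimal_normal [Finite G] (N : Subgroup G) [N.Normal]
    [Group.IsSolvable N] (hN : N ≠ ⊥)
    (hmin : ∀ M : Subgroup G, M.Normal → M ≤ N → M = ⊥ ∨ M = N) :
    IsMulCommutative N ∧ ∃ p : ℕ, p.Prime ∧ IsPGroup p N ∧ ∀ x ∈ N, x ^ p = 1 := by
  have hlt := commutator_lt_of_solvable hN
  have hcomm : ∀ a ∈ N, ∀ b ∈ N, a * b = b * a := by
    intro a ha b hb
    have h0 : ⁅N, N⁆ = ⊥ := (hmin _ inferInstance hlt.le).resolve_right hlt.ne
    have := Subgroup.commutator_mem_commutator ha hb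
    rw [h0, Subgroup.mem_bot, commutatorElement_eq_one_iff_mul_comm] at this
    exact this
  refine ⟨⟨⟨fun a b => Subtype.ext (hcomm _ a.2 _ b.2)⟩⟩, ?_⟩
  have : Nontrivial N := (Subgroup.nontrivial_iff_ne_bot N).2 hN
  obtain ⟨p, hp, hdvd⟩ := Nat.exists_prime_and_dvd (Finite.one_lt_card (α := N)).ne'
  have := Fact.mk hp
  let Ω : Subgroup G :=
    { carrier := {x | x ∈ N ∧ x ^ p = 1}
      one_mem' := ⟨one_mem _, one_pow _⟩
      mul_mem' := fun {a b} ha hb => ⟨mul_mem ha.1 hb.1, by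
        rw [Commute.mul_pow (hcomm a ha.1 b hb.1), ha.2, hb.2, one_mul]⟩
      inv_mem' := fun {a} ha => ⟨inv_mem ha.1, by rw [inv_pow, ha.2, inv_one]⟩ }
  have hΩn : Ω.Normal := ⟨fun x hx g => ⟨Subgroup.Normal.conj_mem ‹N.Normal› x hx.1 g, by
    rw [conj_pow, hx.2, mul_one, mul_inv_cancel]⟩⟩
  obtain ⟨x, hx⟩ := exists_prime_orderOf_dvd_card' p hdvd
  have hΩ : Ω = N := by
    refine (hmin Ω hΩn (fun y hy => hy.1)).resolve_left fun h0 => ?_
    have hxΩ : (x : G) ∈ Ω := ⟨x.2, by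
      rw [← Subgroup.coe_pow, ← hx, pow_orderOf_eq_one, Subgroup.coe_one]⟩
    rw [h0, Subgroup.mem_bot, OneMemClass.coe_eq_one] at hxΩ
    rw [hxΩ, orderOf_one] at hx
    exact hp.ne_one hx.symm
  have hall : ∀ y ∈ N, y ^ p = 1 := fun y hy => (hΩ ▸ hy : y ∈ Ω).2
  exact ⟨p, hp, fun y => ⟨1, Subtype.ext (by simpa using hall y y.2)⟩, hall⟩

/-- A nontrivial normal solvable subgroup contains a nontrivial normal abelian `p`-subgroup which is
minimal normal. -/
theorem exists_minimal_normal_pGroup [Finite G] {N : Subgroup G} [N.Normal] [Group.IsSolvable N]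
    (h : N ≠ ⊥) :
    ∃ p : ℕ, p.Prime ∧ ∃ M : Subgroup G, M.Normal ∧ M ≠ ⊥ ∧ M ≤ N ∧ IsMulCommutative M ∧
      IsPGroup p M ∧ (∀ x ∈ M, x ^ p = 1) ∧
      ∀ K : Subgroup G, K.Normal → K ≤ M → K = ⊥ ∨ K = M := by
  obtain ⟨M, hMn, hM0, hMN, hmin⟩ := exists_minimal_normal h
  have : Group.IsSolvable M := isSolvable_of_le hMN
  obtain ⟨hc, p, hp, hpg, hexp⟩ := elementaryAbelian_of_minimal_normal M hM0 hmin
  exact ⟨p, hp, M, hMn, hM0, hMN, hc, hpg, hexp, hmin⟩

/-- A nontrivial solvable group has a nontrivial normal `p`-subgroup for some prime `p`. -/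
theorem exists_normal_pGroup_ne_bot (G : Type*) [Group G] [Finite G] [Group.IsSolvable G]
    [Nontrivial G] :
    ∃ p : ℕ, p.Prime ∧ ∃ M : Subgroup G, M.Normal ∧ M ≠ ⊥ ∧ IsPGroup p M := by
  obtain ⟨p, hp, M, h1, h2, -, -, h3, -⟩ :=
    exists_minimal_normal_pGroup (N := (⊤ : Subgroup G)) (by
      have : Nontrivial (Subgroup G) := inferInstance
      exact top_ne_bot)
  exact ⟨p, hp, M, h1, h2, h3⟩

end MinimalNormal

end Cfsg.Agent.Solvable
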