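import Cfsg.Agent.Lib.Solvable.PiSeparable
import Cfsg.Agent.Lib.Solvable.SchurZassenhaus

/-!
# Hall's theorems (owner: helper2)

For a π-separable finite group in which all π-subgroups or all π'-subgroups are solvable (`HallHyp`),
in particular for every solvable group and every p-solvable group:
* existence `exists_piHall`, conjugacy `piHall_conj`, containment `exists_conj_ge`, `exists_piHall_ge`
* solvable versions `exists_piHall_of_solvable`, `piHall_conj_of_solvable`, `exists_conj_ge_of_solvable`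
* order versions `isPiHall_primeFactors_iff`, `exists_card_eq_of_solvable`, `conj_of_card_eq_of_solvable`
* behaviour: `isPiHall_conj`, `isPiHall_map`, `isPiHall_inf_normal`, `isPiHall_subgroupOf`, `IsPiHall.eq_of_le`
* Frattini argument `sup_normalizer_eq_top_of_hall`
-/

open Pointwise

namespace Cfsg.Agent.Solvable

variable {G G' : Type*} [Group G] [Group G'] {π : Set ℕ}

section Basic

theorem inf_sup_of_normal_le (A N L : Subgroup G) [N.Normal] (hN : N ≤ L) :
    (A ⊔ N) ⊓ L = A ⊓ L ⊔ N := by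
  refine le_antisymm ?_ (sup_le (inf_le_inf_right _ le_sup_left) (le_inf le_sup_right hN))
  rintro x ⟨hx, hxL⟩
  obtain ⟨a, ha, n, hn, rfl⟩ := Subgroup.mem_sup_of_normal_right.1 hx
  have haL : a ∈ L := by
    simpa using mul_mem (show a * n ∈ L from hxL) (inv_mem (hN hn))
  exact Subgroup.mul_mem_sup ⟨ha, haL⟩ hn

theorem isPiHall_conj {H : Subgroup G} (h : Cfsg.IsPiHall π H) (g : G) :
    Cfsg.IsPiHall π (MulAut.conj g • H) := by
  rw [isPiHall_iff] at h ⊢
  rwa [card_conj, index_conj]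

theorem isPiHall_map {H : Subgroup G} (h : Cfsg.IsPiHall π H) {f : G →* G'}
    (hf : Function.Surjective f) : Cfsg.IsPiHall π (H.map f) := by
  rw [isPiHall_iff] at h ⊢
  exact ⟨h.1.of_dvd (Subgroup.card_map_dvd H f), h.2.of_dvd (Subgroup.index_map_dvd H hf)⟩

/-- A Hall π-subgroup is contained in no larger π-subgroup. -/
theorem eq_of_le_of_isPiNum [Finite G] {H K : Subgroup G} (h : Cfsg.IsPiHall π H) (hle : H ≤ K)
    (hK : IsPiNum π (Nat.card K)) : H = K := by
  refine le_antisymm hle (Subgroup.relIndex_eq_one.1 ?_)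
  exact (hK.of_dvd (H.relIndex_dvd_card K)).eq_one
    ((isPiHall_iff.1 h).2.of_dvd (Subgroup.relIndex_dvd_index_of_le hle))

theorem le_of_isPiHall_of_normal [Finite G] {H N : Subgroup G} [N.Normal] (h : Cfsg.IsPiHall π H)
    (hN : IsPiNum π (Nat.card N)) : N ≤ H := by
  rw [eq_of_le_of_isPiNum h le_sup_left (isPiNum_card_sup (isPiHall_iff.1 h).1 hN)]
  exact le_sup_right

theorem card_eq_of_isPiHall [Finite G] {H K : Subgroup G} (hH : Cfsg.IsPiHall π H)
    (hK : Cfsg.IsPiHall π K) : Nat.card H = Nat.card K := by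
  rw [isPiHall_iff] at hH hK
  refine Nat.dvd_antisymm ((hH.1.coprime hK.2).dvd_of_dvd_mul_right ?_)
    ((hK.1.coprime hH.2).dvd_of_dvd_mul_right ?_)
  · exact Subgroup.card_mul_index K ▸ Subgroup.card_subgroup_dvd_card H
  · exact Subgroup.card_mul_index H ▸ Subgroup.card_subgroup_dvd_card K

theorem isPiHall_of_card_eq [Finite G] {H K : Subgroup G} (hH : Cfsg.IsPiHall π H)
    (h : Nat.card K = Nat.card H) : Cfsg.IsPiHall π K := by
  rw [isPiHall_iff] at hH ⊢
  refine ⟨h ▸ hH.1, ?_⟩
  have h1 := Subgroup.card_mul_index K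
  rw [← Subgroup.card_mul_index H, h] at h1
  rw [Nat.eq_of_mul_eq_mul_left Nat.card_pos h1]
  exact hH.2

theorem isPiHall_inf_normal [Finite G] {H N : Subgroup G} [N.Normal] (h : Cfsg.IsPiHall π H) :
    Cfsg.IsPiHallOf π (H ⊓ N) N := by
  rw [isPiHall_iff] at h
  refine ⟨inf_le_right, h.1.of_dvd (Subgroup.card_dvd_of_le inf_le_left), ?_⟩
  intro p hp hpπ hd
  refine h.2 p hp (hd.trans ?_) hpπ
  rw [Subgroup.inf_relIndex_right]
  have h1 := card_sup_mul_card_inf H N
  have h2 := Subgroup.relIndex_mul_relIndex ⊥ (H ⊓ N) N bot_le inf_le_right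
  rw [Subgroup.relIndex_bot_left, Subgroup.relIndex_bot_left, Subgroup.inf_relIndex_right] at h2
  have h3 := Subgroup.relIndex_mul_relIndex ⊥ H (H ⊔ N) bot_le le_sup_left
  rw [Subgroup.relIndex_bot_left, Subgroup.relIndex_bot_left] at h3
  rw [← h2, ← h3] at h1
  have h4 : H.relIndex (H ⊔ N) = H.relIndex N := by
    refine Nat.eq_of_mul_eq_mul_left (n := Nat.card H * Nat.card ↥(H ⊓ N))
      (Nat.mul_pos Nat.card_pos Nat.card_pos) ?_
    linarith
  rw [← h4]
  exact Subgroup.relIndex_dvd_index_of_le le_sup_left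

theorem isPiHall_subgroupOf {H L : Subgroup G} (h : Cfsg.IsPiHallOf π H L) :
    Cfsg.IsPiHall π (H.subgroupOf L) :=
  ⟨by rw [Nat.card_congr (Subgroup.subgroupOfEquivOfLe h.1).toEquiv]; exact h.2.1, h.2.2⟩

theorem isPiHallOf_map_subtype {L : Subgroup G} {H : Subgroup L} (h : Cfsg.IsPiHall π H) :
    Cfsg.IsPiHallOf π (H.map L.subtype) L := by
  refine ⟨Subgroup.map_subtype_le H, ?_, ?_⟩
  · rw [Subgroup.card_map_of_injective L.subtype_injective]; exact h.1
  · intro p hp hpπ hd
    refine h.2 p hp hpπ ?_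
    rwa [Subgroup.relIndex, Subgroup.subgroupOf,
      Subgroup.comap_map_eq_self_of_injective L.subtype_injective] at hd

/-- Lifting of subgroups over a normal subgroup of coprime order (Schur–Zassenhaus). -/
theorem exists_lift_of_coprime [Finite G] {M A : Subgroup G} [M.Normal] (hMA : M ≤ A)
    (h : (Nat.card M).Coprime (M.relIndex A)) :
    ∃ U ≤ A, Nat.card U = M.relIndex A ∧ U ⊔ M = A := by
  obtain ⟨U, hU⟩ := Subgroup.exists_left_complement'_of_coprime (N := M.subgroupOf A)
    (by rw [Nat.card_congr (Subgroup.subgroupOfEquivOfLe hMA).toEquiv]; exact h)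
  refine ⟨U.map A.subtype, Subgroup.map_subtype_le U, ?_, ?_⟩
  · rw [Subgroup.card_map_of_injective A.subtype_injective, ← hU.index_eq_card]; rfl
  · conv_rhs => rw [← A.range_subtype, MonoidHom.range_eq_map, ← hU.sup_eq_top, Subgroup.map_sup,
      Subgroup.map_subgroupOf_eq_of_le hMA]

end Basic

section Main

/-- The standing hypothesis of Hall's theorems for π-separable groups without the odd order theorem. -/
def HallHyp (π : Set ℕ) (G : Type*) [Group G] : Prop :=
  (∀ U : Subgroup G, IsPiNum π (Nat.card U) → Group.IsSolvable U) ∨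
    ∀ U : Subgroup G, IsPiNum πᶜ (Nat.card U) → Group.IsSolvable U

theorem hallHyp_of_isSolvable [Group.IsSolvable G] (π : Set ℕ) : HallHyp π G :=
  Or.inl fun _ _ => inferInstance

theorem isSolvable_of_isPiNum_singleton {p : ℕ} [hp : Fact p.Prime] [Finite G]
    (h : IsPiNum {p} (Nat.card G)) : Group.IsSolvable G := by
  refine isSolvable_of_isPGroup (IsPGroup.of_card
    (Nat.eq_prime_pow_of_unique_prime_dvd Nat.card_pos.ne' fun {q} hq hd => h q hq hd))

theorem hallHyp_singleton [Finite G] {p : ℕ} [Fact p.Prime] : HallHyp {p} G :=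
  Or.inl fun U hU => isSolvable_of_isPiNum_singleton hU

theorem hallHyp_compl_singleton [Finite G] {p : ℕ} [Fact p.Prime] : HallHyp {p}ᶜ G :=
  Or.inr fun U hU => isSolvable_of_isPiNum_singleton (by rwa [compl_compl] at hU)

theorem HallHyp.compl (h : HallHyp π G) : HallHyp πᶜ G := by
  unfold HallHyp
  rw [compl_compl]
  exact h.symm

theorem HallHyp.subgroup (h : HallHyp π G) (L : Subgroup G) : HallHyp π L := by
  refine h.imp (fun h U hU => ?_) (fun h U hU => ?_) <;>
  · have := h (U.map L.subtype) (by rwa [Subgroup.card_map_of_injective L.subtype_injective])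
    exact Group.isSolvable_of_surjective
      (f := (U.equivMapOfInjective L.subtype L.subtype_injective).symm.toMonoidHom)
      (MulEquiv.surjective _)

theorem HallHyp.quotient [Finite G] (h : HallHyp π G) (M : Subgroup G) [M.Normal]
    (hM : IsPiNum π (Nat.card M) ∨ IsPiNum πᶜ (Nat.card M)) : HallHyp π (G ⧸ M) := by
  have lift : ∀ σ : Set ℕ, (IsPiNum σ (Nat.card M) ∨ IsPiNum σᶜ (Nat.card M)) →
      (∀ U : Subgroup G, IsPiNum σ (Nat.card U) → Group.IsSolvable U) →
      ∀ Q : Subgroup (G ⧸ M), IsPiNum σ (Nat.card Q) → Group.IsSolvable Q := by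
    intro σ hMσ hsol Q hQ
    obtain ⟨A, hMA, rfl⟩ := exists_eq_map_mk' M Q
    have hA := card_eq_card_map_mul (QuotientGroup.mk' M) A
    rw [QuotientGroup.ker_mk', inf_of_le_right hMA] at hA
    rcases hMσ with hMσ | hMσ
    · have := hsol A (hA ▸ hQ.mul hMσ)
      exact isSolvable_map _ A
    · have hidx : M.relIndex A = Nat.card ↥(A.map (QuotientGroup.mk' M)) := by
        rw [← Subgroup.relIndex_ker, QuotientGroup.ker_mk']
      obtain ⟨U, -, hUc, hUM⟩ := exists_lift_of_coprime hMA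
        (by rw [hidx]; exact (hQ.coprime hMσ).symm)
      have := hsol U (by rw [hUc, hidx]; exact hQ)
      rw [map_eq_map_of_sup_eq (H := A) (K := U) (by rw [hUM, sup_of_le_left hMA])]
      exact isSolvable_map _ U
  exact h.imp (lift π hM) (lift πᶜ (by rw [compl_compl]; exact hM.symm))

private theorem hall_aux (π : Set ℕ) (n : ℕ) : ∀ (G : Type*) [Group G] [Finite G],
    Nat.card G = n → IsPiSeparable π G → HallHyp π G →
    (∃ H : Subgroup G, Cfsg.IsPiHall π H) ∧
      ∀ H U : Subgroup G, Cfsg.IsPiHall π H → IsPiNum π (Nat.card U) →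
        ∃ g : G, U ≤ MulAut.conj g • H := by
  induction n using Nat.strongRecOn with
  | _ c ih =>
    intro G _ _ hc hsep hyp
    subst hc
    rcases subsingleton_or_nontrivial G with hG | hG
    · refine ⟨⟨⊤, isPiHall_iff.2 ⟨by rw [Nat.card_unique]; exact isPiNum_one,
        by rw [Subgroup.index_top]; exact isPiNum_one⟩⟩, fun H U _ _ => ⟨1, fun x _ => ?_⟩⟩
      rw [Subsingleton.elim x 1]
      exact one_mem _
    obtain ⟨M, hMn, hM0, hMπ⟩ := hsep.exists_normal_ne_bot
    obtain ⟨⟨Hb, hHb⟩, hD⟩ := ih _ (card_quotient_lt hM0) (G ⧸ M) rfl (hsep.quotient M)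
      (hyp.quotient M hMπ)
    obtain ⟨L, hML, rfl⟩ := exists_eq_map_mk' M Hb
    rw [isPiHall_iff] at hHb
    have hLidx : (L.map (QuotientGroup.mk' M)).index = L.index :=
      Subgroup.index_map_eq L (QuotientGroup.mk'_surjective M) (by rwa [QuotientGroup.ker_mk'])
    have hL := card_eq_card_map_mul (QuotientGroup.mk' M) L
    rw [QuotientGroup.ker_mk', inf_of_le_right hML] at hL
    have hD' : ∀ H U : Subgroup G, Cfsg.IsPiHall π H → IsPiNum π (Nat.card U) →
        ∃ g : G, U ≤ MulAut.conj g • H ⊔ M := by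
      intro H U hH hU
      obtain ⟨g', hg⟩ := hD (H.map (QuotientGroup.mk' M)) (U.map (QuotientGroup.mk' M))
        (isPiHall_map hH (QuotientGroup.mk'_surjective M))
        (hU.of_dvd (Subgroup.card_map_dvd U _))
      obtain ⟨g, rfl⟩ := QuotientGroup.mk'_surjective M g'
      rw [← map_conj, Subgroup.map_le_iff_le_comap, Subgroup.comap_map_eq,
        QuotientGroup.ker_mk'] at hg
      exact ⟨g, hg⟩
    rcases hMπ with hMπ | hMπ
    · refine ⟨⟨L, isPiHall_iff.2 ⟨hL ▸ hHb.1.mul hMπ, hLidx ▸ hHb.2⟩⟩, fun H U hH hU => ?_⟩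
      obtain ⟨g, hg⟩ := hD' H U hH hU
      exact ⟨g, hg.trans (sup_le le_rfl (le_of_isPiHall_of_normal (isPiHall_conj hH g) hMπ))⟩
    · have hidx : M.relIndex L = Nat.card ↥(L.map (QuotientGroup.mk' M)) := by
        rw [← Subgroup.relIndex_ker, QuotientGroup.ker_mk']
      obtain ⟨K, hKL, hKc, -⟩ := exists_lift_of_coprime hML
        (by rw [hidx]; exact (hHb.1.coprime hMπ).symm)
      refine ⟨⟨K, isPiHall_iff.2 ⟨by rw [hKc, hidx]; exact hHb.1, ?_⟩⟩, fun H U hH hU => ?_⟩
      · have h1 := Subgroup.card_mul_index K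
        rw [← Subgroup.card_mul_index L, hL, hKc, hidx, mul_assoc] at h1
        rw [Nat.eq_of_mul_eq_mul_left Nat.card_pos h1, ← hLidx]
        exact hMπ.mul hHb.2
      obtain ⟨g, hg⟩ := hD' H U hH hU
      have hH' := (isPiHall_iff.1 (isPiHall_conj hH g)).1
      obtain ⟨m, -, hm⟩ := exists_conj_of_sup_eq (N := M) (H := U)
        (K := MulAut.conj g • H ⊓ (U ⊔ M))
        (by
          rcases hyp with h | h
          · exact Or.inr (h U hU)
          · exact Or.inl (h M hMπ))
        (by rw [← inf_sup_of_normal_le _ M (U ⊔ M) le_sup_right,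
          inf_of_le_right (sup_le hg le_sup_right)])
        (hU.coprime hMπ)
        ((hH'.of_dvd (Subgroup.card_dvd_of_le inf_le_left)).coprime hMπ)
      refine ⟨m⁻¹ * g, ?_⟩
      rw [← conj_conj, Subgroup.subset_pointwise_smul_iff, ← map_inv, inv_inv, hm]
      exact inf_le_left

theorem exists_piHall [Finite G] (hsep : IsPiSeparable π G) (hyp : HallHyp π G) :
    ∃ H : Subgroup G, Cfsg.IsPiHall π H :=
  (hall_aux π _ G rfl hsep hyp).1

theorem exists_conj_ge [Finite G] (hsep : IsPiSeparable π G) (hyp : HallHyp π G) {H U : Subgroup G}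
    (hH : Cfsg.IsPiHall π H) (hU : IsPiNum π (Nat.card U)) : ∃ g : G, U ≤ MulAut.conj g • H :=
  (hall_aux π _ G rfl hsep hyp).2 H U hH hU

theorem exists_piHall_ge [Finite G] (hsep : IsPiSeparable π G) (hyp : HallHyp π G) {U : Subgroup G}
    (hU : IsPiNum π (Nat.card U)) : ∃ H : Subgroup G, Cfsg.IsPiHall π H ∧ U ≤ H := by
  obtain ⟨H, hH⟩ := exists_piHall hsep hyp
  obtain ⟨g, hg⟩ := exists_conj_ge hsep hyp hH hU
  exact ⟨_, isPiHall_conj hH g, hg⟩

theorem piHall_conj [Finite G] (hsep : IsPiSeparable π G) (hyp : HallHyp π G) {H K : Subgroup G}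
    (hH : Cfsg.IsPiHall π H) (hK : Cfsg.IsPiHall π K) : ∃ g : G, MulAut.conj g • H = K := by
  obtain ⟨g, hg⟩ := exists_conj_ge hsep hyp hH (isPiHall_iff.1 hK).1
  exact ⟨g, (eq_of_le_of_isPiNum hK hg (isPiHall_iff.1 (isPiHall_conj hH g)).1).symm⟩

end Main

section Solvable

variable [Finite G] [Group.IsSolvable G]

theorem exists_piHall_of_solvable (π : Set ℕ) : ∃ H : Subgroup G, Cfsg.IsPiHall π H :=
  exists_piHall (isPiSeparable_of_isSolvable π) (hallHyp_of_isSolvable π)

theorem piHall_conj_of_solvable {H K : Subgroup G}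
    (hH : Cfsg.IsPiHall π H) (hK : Cfsg.IsPiHall π K) : ∃ g : G, MulAut.conj g • H = K :=
  piHall_conj (isPiSeparable_of_isSolvable π) (hallHyp_of_isSolvable π) hH hK

theorem exists_conj_ge_of_solvable {H U : Subgroup G} (hH : Cfsg.IsPiHall π H)
    (hU : IsPiNum π (Nat.card U)) : ∃ g : G, U ≤ MulAut.conj g • H :=
  exists_conj_ge (isPiSeparable_of_isSolvable π) (hallHyp_of_isSolvable π) hH hU

theorem exists_piHall_ge_of_solvable {U : Subgroup G} (hU : IsPiNum π (Nat.card U)) :
    ∃ H : Subgroup G, Cfsg.IsPiHall π H ∧ U ≤ H :=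
  exists_piHall_ge (isPiSeparable_of_isSolvable π) (hallHyp_of_isSolvable π) hU

end Solvable

section Order

variable [Finite G] {m n : ℕ}

theorem isPiHall_primeFactors_iff (hG : Nat.card G = m * n) (hmn : m.Coprime n) {H : Subgroup G} :
    Cfsg.IsPiHall (m.primeFactors : Set ℕ) H ↔ Nat.card H = m := by
  obtain ⟨hm, hn⟩ := mul_ne_zero_iff.1 (hG ▸ Nat.card_pos.ne' : m * n ≠ 0)
  have hcn := isPiNum_compl_primeFactors hmn
  constructor
  · intro h
    rw [isPiHall_iff] at h
    have h1 : Nat.card H * H.index = m * n := H.card_mul_index.trans hG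
    exact Nat.dvd_antisymm ((h.1.coprime hcn).dvd_of_dvd_mul_right ⟨_, h1.symm⟩)
      (((isPiNum_primeFactors hm).coprime h.2).dvd_of_dvd_mul_right ⟨n, h1⟩)
  · intro h
    rw [isPiHall_iff, h]
    have h1 := H.card_mul_index.trans hG
    rw [h] at h1
    rw [Nat.eq_of_mul_eq_mul_left (Nat.pos_of_ne_zero hm) h1]
    exact ⟨isPiNum_primeFactors hm, hcn⟩

theorem exists_card_eq_of_solvable [Group.IsSolvable G] (hG : Nat.card G = m * n) (hmn : m.Coprime n) :
    ∃ H : Subgroup G, Nat.card H = m :=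
  (exists_piHall_of_solvable _).imp fun _ h => (isPiHall_primeFactors_iff hG hmn).1 h

theorem conj_of_card_eq_of_solvable [Group.IsSolvable G] (hG : Nat.card G = m * n) (hmn : m.Coprime n)
    {H K : Subgroup G} (hH : Nat.card H = m) (hK : Nat.card K = m) :
    ∃ g : G, MulAut.conj g • H = K :=
  piHall_conj_of_solvable ((isPiHall_primeFactors_iff hG hmn).2 hH)
    ((isPiHall_primeFactors_iff hG hmn).2 hK)

theorem exists_card_eq_ge_of_solvable [Group.IsSolvable G] (hG : Nat.card G = m * n) (hmn : m.Coprime n)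
    {K : Subgroup G} (hK : (Nat.card K).Coprime n) :
    ∃ H : Subgroup G, Nat.card H = m ∧ K ≤ H := by
  obtain ⟨hm, -⟩ := mul_ne_zero_iff.1 (hG ▸ Nat.card_pos.ne' : m * n ≠ 0)
  have hK' : Nat.card K ∣ m :=
    hK.dvd_of_dvd_mul_right (hG ▸ Subgroup.card_subgroup_dvd_card K)
  obtain ⟨H, hH, hle⟩ := exists_piHall_ge_of_solvable
    ((isPiNum_primeFactors hm).of_dvd hK')
  exact ⟨H, (isPiHall_primeFactors_iff hG hmn).1 hH, hle⟩

theorem conj_of_coprime_index_of_card_eq [Group.IsSolvable G] {H K : Subgroup G}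
    (hH : (Nat.card H).Coprime H.index) (hK : Nat.card K = Nat.card H) :
    ∃ g : G, MulAut.conj g • H = K :=
  conj_of_card_eq_of_solvable H.card_mul_index.symm hH rfl hK

/-- **Frattini argument** for Hall subgroups of a solvable normal subgroup. -/
theorem sup_normalizer_eq_top_of_hall {L : Subgroup G} [L.Normal] [Group.IsSolvable L] {H : Subgroup G}
    (hHL : H ≤ L) (hHall : (Nat.card H).Coprime (H.relIndex L)) :
    L ⊔ Subgroup.normalizer (H : Set G) = ⊤ := by
  refine eq_top_iff.2 fun g _ => ?_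
  have hg : MulAut.conj g • H ≤ L := conj_normal g L ▸ conj_mono g hHL
  have e1 := Nat.card_congr (Subgroup.subgroupOfEquivOfLe hHL).toEquiv
  have e2 := Nat.card_congr (Subgroup.subgroupOfEquivOfLe hg).toEquiv
  obtain ⟨l, hl⟩ := conj_of_coprime_index_of_card_eq (G := L) (H := H.subgroupOf L)
    (K := (MulAut.conj g • H).subgroupOf L) (by rw [e1]; exact hHall)
    (by rw [e1, e2, card_conj])
  have h := congrArg (Subgroup.map L.subtype) hl
  rw [map_conj, Subgroup.map_subgroupOf_eq_of_le hHL, Subgroup.map_subgroupOf_eq_of_le hg] at h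
  have hN : ((l : G))⁻¹ * g ∈ Subgroup.normalizer (H : Set G) := by
    rw [mem_normalizer_iff_conj, ← conj_conj]
    exact eq_conj_inv h
  simpa using Subgroup.mul_mem_sup l.2 hN

end Order

end Cfsg.Agent.Solvable
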