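import Cfsg.Agent.Lib.Solvable.Basic

/-!
# π-separable groups (owner: helper2)

`IsPiSeparable π G`: above every proper normal subgroup there is a normal subgroup whose relative index is
a π-number or a π'-number. Closed under quotients and subgroups; implied by solvability, by p-solvability
(for `π = {p}`) and by the existence of a normal series with π- or π'-factors.
-/

open Pointwise

namespace Cfsg.Agent.Solvable

/-- Every proper normal subgroup has a normal subgroup above it with a π- or π'-index. For a finite group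
this is π-separability. -/
def IsPiSeparable (π : Set ℕ) (G : Type*) [Group G] : Prop :=
  ∀ N : Subgroup G, N.Normal → N ≠ ⊤ → ∃ M : Subgroup G, M.Normal ∧ N < M ∧
    (IsPiNum π (N.relIndex M) ∨ IsPiNum πᶜ (N.relIndex M))

variable {G G' : Type*} [Group G] [Group G'] {π : Set ℕ}

theorem relIndex_dvd_relIndex_of_normal {N A B : Subgroup G} [N.Normal] (h : A ≤ B) :
    N.relIndex A ∣ N.relIndex B := by
  rw [← Subgroup.relIndex_sup_right A N, ← Subgroup.relIndex_sup_right B N]
  exact ⟨_, (Subgroup.relIndex_mul_relIndex N (A ⊔ N) (B ⊔ N) le_sup_right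
    (sup_le_sup_right h N)).symm⟩

theorem IsPiSeparable.compl (h : IsPiSeparable π G) : IsPiSeparable πᶜ G := fun N hN hN' => by
  obtain ⟨M, h1, h2, h3⟩ := h N hN hN'
  exact ⟨M, h1, h2, by rw [compl_compl]; exact h3.symm⟩

theorem IsPiSeparable.of_surjective (h : IsPiSeparable π G) (f : G →* G')
    (hf : Function.Surjective f) : IsPiSeparable π G' := by
  intro N hN hN'
  obtain ⟨M, hM, hlt, hidx⟩ := h (N.comap f) inferInstance
    (fun he => hN' (by rw [← Subgroup.map_comap_eq_self_of_surjective hf N, he,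
      Subgroup.map_top_of_surjective f hf]))
  refine ⟨M.map f, hM.map f hf, ?_, by rwa [← Subgroup.relIndex_comap]⟩
  refine lt_of_le_of_ne ?_ fun he => hlt.ne ?_
  · rw [← Subgroup.map_comap_eq_self_of_surjective hf N]
    exact Subgroup.map_mono hlt.le
  · rw [he, Subgroup.comap_map_eq_self]
    exact le_trans (by
      intro x hx
      rw [Subgroup.mem_comap, MonoidHom.mem_ker.1 hx]
      exact one_mem _) hlt.le

theorem IsPiSeparable.quotient (h : IsPiSeparable π G) (N : Subgroup G) [N.Normal] :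
    IsPiSeparable π (G ⧸ N) :=
  h.of_surjective (QuotientGroup.mk' N) (QuotientGroup.mk'_surjective N)

theorem IsPiSeparable.subgroup [Finite G] (h : IsPiSeparable π G) (L : Subgroup G) :
    IsPiSeparable π L := by
  intro N hN hN'
  obtain ⟨M, ⟨hMn, hML⟩, hmax⟩ := wellFounded_gt.has_min
    {M : Subgroup G | M.Normal ∧ M.subgroupOf L ≤ N}
    ⟨⊥, inferInstance, by rw [Subgroup.bot_subgroupOf]; exact bot_le⟩
  obtain ⟨M', hM'n, hlt, hidx⟩ := h M hMn (fun he => hN' (top_le_iff.1 (by
    rwa [he, Subgroup.top_subgroupOf] at hML)))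
  refine ⟨N ⊔ M'.subgroupOf L, Subgroup.sup_normal _ _, lt_of_le_of_ne le_sup_left fun he => ?_, ?_⟩
  · exact hmax M' ⟨hM'n, he ▸ le_sup_right⟩ hlt
  have hd : N.relIndex (N ⊔ M'.subgroupOf L) ∣ M.relIndex M' := by
    rw [Subgroup.relIndex_sup_left]
    refine (Subgroup.relIndex_dvd_of_le_left _ hML).trans ?_
    rw [Subgroup.subgroupOf, Subgroup.relIndex_comap]
    exact relIndex_dvd_relIndex_of_normal (Subgroup.map_comap_le _ _)
  exact hidx.imp (fun h => h.of_dvd hd) (fun h => h.of_dvd hd)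

theorem isPiSeparable_of_chain {n : ℕ} (H : Fin (n + 1) → Subgroup G) (h0 : H 0 = ⊥)
    (hn : H (Fin.last n) = ⊤) (hnorm : ∀ i, (H i).Normal)
    (h : ∀ i : Fin n, IsPiNum π ((H i.castSucc).relIndex (H i.succ)) ∨
      IsPiNum πᶜ ((H i.castSucc).relIndex (H i.succ))) : IsPiSeparable π G := by
  intro N hN hN'
  have hex : ∃ i : Fin n, H i.castSucc ≤ N ∧ ¬ H i.succ ≤ N := by
    by_contra hcon
    simp only [not_exists, not_and, not_not] at hcon
    exact hN' (top_le_iff.1 (hn ▸ Fin.induction (motive := fun i => H i ≤ N) (h0 ▸ bot_le) hcon _))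
  obtain ⟨i, hi, hi'⟩ := hex
  have := hnorm i.succ
  refine ⟨N ⊔ H i.succ, Subgroup.sup_normal _ _,
    lt_of_le_of_ne le_sup_left fun he => hi' (he ▸ le_sup_right), ?_⟩
  have hd : N.relIndex (N ⊔ H i.succ) ∣ (H i.castSucc).relIndex (H i.succ) := by
    rw [Subgroup.relIndex_sup_left]
    exact Subgroup.relIndex_dvd_of_le_left _ hi
  exact (h i).imp (fun h => h.of_dvd hd) (fun h => h.of_dvd hd)

theorem isPiSeparable_of_isSolvable [Finite G] [Group.IsSolvable G] (π : Set ℕ) :
    IsPiSeparable π G := by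
  intro N hN hN'
  have : Nontrivial (G ⧸ N) := QuotientGroup.nontrivial_iff.2 hN'
  obtain ⟨p, hp, M, hMn, hM0, hMp⟩ := exists_normal_pGroup_ne_bot (G ⧸ N)
  have := Fact.mk hp
  refine ⟨M.comap (QuotientGroup.mk' N), inferInstance,
    lt_of_le_of_ne (QuotientGroup.le_comap_mk' N M) fun he => hM0 ?_, ?_⟩
  · rw [← Subgroup.map_comap_eq_self_of_surjective (QuotientGroup.mk'_surjective N) M, ← he,
      QuotientGroup.map_mk'_self]
  have hidx : N.relIndex (M.comap (QuotientGroup.mk' N)) = Nat.card M := by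
    have h := Subgroup.relIndex_ker (QuotientGroup.mk' N) (K := M.comap (QuotientGroup.mk' N))
    rwa [QuotientGroup.ker_mk', Subgroup.map_comap_eq_self_of_surjective
      (QuotientGroup.mk'_surjective N) M] at h
  rw [hidx]
  by_cases hpπ : p ∈ π
  · exact Or.inl (isPiNum_of_isPGroup hMp hpπ)
  · exact Or.inr (isPiNum_of_isPGroup hMp hpπ)

theorem isPiSeparable_of_isPSolvable {p : ℕ} [hp : Fact p.Prime] (h : Cfsg.IsPSolvable p G) :
    IsPiSeparable {p} G := by
  obtain ⟨n, H, h0, hn, -, hnorm, hidx⟩ := h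
  refine isPiSeparable_of_chain H h0 hn hnorm fun i => ?_
  rcases hidx i with ⟨m, hm⟩ | hc
  · exact Or.inl (hm ▸ isPiNum_pow hp.out (Set.mem_singleton p) m)
  · refine Or.inr fun q hq hd hqp => ?_
    obtain rfl : q = p := hqp
    exact Nat.not_coprime_of_dvd_of_dvd hq.one_lt hd dvd_rfl hc

theorem IsPiSeparable.exists_normal_ne_bot [Nontrivial G] (h : IsPiSeparable π G) :
    ∃ M : Subgroup G, M.Normal ∧ M ≠ ⊥ ∧ (IsPiNum π (Nat.card M) ∨ IsPiNum πᶜ (Nat.card M)) := by
  obtain ⟨M, hM, hlt, hidx⟩ := h ⊥ inferInstance bot_ne_top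
  rw [Subgroup.relIndex_bot_left] at hidx
  exact ⟨M, hM, hlt.ne', hidx⟩

end Cfsg.Agent.Solvable
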