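/-
Groups with many classes of π-elements (commuting-probability style criteria).

* `kpi_le_kq_mul`: k_π(G) ≤ k_q(G) |G|_{π-q};
* `kq_le_quotient`: k_q(G) ≤ |N|_q k_q(G/N);
* `two_complement`: more than |G|_2/2 classes of 2-elements give a normal 2-complement;
* `odd_step`, `combine`: normal complements and abelian Hall subgroups for the odd primes.
-/
import Cfsg.Agent.Lib.ZStar.Apply
import Cfsg.Agent.Lib.ZStar.Unique
import Cfsg.Agent.Lib.Transfer.Residual
import Cfsg.Agent.Lib.Transfer.NilpotentHall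

set_option autoImplicit false

namespace Cfsg.Agent.PiClassCount

open Cfsg Subgroup
open scoped Pointwise

universe u

variable {G : Type*} [Group G]

/-- `x` has order a power of `q`. -/
def QElt (q : ℕ) (x : G) : Prop := ∃ k, orderOf x = q ^ k

/-- The number of classes of `q`-elements. -/
noncomputable def kq (q : ℕ) (G : Type*) [Group G] : ℕ :=
  (ConjClasses.mk '' {x : G | QElt q x}).ncard

/-- All prime divisors of the order of `x` lie in `π`. -/
def PiElt (π : Finset ℕ) (x : G) : Prop := ∀ r : ℕ, r.Prime → r ∣ orderOf x → r ∈ π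

/-- The number of classes of `π`-elements. -/
noncomputable def kpi (π : Finset ℕ) (G : Type*) [Group G] : ℕ :=
  (ConjClasses.mk '' {x : G | PiElt π x}).ncard

/-- The π-part of the order. -/
noncomputable def piPart (π : Finset ℕ) (G : Type*) : ℕ :=
  π.prod (fun r => r ^ (Nat.card G).factorization r)

theorem orderOf_conj_eq (u x : G) : orderOf (u * x * u⁻¹) = orderOf x :=
  (MulAut.conj u).orderOf_eq x

theorem kpi_eq_card (π : Finset ℕ) :
    kpi π G = Nat.card {c : ConjClasses G // ∀ x ∈ c.carrier, ∀ r : ℕ, r.Prime → r ∣ orderOf x → r ∈ π} := by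
  rw [kpi, ← Nat.card_coe_set_eq]
  refine Nat.card_congr (Equiv.setCongr ?_)
  ext c
  constructor
  · rintro ⟨x, hx, rfl⟩ y hy
    obtain ⟨u, rfl⟩ := isConj_iff.1 ((ConjClasses.mk_eq_mk_iff_isConj.1 (ConjClasses.mem_carrier_iff_mk_eq.1 hy)).symm)
    intro r hr hd
    exact hx r hr (by rwa [orderOf_conj_eq] at hd)
  · intro hc
    obtain ⟨x, rfl⟩ := ConjClasses.mk_surjective c
    exact ⟨x, hc x ConjClasses.mem_carrier_mk, rfl⟩

section
variable [Finite G]

theorem qElt_of_mem {q : ℕ} [Fact q.Prime] {P : Subgroup G} (hP : IsPGroup q P) {x : G} (hx : x ∈ P) :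
    QElt q x := by
  obtain ⟨k, hk⟩ := IsPGroup.iff_orderOf.1 hP ⟨x, hx⟩
  exact ⟨k, by rwa [orderOf_mk] at hk⟩

theorem exists_conj_mem_sylow {q : ℕ} [Fact q.Prime] (Q : Sylow q G) {P : Subgroup G} (hP : IsPGroup q P) :
    ∃ u : G, ∀ x ∈ P, u * x * u⁻¹ ∈ (Q : Subgroup G) := by
  obtain ⟨R, hR⟩ := hP.exists_le_sylow
  obtain ⟨u, hu⟩ := MulAction.exists_smul_eq G R Q
  refine ⟨u, fun x hx => ?_⟩
  rw [← hu]
  show u * x * u⁻¹ ∈ MulAut.conj u • (R : Subgroup G)
  have h := Subgroup.smul_mem_pointwise_smul x (MulAut.conj u) (R : Subgroup G) (hR hx)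
  simpa [MulAut.smul_def] using h

theorem kq_le_range {q : ℕ} [Fact q.Prime] (Q : Sylow q G) :
    kq q G ≤ (Set.range fun x : (Q : Subgroup G) => ConjClasses.mk (x : G)).ncard := by
  refine Set.ncard_le_ncard ?_ (Set.toFinite _)
  rintro _ ⟨x, ⟨k, hk⟩, rfl⟩
  obtain ⟨u, hu⟩ := exists_conj_mem_sylow Q
    (IsPGroup.of_card (n := k) (p := q) (G := zpowers x) (by rw [Nat.card_zpowers, hk]))
  exact ⟨⟨_, hu x (mem_zpowers x)⟩, ConjClasses.mk_eq_mk_iff_isConj.2 (isConj_iff.2 ⟨u, rfl⟩).symm⟩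

theorem kq_le_qPart (q : ℕ) [Fact q.Prime] : kq q G ≤ q ^ (Nat.card G).factorization q := by
  let Q : Sylow q G := default
  refine (kq_le_range Q).trans ?_
  rw [← Q.card_eq_multiplicity, ← Nat.card_coe_set_eq]
  exact Nat.card_le_card_of_surjective _ Set.rangeFactorization_surjective

end

theorem factorization_subgroup_le [Finite G] (H : Subgroup G) (r : ℕ) :
    (Nat.card H).factorization r ≤ (Nat.card G).factorization r :=
  (Nat.factorization_le_iff_dvd Nat.card_pos.ne' Nat.card_pos.ne').2 H.card_subgroup_dvd_card r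

theorem piPart_subgroup_le [Finite G] (π : Finset ℕ) (hπ : ∀ r ∈ π, r.Prime) (H : Subgroup G) :
    piPart π H ≤ piPart π G :=
  Finset.prod_le_prod' fun r hr => Nat.pow_le_pow_right (hπ r hr).pos (factorization_subgroup_le H r)

theorem kpi_insert_le [Finite G] {q : ℕ} (π : Finset ℕ) [Fact q.Prime] (B : ℕ)
    (hB : ∀ H : Subgroup G, kpi π H ≤ B) : kpi (insert q π) G ≤ kq q G * B := by
  classical
  have hq : q.Prime := Fact.out
  let T : Finset (ConjClasses G) := (Set.toFinite (ConjClasses.mk '' {x : G | QElt q x})).toFinset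
  let f : (c : ConjClasses G) → ConjClasses (centralizer ({Quotient.out c} : Set G)) → ConjClasses G :=
    fun c d => ConjClasses.mk (Quotient.out c * ((Quotient.out d : centralizer ({Quotient.out c} : Set G)) : G))
  let S : (c : ConjClasses G) → Set (ConjClasses G) := fun c =>
    f c '' (ConjClasses.mk '' {z : centralizer ({Quotient.out c} : Set G) | PiElt π z})
  have hsub : ConjClasses.mk '' {x : G | PiElt (insert q π) x} ⊆ ⋃ c ∈ T, S c := by
    rintro _ ⟨x, hx, rfl⟩
    obtain ⟨a, b, hab, ha, hb, ha', hb'⟩ := Transfer.exists_pPart_mul (p := q) x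
    set c := ConjClasses.mk a with hc
    have hcT : c ∈ T := by
      rw [Set.Finite.mem_toFinset]
      exact ⟨a, ha', rfl⟩
    obtain ⟨u, hu⟩ := isConj_iff.1 (ConjClasses.mk_eq_mk_iff_isConj.1
      ((Quotient.out_eq c).trans hc).symm : IsConj a (Quotient.out c))
    have hcomm : Commute a b := by
      obtain ⟨i, rfl⟩ := mem_zpowers_iff.1 ha
      obtain ⟨j, rfl⟩ := mem_zpowers_iff.1 hb
      exact Commute.zpow_zpow_self x i j
    have hmem : u * b * u⁻¹ ∈ centralizer ({Quotient.out c} : Set G) := by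
      rw [mem_centralizer_singleton_iff, ← hu]
      exact ((hcomm.symm).map (MulAut.conj u).toMonoidHom).eq
    have hpi : PiElt π (⟨u * b * u⁻¹, hmem⟩ : centralizer ({Quotient.out c} : Set G)) := by
      intro r hr hd
      rw [orderOf_mk, orderOf_conj_eq] at hd
      have h1 : r ∈ insert q π := hx r hr (hd.trans (orderOf_dvd_of_mem_zpowers hb))
      rcases Finset.mem_insert.1 h1 with rfl | h
      · exact absurd ((Nat.Prime.coprime_iff_not_dvd hr).1 hb'.symm hd) (fun h => h)
      · exact h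
    refine Set.mem_iUnion₂.2 ⟨c, hcT, _, ⟨_, hpi, rfl⟩, ?_⟩
    set d := ConjClasses.mk (⟨u * b * u⁻¹, hmem⟩ : centralizer ({Quotient.out c} : Set G))
    obtain ⟨v, hv⟩ := isConj_iff.1 (ConjClasses.mk_eq_mk_iff_isConj.1 (Quotient.out_eq d) :
      IsConj (Quotient.out d) (⟨u * b * u⁻¹, hmem⟩ : centralizer ({Quotient.out c} : Set G)))
    have hv' : (v : G) * (Quotient.out d : centralizer ({Quotient.out c} : Set G)) * (v : G)⁻¹
        = u * b * u⁻¹ := congrArg Subtype.val hv
    have hvc : (v : G) * Quotient.out c * (v : G)⁻¹ = Quotient.out c := by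
      rw [mem_centralizer_singleton_iff.1 v.2, mul_inv_cancel_right]
    refine ConjClasses.mk_eq_mk_iff_isConj.2 ((isConj_iff.2 ⟨(v : G), ?_⟩).trans
      (isConj_iff.2 ⟨u, rfl⟩).symm)
    calc (v : G) * (Quotient.out c * (Quotient.out d : centralizer ({Quotient.out c} : Set G))) * (v : G)⁻¹
        = ((v : G) * Quotient.out c * (v : G)⁻¹) *
          ((v : G) * (Quotient.out d : centralizer ({Quotient.out c} : Set G)) * (v : G)⁻¹) := by group
      _ = u * x * u⁻¹ := by rw [hvc, hv', ← hu, hab]; group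
  refine (Set.ncard_le_ncard hsub (Set.toFinite _)).trans ((Finset.set_ncard_biUnion_le _ _).trans ?_)
  refine (Finset.sum_le_card_nsmul T _ B fun c _ =>
    (Set.ncard_image_le (Set.toFinite _)).trans (hB _)).trans ?_
  rw [smul_eq_mul, ← Set.ncard_eq_toFinset_card _ (Set.toFinite _)]
  exact le_rfl

theorem kpi_le_piPart (π : Finset ℕ) (hπ : ∀ r ∈ π, r.Prime) :
    ∀ (G : Type u) [Group G] [Finite G], kpi π G ≤ piPart π G := by
  classical
  induction π using Finset.induction_on with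
  | empty =>
    intro G _ _
    refine (Set.ncard_le_ncard (t := {ConjClasses.mk (1 : G)}) ?_ (Set.toFinite _)).trans
      (by simp [piPart])
    rintro _ ⟨x, hx, rfl⟩
    by_cases h : orderOf x = 1
    · rw [orderOf_eq_one_iff.1 h]; exact Set.mem_singleton _
    · obtain ⟨r, hr, hd⟩ := Nat.exists_prime_and_dvd h
      exact absurd (hx r hr hd) (Finset.notMem_empty r)
  | @insert q π hq ih =>
    intro G _ _
    haveI : Fact q.Prime := ⟨hπ q (Finset.mem_insert_self q π)⟩
    have hπ' : ∀ r ∈ π, r.Prime := fun r hr => hπ r (Finset.mem_insert_of_mem hr)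
    refine (kpi_insert_le π (piPart π G) fun H => (ih hπ' H).trans (piPart_subgroup_le π hπ' H)).trans ?_
    rw [piPart, piPart, Finset.prod_insert hq]
    exact Nat.mul_le_mul_right _ (kq_le_qPart q)

theorem kpi_le_kq_mul {G : Type u} [Group G] [Finite G] (π : Finset ℕ) (hπ : ∀ r ∈ π, r.Prime) {q : ℕ}
    (hq : q ∈ π) : kpi π G ≤ kq q G * piPart (π.erase q) G := by
  haveI : Fact q.Prime := ⟨hπ q hq⟩
  have hπ' : ∀ r ∈ π.erase q, r.Prime := fun r hr => hπ r (Finset.mem_of_mem_erase hr)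
  have h := kpi_insert_le (G := G) (q := q) (π.erase q) (piPart (π.erase q) G)
    fun H => (kpi_le_piPart _ hπ' H).trans (piPart_subgroup_le _ hπ' H)
  rwa [Finset.insert_erase hq] at h

/-- The hypothesis on π passes to each of its primes. -/
theorem lt_kq_of_lt_kpi {G : Type u} [Group G] [Finite G] (π : Finset ℕ) (hπ : ∀ r ∈ π, r.Prime) {q : ℕ}
    (hq : q ∈ π) {a b : ℕ} (h : a * piPart π G < b * kpi π G) :
    a * q ^ (Nat.card G).factorization q < b * kq q G := by
  have h1 : piPart π G = q ^ (Nat.card G).factorization q * piPart (π.erase q) G :=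
    (Finset.mul_prod_erase π (fun r => r ^ (Nat.card G).factorization r) hq).symm
  have h2 := h.trans_le (Nat.mul_le_mul_left b (kpi_le_kq_mul π hπ hq))
  rw [h1, ← mul_assoc, ← mul_assoc] at h2
  exact Nat.lt_of_mul_lt_mul_right h2

/-! ### Merging -/

theorem merge_le {α β : Type*} [Finite α] (f : α → β) (F : Set α) (r : ℕ)
    (h : ∀ a ∉ F, r ≤ (f ⁻¹' {f a}).ncard) :
    r * (Set.range f).ncard ≤ Nat.card α + (r - 1) * F.ncard := by
  classical
  haveI := Fintype.ofFinite α
  have hR : (Set.range f).ncard = (Finset.univ.image f).card := by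
    rw [← Set.ncard_coe_finset, Finset.coe_image, Finset.coe_univ, Set.image_univ]
  have hF : F.ncard = F.toFinset.card := Set.ncard_eq_toFinset_card' F
  rw [hR, hF, Nat.card_eq_fintype_card, ← Finset.card_univ,
    Finset.card_eq_sum_card_image f Finset.univ,
    Finset.card_eq_sum_card_fiberwise (f := f) (t := Finset.univ.image f) (s := F.toFinset)
      (fun a _ => Finset.mem_image_of_mem f (Finset.mem_univ a)), Finset.mul_sum, ← Finset.sum_add_distrib,
    mul_comm, ← smul_eq_mul, ← Finset.sum_const]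
  refine Finset.sum_le_sum fun b hb => ?_
  obtain ⟨a, -, rfl⟩ := Finset.mem_image.1 hb
  by_cases he : (F.toFinset.filter fun x => f x = f a) = ∅
  · have haF : a ∉ F := fun haF => by
      have : a ∈ F.toFinset.filter fun x => f x = f a := by simp [haF]
      rw [he] at this; exact Finset.notMem_empty a this
    have := h a haF
    rw [Set.ncard_eq_toFinset_card'] at this
    refine le_add_right (this.trans (Finset.card_le_card fun x hx => ?_))
    simpa using hx
  · have h1 := Finset.card_pos.2 (Finset.nonempty_of_ne_empty he)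
    have h2 : 0 < (Finset.univ.filter fun x => f x = f a).card :=
      Finset.card_pos.2 ⟨a, by simp⟩
    have h3 : r - 1 ≤ (r - 1) * (F.toFinset.filter fun x => f x = f a).card := Nat.le_mul_of_pos_right _ h1
    omega

variable [Finite G] {q : ℕ} [Fact q.Prime]

/-- `r` distinct conjugates under powers of `g`. -/
theorem fibre_ge (Q : Subgroup G) {g : G} (hg : ∀ x ∈ Q, g * x * g⁻¹ ∈ Q) (r : ℕ)
    (hr : ∀ i, 0 < i → i < r → Nat.Coprime (orderOf g) i) (x : Q) (hx : g * x * g⁻¹ ≠ x) :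
    r ≤ ((fun y : Q => ConjClasses.mk (y : G)) ⁻¹' {ConjClasses.mk (x : G)}).ncard := by
  have hpow : ∀ n : ℕ, g ^ n * x * (g ^ n)⁻¹ ∈ Q := by
    intro n
    induction n with
    | zero => simp
    | succ n ih =>
      have := hg _ ih
      simpa [pow_succ', mul_assoc] using this
  let φ : Fin r → Q := fun i => ⟨g ^ (i : ℕ) * x * (g ^ (i : ℕ))⁻¹, hpow i⟩
  have hinj : Function.Injective φ := by
    suffices key : ∀ i j : Fin r, (i : ℕ) < j → φ i ≠ φ j by
      intro i j he
      rcases lt_trichotomy (i : ℕ) j with h | h | h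
      · exact absurd he (key i j h)
      · exact Fin.ext h
      · exact absurd he.symm (key j i h)
    intro i j hij he
    have he' : g ^ (i : ℕ) * x * (g ^ (i : ℕ))⁻¹ = g ^ (j : ℕ) * x * (g ^ (j : ℕ))⁻¹ := congrArg Subtype.val he
    rw [show (j : ℕ) = i + (j - i) by omega, pow_add] at he'
    have hfix : Commute (g ^ ((j : ℕ) - i)) (x : G) := by
      have h2 : (x : G) = g ^ ((j : ℕ) - i) * x * (g ^ ((j : ℕ) - i))⁻¹ := by
        have := congrArg (fun t => (g ^ (i : ℕ))⁻¹ * t * g ^ (i : ℕ)) he'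
        simpa [mul_assoc] using this
      exact (eq_mul_inv_iff_mul_eq.1 h2).symm
    obtain ⟨m, hm⟩ := exists_pow_eq_self_of_coprime
      (hr ((j : ℕ) - i) (by omega) (by omega)).symm (x := g)
    have : Commute g (x : G) := hm ▸ hfix.pow_left m
    exact hx (by rw [this.eq, mul_inv_cancel_right])
  have hsub : Set.range φ ⊆ (fun y : Q => ConjClasses.mk (y : G)) ⁻¹' {ConjClasses.mk (x : G)} := by
    rintro _ ⟨i, rfl⟩
    exact ConjClasses.mk_eq_mk_iff_isConj.2 (isConj_iff.2 ⟨g ^ (i : ℕ), rfl⟩).symm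
  refine le_trans ?_ (Set.ncard_le_ncard hsub (Set.toFinite _))
  rw [← Nat.card_coe_set_eq, Nat.card_range_of_injective hinj, Nat.card_fin]

theorem kq_merge (Q : Sylow q G) (F : Set (Q : Subgroup G)) (r : ℕ)
    (h : ∀ x : (Q : Subgroup G), x ∉ F →
      r ≤ ((fun y : (Q : Subgroup G) => ConjClasses.mk (y : G)) ⁻¹' {ConjClasses.mk (x : G)}).ncard) :
    r * kq q G ≤ Nat.card (Q : Subgroup G) + (r - 1) * F.ncard :=
  (Nat.mul_le_mul_left r (kq_le_range Q)).trans (merge_le _ F r h)

theorem kq_bound_nonabelian (Q : Sylow q G) (hna : ¬ ∀ a b : (Q : Subgroup G), a * b = b * a) :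
    q ^ 3 * kq q G ≤ (q ^ 2 + (q - 1)) * Nat.card (Q : Subgroup G) := by
  have hq : q.Prime := Fact.out
  set Z := Subgroup.center (Q : Subgroup G)
  have h1 : q * kq q G ≤ Nat.card (Q : Subgroup G) + (q - 1) * (Z : Set (Q : Subgroup G)).ncard := by
    refine kq_merge Q _ q fun x hx => ?_
    obtain ⟨u, hu⟩ : ∃ u : (Q : Subgroup G), u * x ≠ x * u := by
      by_contra hcon
      push Not at hcon
      exact hx (mem_center_iff.2 hcon)
    refine fibre_ge (g := (u : G)) _ (fun y hy => mul_mem (mul_mem u.2 hy) (inv_mem u.2)) q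
      (fun i hi hiq => ?_) x fun he => hu (Subtype.ext ?_)
    · obtain ⟨k, hk⟩ := qElt_of_mem Q.2 u.2
      rw [hk]
      exact ((hq.coprime_iff_not_dvd).2 (Nat.not_dvd_of_pos_of_lt hi hiq)).pow_left k
    · exact mul_inv_eq_iff_eq_mul.1 he
  rw [← Nat.card_coe_set_eq, SetLike.coe_sort_coe] at h1
  obtain ⟨e, he⟩ := IsPGroup.iff_card.1 Q.2
  obtain ⟨j, -, hj⟩ := (Nat.dvd_prime_pow hq).1 (he ▸ Z.index_dvd_card)
  have hj2 : 2 ≤ j := by
    by_contra hlt
    push Not at hlt
    haveI : IsCyclic ((Q : Subgroup G) ⧸ Z) := by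
      interval_cases j
      · haveI : Subsingleton ((Q : Subgroup G) ⧸ Z) :=
          (Nat.card_eq_one_iff_unique.1 (show Nat.card ((Q : Subgroup G) ⧸ Z) = 1 by
            rw [← Subgroup.index_eq_card, hj, pow_zero])).1
        exact isCyclic_of_subsingleton
      · exact isCyclic_of_prime_card (p := q) (by rw [← Subgroup.index_eq_card, hj, pow_one])
    exact hna (commutative_of_cyclic_center_quotient (QuotientGroup.mk' Z)
      (by rw [QuotientGroup.ker_mk']))
  have h2 : q ^ 2 * Nat.card Z ≤ Nat.card (Q : Subgroup G) := by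
    rw [← Z.card_mul_index, hj, mul_comm]
    exact Nat.mul_le_mul_left _ (Nat.pow_le_pow_right hq.pos hj2)
  calc q ^ 3 * kq q G = q ^ 2 * (q * kq q G) := by ring
    _ ≤ q ^ 2 * (Nat.card (Q : Subgroup G) + (q - 1) * Nat.card Z) := Nat.mul_le_mul_left _ h1
    _ = q ^ 2 * Nat.card (Q : Subgroup G) + (q - 1) * (q ^ 2 * Nat.card Z) := by ring
    _ ≤ q ^ 2 * Nat.card (Q : Subgroup G) + (q - 1) * Nat.card (Q : Subgroup G) :=
        Nat.add_le_add_left (Nat.mul_le_mul_left _ h2) _
    _ = _ := by ring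

theorem kq_bound_act (Q : Sylow q G) {g : G} (hg : ∀ x ∈ (Q : Subgroup G), g * x * g⁻¹ ∈ (Q : Subgroup G))
    (hne : ¬ ∀ x ∈ (Q : Subgroup G), g * x = x * g) (r : ℕ)
    (hr : ∀ i, 0 < i → i < r → Nat.Coprime (orderOf g) i) :
    r * q * kq q G ≤ (q + (r - 1)) * Nat.card (Q : Subgroup G) := by
  have hq : q.Prime := Fact.out
  set C := (centralizer ({g} : Set G)).subgroupOf (Q : Subgroup G)
  have h1 : r * kq q G ≤ Nat.card (Q : Subgroup G) + (r - 1) * (C : Set (Q : Subgroup G)).ncard := by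
    refine kq_merge Q _ r fun x hx => fibre_ge _ hg r hr x fun he => hx ?_
    exact mem_subgroupOf.2 (mem_centralizer_singleton_iff.2 (mul_inv_eq_iff_eq_mul.1 he).symm)
  rw [← Nat.card_coe_set_eq, SetLike.coe_sort_coe] at h1
  obtain ⟨e, he⟩ := IsPGroup.iff_card.1 Q.2
  obtain ⟨j, -, hj⟩ := (Nat.dvd_prime_pow hq).1 (he ▸ C.index_dvd_card)
  have hj1 : 1 ≤ j := by
    by_contra hlt
    have hj0 : j = 0 := by omega
    subst hj0
    rw [pow_zero, index_eq_one] at hj
    refine hne fun x hx => ?_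
    have : (⟨x, hx⟩ : (Q : Subgroup G)) ∈ C := hj ▸ mem_top _
    exact (mem_centralizer_singleton_iff.1 (mem_subgroupOf.1 this)).symm
  have h2 : q * Nat.card C ≤ Nat.card (Q : Subgroup G) := by
    rw [← C.card_mul_index, hj, mul_comm]
    exact Nat.mul_le_mul_left _ (by simpa using Nat.pow_le_pow_right hq.pos hj1)
  calc r * q * kq q G = q * (r * kq q G) := by ring
    _ ≤ q * (Nat.card (Q : Subgroup G) + (r - 1) * Nat.card C) := Nat.mul_le_mul_left _ h1
    _ = q * Nat.card (Q : Subgroup G) + (r - 1) * (q * Nat.card C) := by ring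
    _ ≤ q * Nat.card (Q : Subgroup G) + (r - 1) * Nat.card (Q : Subgroup G) :=
        Nat.add_le_add_left (Nat.mul_le_mul_left _ h2) _
    _ = _ := by ring

/-- A normal `q`-complement of a normal subgroup is normal in the whole group. -/
theorem map_subtype_normal {N : Subgroup G} [hN : N.Normal] {K : Subgroup N} [K.Normal]
    (hc : (Nat.card K).Coprime q) {k : ℕ} (hk : K.index = q ^ k) : (K.map N.subtype).Normal := by
  refine ⟨?_⟩
  rintro _ ⟨x, hx, rfl⟩ u
  refine ⟨⟨u * x * u⁻¹, hN.conj_mem _ x.2 u⟩, ?_, rfl⟩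
  rw [SetLike.mem_coe] at hx ⊢
  rw [Transfer.mem_iff_coprime_orderOf hc hk] at hx ⊢
  rw [orderOf_mk, orderOf_conj_eq]
  rwa [← orderOf_submonoid] at hx

/-! ### The prime 2 -/

theorem kq_le_quotient (N : Subgroup G) [N.Normal] :
    kq q G ≤ q ^ (Nat.card N).factorization q * kq q (G ⧸ N) := by
  classical
  let π' := QuotientGroup.mk' N
  let T : Finset (ConjClasses (G ⧸ N)) :=
    (Set.toFinite ((fun x : G => ConjClasses.mk (π' x)) '' {x : G | QElt q x})).toFinset
  let A : ConjClasses (G ⧸ N) → Set (ConjClasses G) := fun c =>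
    ConjClasses.mk '' {x : G | QElt q x ∧ ConjClasses.mk (π' x) = c}
  have hsub : ConjClasses.mk '' {x : G | QElt q x} ⊆ ⋃ c ∈ T, A c := by
    rintro _ ⟨x, hx, rfl⟩
    exact Set.mem_iUnion₂.2 ⟨ConjClasses.mk (π' x), (Set.Finite.mem_toFinset _).2 ⟨x, hx, rfl⟩,
      x, ⟨hx, rfl⟩, rfl⟩
  have hA : ∀ c ∈ T, (A c).ncard ≤ q ^ (Nat.card N).factorization q := by
    intro c hc
    obtain ⟨y, ⟨ky, hky⟩, rfl⟩ := (Set.Finite.mem_toFinset _).1 hc
    set H := (zpowers (π' y)).comap π'
    have hyH : y ∈ H := mem_zpowers _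
    obtain ⟨P, hP⟩ := (IsPGroup.of_card (n := ky) (p := q) (G := zpowers (⟨y, hyH⟩ : H))
      (by rw [Nat.card_zpowers, orderOf_mk, hky])).exists_le_sylow
    set D := (P : Subgroup H).map H.subtype ⊓ N
    have hDle : Nat.card D ≤ q ^ (Nat.card N).factorization q := by
      have hD : IsPGroup q D := (P.2.map H.subtype).to_le inf_le_left
      obtain ⟨d, hd⟩ := IsPGroup.iff_card.1 hD
      rw [hd]
      refine Nat.pow_le_pow_right (Fact.out : q.Prime).pos ?_
      have h1 : q ^ d ∣ Nat.card N := hd ▸ card_dvd_of_le inf_le_right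
      exact ((Fact.out : q.Prime).pow_dvd_iff_le_factorization Nat.card_pos.ne').1 h1
    have hsub2 : A (ConjClasses.mk (π' y)) ⊆ (fun d : G => ConjClasses.mk (y * d)) '' (D : Set G) := by
      rintro _ ⟨x, ⟨⟨kx, hkx⟩, hxy⟩, rfl⟩
      obtain ⟨ub, hub⟩ := isConj_iff.1 (ConjClasses.mk_eq_mk_iff_isConj.1 hxy)
      obtain ⟨u, rfl⟩ := QuotientGroup.mk'_surjective N ub
      have hx' : π' (u * x * u⁻¹) = π' y := by rw [map_mul, map_mul, map_inv]; exact hub
      have hxH : u * x * u⁻¹ ∈ H := by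
        show π' _ ∈ zpowers (π' y)
        rw [hx']; exact mem_zpowers _
      obtain ⟨w, hw⟩ := exists_conj_mem_sylow P
        (IsPGroup.of_card (n := kx) (p := q) (G := zpowers (⟨u * x * u⁻¹, hxH⟩ : H))
          (by rw [Nat.card_zpowers, orderOf_mk, orderOf_conj_eq, hkx]))
      have hz : (w : G) * (u * x * u⁻¹) * (w : G)⁻¹ ∈ (P : Subgroup H).map H.subtype :=
        ⟨_, hw _ (mem_zpowers _), rfl⟩
      have hy' : y ∈ (P : Subgroup H).map H.subtype := ⟨⟨y, hyH⟩, hP (mem_zpowers _), rfl⟩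
      have hzy : π' ((w : G) * (u * x * u⁻¹) * (w : G)⁻¹) = π' y := by
        obtain ⟨i, hi⟩ := mem_zpowers_iff.1 (w.2 : π' (w : G) ∈ zpowers (π' y))
        rw [map_mul, map_mul, map_inv, hx', ← hi]
        group
      refine ⟨y⁻¹ * ((w : G) * (u * x * u⁻¹) * (w : G)⁻¹),
        mem_inf.2 ⟨mul_mem (inv_mem hy') hz, QuotientGroup.eq.1 hzy.symm⟩, ?_⟩
      refine ConjClasses.mk_eq_mk_iff_isConj.2 (isConj_iff.2 ⟨((w : G) * u)⁻¹, ?_⟩)
      group
    refine (Set.ncard_le_ncard hsub2 (Set.toFinite _)).trans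
      ((Set.ncard_image_le (Set.toFinite _)).trans ?_)
    rwa [← Nat.card_coe_set_eq, SetLike.coe_sort_coe]
  refine (Set.ncard_le_ncard hsub (Set.toFinite _)).trans ((Finset.set_ncard_biUnion_le _ _).trans ?_)
  refine (Finset.sum_le_card_nsmul T _ _ hA).trans ?_
  rw [smul_eq_mul, mul_comm, ← Set.ncard_eq_toFinset_card _ (Set.toFinite _)]
  refine Nat.mul_le_mul_left _ (Set.ncard_le_ncard ?_ (Set.toFinite _))
  rintro _ ⟨x, ⟨k, hk⟩, rfl⟩
  obtain ⟨j, -, hj⟩ := (Nat.dvd_prime_pow (Fact.out : q.Prime)).1 (hk ▸ orderOf_map_dvd π' x)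
  exact ⟨π' x, ⟨j, hj⟩, rfl⟩

theorem commute_fibre_ge (Q : Sylow q G) (x : (Q : Subgroup G)) {g : G}
    (hc : Commute (x : G) (g * x * g⁻¹)) (hne : g * x * g⁻¹ ≠ x) :
    2 ≤ ((fun y : (Q : Subgroup G) => ConjClasses.mk (y : G)) ⁻¹' {ConjClasses.mk (x : G)}).ncard := by
  obtain ⟨k, hk⟩ := qElt_of_mem Q.2 x.2
  have h1 : IsPGroup q (zpowers (x : G)) := IsPGroup.of_card (n := k) (by rw [Nat.card_zpowers, hk])
  have h2 : IsPGroup q (zpowers (g * x * g⁻¹)) :=
    IsPGroup.of_card (n := k) (by rw [Nat.card_zpowers, orderOf_conj_eq, hk])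
  have hle : zpowers (x : G) ≤ normalizer (zpowers (g * x * g⁻¹) : Set G) := by
    refine (le_trans ?_ (Subgroup.centralizer_le_normalizer _))
    rw [zpowers_le, mem_centralizer_iff]
    intro z hz
    obtain ⟨i, rfl⟩ := mem_zpowers_iff.1 hz
    exact ((hc.zpow_right i).eq).symm
  have hP := IsPGroup.to_sup_of_normal_right' h1 h2 hle
  obtain ⟨u, hu⟩ := exists_conj_mem_sylow Q hP
  let a : (Q : Subgroup G) := ⟨u * x * u⁻¹, hu _ (mem_sup_left (mem_zpowers _))⟩
  let b : (Q : Subgroup G) := ⟨u * (g * x * g⁻¹) * u⁻¹, hu _ (mem_sup_right (mem_zpowers _))⟩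
  have hab : a ≠ b := fun h => hne (conj_injective (congrArg Subtype.val h)).symm
  have hsub : ({a, b} : Set (Q : Subgroup G)) ⊆
      (fun y : (Q : Subgroup G) => ConjClasses.mk (y : G)) ⁻¹' {ConjClasses.mk (x : G)} := by
    rintro c (rfl | rfl)
    · exact ConjClasses.mk_eq_mk_iff_isConj.2 (isConj_iff.2 ⟨u, rfl⟩).symm
    · exact ConjClasses.mk_eq_mk_iff_isConj.2
        ((isConj_iff.2 ⟨g, rfl⟩).trans (isConj_iff.2 ⟨u, rfl⟩)).symm
  exact (Set.ncard_pair hab).symm.le.trans (Set.ncard_le_ncard hsub (Set.toFinite _))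

omit [Fact q.Prime] in
theorem card_comap_mk' (N : Subgroup G) [N.Normal] (K : Subgroup (G ⧸ N)) :
    Nat.card (K.comap (QuotientGroup.mk' N)) = Nat.card N * Nat.card K := by
  have h1 := (K.comap (QuotientGroup.mk' N)).card_mul_index
  rw [index_comap_of_surjective _ (QuotientGroup.mk'_surjective N),
    card_eq_card_quotient_mul_card_subgroup N, ← K.card_mul_index] at h1
  refine Nat.eq_of_mul_eq_mul_right (Nat.pos_of_ne_zero K.index_ne_zero_of_finite) (h1.trans ?_)
  ring

omit [Finite G] [Fact q.Prime] in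
theorem two_complement_aux (n : ℕ) :
    ∀ (G : Type u) [Group G] [Finite G], Nat.card G = n →
      2 ^ (Nat.card G).factorization 2 < 2 * kq 2 G →
      ∃ K : Subgroup G, K.Normal ∧ (Nat.card K).Coprime 2 ∧ ∃ k, K.index = 2 ^ k := by
  induction n using Nat.strong_induction_on with
  | _ n ih =>
    intro G _ _ hn hlt
    haveI : Fact (Nat.Prime 2) := ⟨Nat.prime_two⟩
    have key : ∀ N : Subgroup G, [N.Normal] → N ≠ ⊥ →
        ∃ K : Subgroup (G ⧸ N), K.Normal ∧ (Nat.card K).Coprime 2 ∧ ∃ k, K.index = 2 ^ k := by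
      intro N _ hN
      have hcard : Nat.card G = Nat.card (G ⧸ N) * Nat.card N := card_eq_card_quotient_mul_card_subgroup N
      refine ih _ ?_ (G ⧸ N) rfl ?_
      · rw [← hn, hcard]
        exact lt_mul_of_one_lt_right Nat.card_pos (N.one_lt_card_iff_ne_bot.2 hN)
      · have h1 := hlt.trans_le (Nat.mul_le_mul_left 2 (kq_le_quotient N))
        rw [hcard, Nat.factorization_mul Nat.card_pos.ne' Nat.card_pos.ne', Finsupp.add_apply, pow_add,
          mul_comm (2 ^ _) (2 ^ _), mul_left_comm 2] at h1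
        exact Nat.lt_of_mul_lt_mul_left h1
    by_cases hO : pPrimeCore 2 G = ⊥
    swap
    · haveI : (pPrimeCore 2 G).Normal := Cores.pPrimeCore_normal 2 G
      obtain ⟨K, hK, hc, k, hk⟩ := key _ hO
      refine ⟨K.comap (QuotientGroup.mk' _), hK.comap _, ?_, k, ?_⟩
      · rw [card_comap_mk']
        exact Nat.Coprime.mul_left (Cores.coprime_card_pPrimeCore 2) hc
      · rw [index_comap_of_surjective _ (QuotientGroup.mk'_surjective _), hk]
    by_cases hz : ∃ z : G, z ≠ 1 ∧ z ∈ center G ∧ QElt 2 z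
    · obtain ⟨z, hz1, hzc, m, hm⟩ := hz
      haveI : (zpowers z).Normal := ⟨fun a ha g => by
        rwa [mem_center_iff.1 ((zpowers_le.2 hzc) ha) g, mul_inv_cancel_right]⟩
      obtain ⟨K, hK, hc, k, hk⟩ := key _ (zpowers_ne_bot.2 hz1)
      set M := K.comap (QuotientGroup.mk' (zpowers z)) with hM
      haveI : M.Normal := hK.comap _
      have hzM : zpowers z ≤ M := by
        intro a ha
        show QuotientGroup.mk' _ a ∈ K
        rw [show QuotientGroup.mk' (zpowers z) a = 1 from (QuotientGroup.eq_one_iff a).2 ha]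
        exact one_mem K
      set Z := (zpowers z).subgroupOf M
      have hZcard : Nat.card Z = 2 ^ m := by
        rw [Nat.card_congr (subgroupOfEquivOfLe hzM).toEquiv, Nat.card_zpowers, hm]
      have hMcard : Nat.card M = 2 ^ m * Nat.card K := by
        rw [hM, card_comap_mk', Nat.card_zpowers, hm]
      have hZi : Z.index = Nat.card K := by
        have := Z.card_mul_index
        rw [hZcard, hMcard] at this
        exact Nat.eq_of_mul_eq_mul_left (pow_pos two_pos _) this
      obtain ⟨L, hL, hLc⟩ := Transfer.exists_normal_complement_of_normalizer_le_centralizer Z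
        (by rw [hZcard, hZi]; exact hc.symm.pow_left m) (by
          intro a _
          refine mem_centralizer_iff.2 fun b hb => Subtype.ext ?_
          exact (mem_center_iff.1 ((zpowers_le.2 hzc) (mem_subgroupOf.1 hb)) a).symm)
      have hLi : L.index = 2 ^ m := by rw [hLc.symm.index_eq_card, hZcard]
      have hLcard : Nat.card L = Nat.card K := by
        have := L.card_mul_index
        rw [hLi, hMcard, mul_comm] at this
        exact Nat.eq_of_mul_eq_mul_left (pow_pos two_pos _) this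
      refine ⟨L.map M.subtype, map_subtype_normal (q := 2) (by rw [hLcard]; exact hc) hLi, ?_, m + k, ?_⟩
      · rw [card_map_of_injective M.subtype_injective, hLcard]; exact hc
      · rw [index_map_subtype, hLi, hM, index_comap_of_surjective _ (QuotientGroup.mk'_surjective _), hk,
          pow_add]
    push Not at hz
    let S : Sylow 2 G := default
    have h2 : 2 * kq 2 G ≤ Nat.card (S : Subgroup G) + (2 - 1) * ({1} : Set (S : Subgroup G)).ncard := by
      refine kq_merge S _ 2 fun x hx => ?_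
      have hx1 : (x : G) ≠ 1 := fun h => hx (Subtype.ext h)
      have hniso : ¬ IsIsolated (x : G) := fun hiso => by
        have hx2 := qElt_of_mem S.2 x.2
        refine hz _ hx1 (mem_center_iff.2 fun g => ?_) hx2
        have h := ZStar.zStar_pElement ZStar.uniqueInvolution hx2 hiso g
        rw [hO, Subgroup.mem_bot, mul_inv_eq_one, mul_inv_eq_iff_eq_mul] at h
        exact h
      unfold IsIsolated at hniso
      push Not at hniso
      obtain ⟨g, hg, hne⟩ := hniso
      exact commute_fibre_ge S x hg hne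
    rw [Set.ncard_singleton, S.card_eq_multiplicity] at h2
    rcases Nat.eq_zero_or_pos ((Nat.card G).factorization 2) with h0 | hpos
    · refine ⟨⊤, inferInstance, ?_, 0, by simp⟩
      rw [card_top]
      refine (Nat.prime_two.coprime_iff_not_dvd.2 fun hd => ?_).symm
      exact absurd (Nat.prime_two.factorization_pos_of_dvd Nat.card_pos.ne' hd) (by omega)
    · obtain ⟨e, he⟩ : 2 ∣ 2 ^ (Nat.card G).factorization 2 := dvd_pow_self 2 hpos.ne'
      omega

/-- More than `|G|_2 / 2` classes of 2-elements force a normal 2-complement. -/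
theorem two_complement {G : Type u} [Group G] [Finite G]
    (h : 2 ^ (Nat.card G).factorization 2 < 2 * kq 2 G) :
    ∃ K : Subgroup G, K.Normal ∧ (Nat.card K).Coprime 2 ∧ ∃ k, K.index = 2 ^ k :=
  two_complement_aux _ G rfl h

/-! ### Odd primes -/

/-- A `q`-element normalising a Sylow `q`-subgroup lies in it. -/
theorem mem_of_normalises (Q : Sylow q G) {a : G} (ha : QElt q a) (hn : a ∈ normalizer ((Q : Subgroup G) : Set G)) :
    a ∈ (Q : Subgroup G) := by
  obtain ⟨k, hk⟩ := ha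
  have h := (IsPGroup.of_card (n := k) (p := q) (G := zpowers a)
    (by rw [Nat.card_zpowers, hk])).inf_normalizer_sylow Q
  exact (mem_inf.1 (h ▸ mem_inf.2 ⟨mem_zpowers a, hn⟩)).2

/-- Normal complement inside a normal subgroup for a centralised abelian Sylow subgroup. -/
theorem odd_step (N : Subgroup G) [N.Normal] (Q : Sylow q G) (hQN : (Q : Subgroup G) ≤ N)
    (hcomm : ∀ a b : (Q : Subgroup G), a * b = b * a)
    (hNC : ∀ g ∈ N, g ∈ normalizer ((Q : Subgroup G) : Set G) → ∀ x ∈ (Q : Subgroup G), g * x = x * g) :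
    ∃ K : Subgroup N, K.Normal ∧ (K.map N.subtype).Normal ∧ ¬ q ∣ Nat.card K ∧
      (∃ k, K.index = q ^ k) ∧ ∀ a b : N, a * b * a⁻¹ * b⁻¹ ∈ K := by
  set Q' : Sylow q N := Q.subtype hQN
  have hco : (Nat.card (Q' : Subgroup N)).Coprime (Q' : Subgroup N).index := Q'.card_coprime_index
  obtain ⟨K, hK, hKc⟩ := Transfer.exists_normal_complement_of_normalizer_le_centralizer (Q' : Subgroup N) hco
    (by
      intro g hg
      refine mem_centralizer_iff.2 fun x hx => Subtype.ext ?_
      refine (hNC g g.2 ?_ x hx).symm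
      refine mem_normalizer_iff.2 fun y => ⟨fun hy => (mem_normalizer_iff.1 hg ⟨y, hQN hy⟩).1 hy,
        fun hy => ?_⟩
      have hyN : y ∈ N := by
        have := (inferInstance : N.Normal).conj_mem _ (hQN hy) (g : G)⁻¹
        simpa [mul_assoc] using this
      exact (mem_normalizer_iff.1 hg ⟨y, hyN⟩).2 hy)
  obtain ⟨k, hk⟩ := Transfer.index_of_isComplement' Q' hKc
  have hKco := Transfer.coprime_card_of_isComplement' Q' hKc
  refine ⟨K, hK, map_subtype_normal hKco hk, (Fact.out : q.Prime).coprime_iff_not_dvd.1 hKco.symm,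
    ⟨k, hk⟩, fun a b => ?_⟩
  have hs : ∀ n : N, ∃ s : (Q' : Subgroup N), QuotientGroup.mk' K n = QuotientGroup.mk' K (s : N) := by
    intro n
    obtain ⟨⟨c, s⟩, rfl⟩ := hKc.2 n
    refine ⟨s, ?_⟩
    show QuotientGroup.mk' K ((c : N) * (s : N)) = _
    rw [map_mul, show QuotientGroup.mk' K (c : N) = 1 from (QuotientGroup.eq_one_iff _).2 c.2, one_mul]
  obtain ⟨s, hs'⟩ := hs a
  obtain ⟨t, ht⟩ := hs b
  refine (QuotientGroup.eq_one_iff _).1 (show QuotientGroup.mk' K (a * b * a⁻¹ * b⁻¹) = 1 from ?_)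
  have hst : (s : N) * (t : N) = (t : N) * (s : N) :=
    Subtype.ext (congrArg Subtype.val (hcomm ⟨((s : N) : G), s.2⟩ ⟨((t : N) : G), t.2⟩) :)
  rw [map_mul, map_mul, map_mul, map_inv, map_inv, hs', ht, ← map_inv, ← map_inv, ← map_mul, ← map_mul,
    ← map_mul, hst]
  simp

/-- Intersecting the complements. -/
theorem combine (σ : Finset ℕ) (hσ : ∀ r ∈ σ, r.Prime) (N : Subgroup G) [hN : N.Normal]
    (h : ∀ r ∈ σ, ∃ K : Subgroup N, K.Normal ∧ (K.map N.subtype).Normal ∧ ¬ r ∣ Nat.card K ∧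
      (∃ k, K.index = r ^ k) ∧ ∀ a b : N, a * b * a⁻¹ * b⁻¹ ∈ K) :
    ∃ K : Subgroup N, (K.map N.subtype).Normal ∧ (∀ r ∈ σ, ¬ r ∣ Nat.card K) ∧
      (∀ r : ℕ, r.Prime → r ∣ K.index → r ∈ σ) ∧ ∀ a b : N, a * b * a⁻¹ * b⁻¹ ∈ K := by
  classical
  induction σ using Finset.induction_on with
  | empty =>
    refine ⟨⊤, ?_, by simp, fun r hr hd => ?_, fun a b => mem_top _⟩
    · rw [← MonoidHom.range_eq_map, range_subtype]; exact hN
    · rw [index_top] at hd; exact absurd (Nat.dvd_one.1 hd) hr.ne_one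
  | @insert q σ hq ih =>
    obtain ⟨K, hK, hKσ, hKi, hKc⟩ := ih (fun r hr => hσ r (Finset.mem_insert_of_mem hr))
      (fun r hr => h r (Finset.mem_insert_of_mem hr))
    obtain ⟨L, hLn, hL, hLq, ⟨k, hLk⟩, hLc⟩ := h q (Finset.mem_insert_self q σ)
    refine ⟨K ⊓ L, ?_, fun r hr => ?_, fun r hr hd => ?_, fun a b => mem_inf.2 ⟨hKc a b, hLc a b⟩⟩
    · rw [map_inf _ _ _ N.subtype_injective]
      haveI := hK; haveI := hL
      infer_instance
    · rcases Finset.mem_insert.1 hr with rfl | hr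
      · exact fun hd => hLq (hd.trans (card_dvd_of_le inf_le_right))
      · exact fun hd => hKσ r hr (hd.trans (card_dvd_of_le inf_le_left))
    · haveI := hLn
      rw [← relIndex_top_right, ← relIndex_mul_relIndex (K ⊓ L) K ⊤ inf_le_left le_top, relIndex_top_right,
        inf_relIndex_left] at hd
      rcases hr.dvd_mul.1 hd with hd | hd
      · have h1 : r ∣ q ^ k := hLk ▸ hd.trans (relIndex_dvd_index_of_normal L K)
        rw [(Nat.prime_dvd_prime_iff_eq hr (hσ q (Finset.mem_insert_self q σ))).1 (hr.dvd_of_dvd_pow h1)]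
        exact Finset.mem_insert_self q σ
      · exact Finset.mem_insert_of_mem (hKi r hr hd)

/-- An abelian Hall subgroup from `combine`. -/
theorem hall_of_combine (σ : Finset ℕ) (N : Subgroup G) [N.Normal] {K : Subgroup N}
    (hKn : (K.map N.subtype).Normal)
    (hKσ : ∀ r ∈ σ, ¬ r ∣ Nat.card K) (hKi : ∀ r : ℕ, r.Prime → r ∣ K.index → r ∈ σ)
    (hKc : ∀ a b : N, a * b * a⁻¹ * b⁻¹ ∈ K) (hNi : ∀ r ∈ σ, ¬ r ∣ N.index) :
    ∃ H : Subgroup G, IsPiHall (↑σ : Set ℕ) H ∧ IsMulCommutative H := by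
  haveI : K.Normal := by
    rw [← comap_map_eq_self_of_injective N.subtype_injective K]
    exact hKn.comap _
  obtain ⟨H, hH⟩ := exists_right_complement'_of_coprime (N := K) (Nat.coprime_of_dvd fun r hr h1 h2 =>
    hKσ r (hKi r hr h2) h1)
  have hHcard : Nat.card H = K.index := hH.symm.index_eq_card.symm
  have hHi : H.index = Nat.card K := hH.index_eq_card
  refine ⟨H.map N.subtype, ⟨fun r hr hd => ?_, fun r hr hrσ hd => ?_⟩, ⟨⟨?_⟩⟩⟩
  · rw [card_map_of_injective N.subtype_injective, hHcard] at hd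
    exact hKi r hr hd
  · rw [index_map_subtype, hHi] at hd
    exact (hr.dvd_mul.1 hd).elim (hKσ r hrσ) (hNi r hrσ)
  · rintro ⟨_, a, ha, rfl⟩ ⟨_, b, hb, rfl⟩
    have h1 : a * b * a⁻¹ * b⁻¹ ∈ K ⊓ H :=
      mem_inf.2 ⟨hKc a b, mul_mem (mul_mem (mul_mem ha hb) (inv_mem ha)) (inv_mem hb)⟩
    rw [hH.disjoint.eq_bot, mem_bot, mul_inv_eq_one, mul_inv_eq_iff_eq_mul] at h1
    exact Subtype.ext (congrArg N.subtype h1 :)

/-- Sylow `q`-subgroups lie in a normal subgroup of index prime to `q`. -/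
theorem sylow_le_of_index (N : Subgroup G) [N.Normal] (Q : Sylow q G) (h : ¬ q ∣ N.index) :
    (Q : Subgroup G) ≤ N := by
  intro x hx
  obtain ⟨k, hk⟩ := qElt_of_mem Q.2 hx
  refine (QuotientGroup.eq_one_iff x).1 (orderOf_eq_one_iff.1 ?_)
  exact Nat.eq_one_of_dvd_coprimes (k := orderOf (x : G ⧸ N))
    (((Fact.out : q.Prime).coprime_iff_not_dvd.2 h).pow_left k)
    (hk ▸ orderOf_map_dvd (QuotientGroup.mk' N) x)
    (by rw [index_eq_card]; exact orderOf_dvd_natCard _)

/-- The case `2 ∈ π`. -/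
theorem many_classes_two {G : Type u} [Group G] [Finite G] (π : Finset ℕ) (hπ : ∀ r ∈ π, r.Prime)
    (h2 : 2 ∈ π) (hk : piPart π G < 2 * kpi π G) :
    (∃ N : Subgroup G, N.Normal ∧ (∀ r : ℕ, r.Prime → r ∣ Nat.card N → r ∉ π) ∧
      ∀ r : ℕ, r.Prime → r ∣ N.index → r ∈ π) ∧
      ∃ H : Subgroup G, IsPiHall ((↑π : Set ℕ) \ {2}) H ∧ IsMulCommutative H := by
  classical
  have hlt : ∀ q ∈ π, q ^ (Nat.card G).factorization q < 2 * kq q G := fun q hq => by
    simpa using lt_kq_of_lt_kpi π hπ hq (a := 1) (by simpa using hk)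
  haveI : Fact (Nat.Prime 2) := ⟨Nat.prime_two⟩
  obtain ⟨N, hN, hNc, m, hNi⟩ := two_complement (hlt 2 h2)
  have hσp : ∀ r ∈ π.erase 2, r.Prime := fun r hr => hπ r (Finset.mem_of_mem_erase hr)
  have hNσ : ∀ r ∈ π.erase 2, ¬ r ∣ N.index := fun r hr hd => by
    rw [hNi] at hd
    exact Finset.ne_of_mem_erase hr
      ((Nat.prime_dvd_prime_iff_eq (hσp r hr) Nat.prime_two).1 ((hσp r hr).dvd_of_dvd_pow hd))
  obtain ⟨K, hK, hKσ, hKi, hKc⟩ := combine (π.erase 2) hσp N fun q hq => by
    haveI : Fact q.Prime := ⟨hσp q hq⟩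
    have hq3 : 3 ≤ q := by
      have := (hσp q hq).two_le
      have := Finset.ne_of_mem_erase hq
      omega
    let Q : Sylow q G := default
    have hQ := hlt q (Finset.mem_of_mem_erase hq)
    rw [← Q.card_eq_multiplicity] at hQ
    have hQN : (Q : Subgroup G) ≤ N := sylow_le_of_index N Q (hNσ q hq)
    refine odd_step N Q hQN ?_ ?_
    · by_contra hna
      have h1 := kq_bound_nonabelian Q hna
      have h3 : 2 * (q ^ 2 + (q - 1)) ≤ q ^ 3 := by
        obtain ⟨t, rfl⟩ : ∃ t, q = t + 3 := ⟨q - 3, by omega⟩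
        rw [show t + 3 - 1 = t + 2 from rfl]
        nlinarith [sq_nonneg t, pow_nonneg (Nat.zero_le t) 3]
      nlinarith
    · intro g hgN hgn
      by_contra hne
      have hnorm : ∀ b : G, b ∈ zpowers g → ∀ x ∈ (Q : Subgroup G), b * x * b⁻¹ ∈ (Q : Subgroup G) :=
        fun b hb x hx => (mem_normalizer_iff.1 ((zpowers_le.2 hgn) hb) x).1 hx
      have hord : ∀ b : G, b ∈ N → ¬ 2 ∣ orderOf b := fun b hb h => by
        have h1 : orderOf b ∣ Nat.card N :=
          (N.orderOf_coe ⟨b, hb⟩).symm ▸ orderOf_dvd_natCard _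
        exact (Nat.prime_two.coprime_iff_not_dvd.1 hNc.symm) (h.trans h1)
      have hcop2 : ∀ b : G, b ∈ N → Nat.Coprime (orderOf b) 2 := fun b hb =>
        (Nat.prime_two.coprime_iff_not_dvd.2 (hord b hb)).symm
      rcases hq3.eq_or_lt with rfl | hq5
      · obtain ⟨a, b, rfl, ha, hb, ha', hb'⟩ := Transfer.exists_pPart_mul (p := 3) g
        have haQ : a ∈ (Q : Subgroup G) := mem_of_normalises Q ha' ((zpowers_le.2 hgn) ha)
        have hbne : ¬ ∀ x ∈ (Q : Subgroup G), b * x = x * b := by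
          intro hall
          refine hne fun x hx => ?_
          have hax : a * x = x * a := by
            by_contra h'
            have h1 := kq_bound_nonabelian Q fun hall' => h' (congrArg Subtype.val (hall' ⟨a, haQ⟩ ⟨x, hx⟩))
            omega
          rw [mul_assoc, hall x hx, ← mul_assoc, hax, mul_assoc]
        have hbN : b ∈ N := (zpowers_le.2 hgN) hb
        have h1 := kq_bound_act Q (hnorm b hb) hbne 5 fun i hi hi5 => by
          interval_cases i
          · exact Nat.coprime_one_right _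
          · exact hcop2 b hbN
          · exact hb'
          · exact (hcop2 b hbN).pow_right 2
        omega
      · have h1 := kq_bound_act Q (hnorm g (mem_zpowers g)) hne 3 fun i hi hi3 => by
          interval_cases i
          · exact Nat.coprime_one_right _
          · exact hcop2 g hgN
        have h3 : 2 * (q + (3 - 1)) ≤ 3 * q := by omega
        nlinarith
  refine ⟨⟨K.map N.subtype, hK, fun r hr hd hrπ => ?_, fun r hr hd => ?_⟩, ?_⟩
  · rw [card_map_of_injective N.subtype_injective] at hd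
    by_cases h : r = 2
    · subst h
      exact (Nat.prime_two.coprime_iff_not_dvd.1 hNc.symm) (hd.trans K.card_subgroup_dvd_card)
    · exact hKσ r (Finset.mem_erase.2 ⟨h, hrπ⟩) hd
  · rw [index_map_subtype] at hd
    rcases hr.dvd_mul.1 hd with h | h
    · exact Finset.mem_of_mem_erase (hKi r hr h)
    · rw [hNi] at h
      rw [(Nat.prime_dvd_prime_iff_eq hr Nat.prime_two).1 (hr.dvd_of_dvd_pow h)]
      exact h2
  · obtain ⟨H, hH, hHc⟩ := hall_of_combine (π.erase 2) N hK hKσ hKi hKc hNσ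
    exact ⟨H, by rwa [Finset.coe_erase] at hH, hHc⟩

/-- The odd case. -/
theorem many_classes_odd {G : Type u} [Group G] [Finite G] (π : Finset ℕ) (hπ : ∀ r ∈ π, r.Prime)
    (h2 : 2 ∉ π) (p : ℕ) (hmin : ∀ r ∈ π, p ≤ r) (hk : (p + 1) * piPart π G < 2 * p * kpi π G) :
    (∃ N : Subgroup G, N.Normal ∧ (∀ r : ℕ, r.Prime → r ∣ Nat.card N → r ∉ π) ∧
      ∀ r : ℕ, r.Prime → r ∣ N.index → r ∈ π) ∧
      ∃ H : Subgroup G, IsPiHall (↑π : Set ℕ) H ∧ IsMulCommutative H := by
  have hti : ∀ r ∈ π, ¬ r ∣ (⊤ : Subgroup G).index := fun r hr hd => by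
    rw [index_top] at hd
    exact (hπ r hr).ne_one (Nat.dvd_one.1 hd)
  obtain ⟨K, hK, hKσ, hKi, hKc⟩ := combine π hπ (⊤ : Subgroup G) fun q hq => by
    haveI : Fact q.Prime := ⟨hπ q hq⟩
    have hq3 : 3 ≤ q := by
      have := (hπ q hq).two_le
      have : q ≠ 2 := fun h => h2 (h ▸ hq)
      omega
    let Q : Sylow q G := default
    have hQ := lt_kq_of_lt_kpi π hπ hq hk
    rw [← Q.card_eq_multiplicity] at hQ
    have hpq := hmin q hq
    have hQ' : (q + 1) * Nat.card (Q : Subgroup G) < 2 * q * kq q G := by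
      by_contra hcon
      push Not at hcon
      have h1 := Nat.mul_le_mul_left p hcon
      have h3 := Nat.mul_lt_mul_of_pos_left hQ (show 0 < q by omega)
      nlinarith
    refine odd_step (⊤ : Subgroup G) Q le_top ?_ ?_
    · by_contra hna
      have h1 := kq_bound_nonabelian Q hna
      have h3 : 2 * (q ^ 2 + (q - 1)) ≤ q ^ 2 * (q + 1) := by
        obtain ⟨t, rfl⟩ : ∃ t, q = t + 3 := ⟨q - 3, by omega⟩
        rw [show t + 3 - 1 = t + 2 from rfl]
        nlinarith [sq_nonneg t, pow_nonneg (Nat.zero_le t) 3]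
      nlinarith
    · intro g _ hgn
      by_contra hne
      have h1 := kq_bound_act Q (fun x hx => (mem_normalizer_iff.1 hgn x).1 hx) hne 2 fun i hi hi2 => by
        interval_cases i
        exact Nat.coprime_one_right _
      rw [show 2 - 1 = 1 from rfl] at h1
      omega
  refine ⟨⟨K.map (⊤ : Subgroup G).subtype, hK, fun r _ hd hrπ => ?_, fun r hr hd => ?_⟩, ?_⟩
  · rw [card_map_of_injective (⊤ : Subgroup G).subtype_injective] at hd
    exact hKσ r hrπ hd
  · rw [index_map_subtype, index_top, mul_one] at hd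
    exact hKi r hr hd
  · exact hall_of_combine π (⊤ : Subgroup G) hK hKσ hKi hKc hti

end Cfsg.Agent.PiClassCount
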