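import Cfsg.Agent.Lib.Solvable.SylowSystem
import Cfsg.Agent.Lib.CharApp.Burnside

/-!
# Converse of Hall's theorem (owner: helper2)

* `isSolvable_of_complementSystem`: Hall p-complements for every prime imply solvability
* `isSolvable_of_sylowSystem`: pairwise permuting Sylow subgroups imply solvability
-/

open Pointwise

namespace Cfsg.Agent.Solvable

theorem isSolvable_of_card_two_primes {G : Type*} [Group G] [Finite G] {p q : ℕ} (hp : p.Prime)
    (hq : q.Prime) (hpq : p ≠ q) (h : IsPiNum {p, q} (Nat.card G)) : Group.IsSolvable G := by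
  obtain ⟨a, m, hm, hn⟩ := Nat.exists_eq_pow_mul_and_not_dvd (Nat.card_pos (α := G)).ne' p hp.ne_one
  refine CharApp.isSolvable_of_card_eq_prime_pow_mul p q hp hq _ G rfl a (m.primeFactorsList.length) ?_
  rw [hn]
  congr 1
  refine Nat.eq_prime_pow_of_unique_prime_dvd (fun h0 => hm (h0 ▸ dvd_zero p)) fun {r} hr hd => ?_
  rcases h r hr (hn ▸ hd.trans (dvd_mul_left _ _)) with e | e
  · exact absurd (e ▸ hd) hm
  · exact e

private theorem converse_aux (n : ℕ) : ∀ {G : Type*} [Group G] [Finite G], Nat.card G = n →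
    (∀ p : ℕ, p.Prime → ∃ H : Subgroup G, H.index = p ^ (Nat.card G).factorization p) →
    Group.IsSolvable G := by
  induction n using Nat.strongRecOn with
  | _ c ih =>
    intro G _ _ hc h
    subst hc
    have hsub : ∀ p : ℕ, p.Prime → p ∣ Nat.card G →
        ∀ H : Subgroup G, H.index = p ^ (Nat.card G).factorization p → Group.IsSolvable H := by
      intro p hp hd H hH
      have hHi := isPiHall_iff.1 ((isPiHall_compl_singleton_iff hp).2 hH)
      have hne : H ≠ ⊤ := fun e => hHi.1 p hp (by rw [e, Subgroup.card_top]; exact hd) (Set.mem_singleton p)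
      refine ih _ (card_lt_of_ne_top hne) rfl fun q hq => ?_
      rcases eq_or_ne q p with rfl | hqp
      · refine ⟨⊤, ?_⟩
        rw [Subgroup.index_top, Nat.factorization_eq_zero_of_not_dvd, pow_zero]
        exact fun hd' => hHi.1 q hq hd' (Set.mem_singleton q)
      · obtain ⟨K, hK⟩ := h q hq
        refine ⟨K.subgroupOf H, ?_⟩
        have hcop : K.index.Coprime H.index := by
          rw [hK, hH]; exact Nat.Coprime.pow _ _ ((Nat.coprime_primes hq hp).2 hqp)
        have hfac : (Nat.card G).factorization q = (Nat.card H).factorization q := by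
          rw [← H.card_mul_index, Nat.factorization_mul Nat.card_pos.ne'
            Subgroup.index_ne_zero_of_finite]
          simp [hH, hp.factorization_pow, Ne.symm hqp]
        show K.relIndex H = _
        rw [relIndex_eq_index_of_coprime hcop, hK, hfac]
    by_cases h3 : ∃ p ∈ (Nat.card G).primeFactors, ∃ q ∈ (Nat.card G).primeFactors,
        ∃ r ∈ (Nat.card G).primeFactors, p ≠ q ∧ p ≠ r ∧ q ≠ r
    · obtain ⟨p, hp, q, hq, r, hr, hpq, hpr, hqr⟩ := h3
      rw [Nat.mem_primeFactors] at hp hq hr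
      obtain ⟨P, hP⟩ := h p hp.1
      obtain ⟨Q, hQ⟩ := h q hq.1
      obtain ⟨R, hR⟩ := h r hr.1
      refine isSolvable_of_three_coprime_index (hsub p hp.1 hp.2.1 P hP) (hsub q hq.1 hq.2.1 Q hQ)
        (hsub r hr.1 hr.2.1 R hR) ?_ ?_ ?_ <;> simp only [hP, hQ, hR]
      · exact Nat.Coprime.pow _ _ ((Nat.coprime_primes hp.1 hq.1).2 hpq)
      · exact Nat.Coprime.pow _ _ ((Nat.coprime_primes hp.1 hr.1).2 hpr)
      · exact Nat.Coprime.pow _ _ ((Nat.coprime_primes hq.1 hr.1).2 hqr)
    · simp only [not_exists, not_and, not_not, Nat.mem_primeFactors, and_imp] at h3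
      rcases subsingleton_or_nontrivial G with hG | hG
      · infer_instance
      obtain ⟨p, hp, hpd⟩ := Nat.exists_prime_and_dvd (Finite.one_lt_card (α := G)).ne'
      by_cases h2 : ∃ q, q.Prime ∧ q ∣ Nat.card G ∧ q ≠ p
      · obtain ⟨q, hq, hqd, hqp⟩ := h2
        refine isSolvable_of_card_two_primes hp hq hqp.symm fun r hr hrd => ?_
        by_contra hne
        simp only [Set.mem_insert_iff, Set.mem_singleton_iff, not_or] at hne
        exact hne.2 (h3 p hp hpd Nat.card_pos.ne' q hq hqd Nat.card_pos.ne' r hr hrd Nat.card_pos.ne'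
          hqp.symm (Ne.symm hne.1)).symm
      · have := Fact.mk hp
        refine isSolvable_of_isPiNum_singleton (p := p) fun r hr hrd => ?_
        by_contra hne
        exact h2 ⟨r, hr, hrd, hne⟩

theorem isSolvable_of_complementSystem {G : Type*} [Group G] [Finite G]
    (h : ∀ p : ℕ, p.Prime → ∃ H : Subgroup G, H.index = p ^ (Nat.card G).factorization p) :
    Group.IsSolvable G :=
  converse_aux _ rfl h

variable {G : Type*} [Group G]

/-- The product of two permuting subgroups, as a subgroup. -/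
theorem exists_subgroup_mul {H K : Subgroup G} (h : (H : Set G) * K = (K : Set G) * H) :
    ∃ T : Subgroup G, (T : Set G) = (H : Set G) * K := by
  refine ⟨{ carrier := (H : Set G) * K, one_mem' := ⟨1, one_mem _, 1, one_mem _, one_mul 1⟩,
            mul_mem' := fun {a b} ha hb => ?_, inv_mem' := fun {a} ha => ?_ }, rfl⟩
  · have h1 : a * b ∈ (H : Set G) * K * ((H : Set G) * K) := Set.mul_mem_mul ha hb
    rwa [mul_assoc, ← mul_assoc (K : Set G) (H : Set G) (K : Set G), ← h, ← mul_assoc, ← mul_assoc,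
      coe_mul_coe, mul_assoc, coe_mul_coe] at h1
  · have h1 : a⁻¹ ∈ ((H : Set G) * K)⁻¹ := Set.inv_mem_inv.2 ha
    rwa [mul_inv_rev, inv_coe_set, inv_coe_set, ← h] at h1

theorem relIndex_eq_of_mul [Finite G] {H K T : Subgroup G} (h : (T : Set G) = (H : Set G) * K) :
    K.relIndex T = K.relIndex H := by
  have hH : H ≤ T := fun x hx => by
    rw [← SetLike.mem_coe, h]; exact ⟨x, hx, 1, one_mem _, mul_one x⟩
  let f : H ⧸ K.subgroupOf H → T ⧸ K.subgroupOf T :=
    Quotient.map' (Subgroup.inclusion hH) fun a b hab => by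
      rw [QuotientGroup.leftRel_apply, Subgroup.mem_subgroupOf] at hab ⊢
      simpa using hab
  have hinj : Function.Injective f := by
    intro a b
    induction a using Quotient.inductionOn' with | _ a => ?_
    induction b using Quotient.inductionOn' with | _ b => ?_
    intro hab
    have hab' : (QuotientGroup.mk (Subgroup.inclusion hH a) : T ⧸ K.subgroupOf T) =
      QuotientGroup.mk (Subgroup.inclusion hH b) := hab
    rw [QuotientGroup.eq, Subgroup.mem_subgroupOf] at hab'
    exact QuotientGroup.eq.2 (Subgroup.mem_subgroupOf.2 (by simpa using hab'))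
  have hsurj : Function.Surjective f := by
    intro q
    induction q using Quotient.inductionOn' with | _ x => ?_
    have hx : (x : G) ∈ (H : Set G) * K := h ▸ x.2
    obtain ⟨a, ha, b, hb, hab⟩ := hx
    refine ⟨QuotientGroup.mk ⟨a, ha⟩, ?_⟩
    show (QuotientGroup.mk (Subgroup.inclusion hH ⟨a, ha⟩) : T ⧸ K.subgroupOf T) = QuotientGroup.mk x
    rw [QuotientGroup.eq, Subgroup.mem_subgroupOf]
    show a⁻¹ * (x : G) ∈ K
    rw [← hab]; simpa using hb
  exact (Nat.card_eq_of_bijective f ⟨hinj, hsurj⟩).symm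

theorem isSolvable_of_sylowSystem [Finite G] (S : (p : Nat.Primes) → Sylow (p : ℕ) G)
    (hS : ∀ p q : Nat.Primes, (S p : Set G) * (S q : Set G) = (S q : Set G) * (S p : Set G)) :
    Group.IsSolvable G := by
  classical
  obtain ⟨s, hs⟩ := exists_primesFinset G
  have hprod : ∀ t : Finset Nat.Primes, ∃ T : Subgroup G, (∀ q ∈ t, (S q : Subgroup G) ≤ T) ∧
      IsPiNum {r : ℕ | ∃ q ∈ t, (q : ℕ) = r} (Nat.card T) ∧
      ∀ r : Nat.Primes, (T : Set G) * (S r : Set G) = (S r : Set G) * (T : Set G) := by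
    intro t
    induction t using Finset.induction with
    | empty =>
      refine ⟨⊥, by simp, by rw [Subgroup.card_bot]; exact isPiNum_one, fun r => ?_⟩
      rw [Subgroup.coe_bot]
      simp [Set.singleton_mul, Set.mul_singleton]
    | insert a t hat ih =>
      obtain ⟨T, hT1, hT2, hT3⟩ := ih
      obtain ⟨T', hT'⟩ := exists_subgroup_mul (H := T) (K := (S a : Subgroup G)) (hT3 a)
      have hle1 : T ≤ T' := fun x hx => by
        rw [← SetLike.mem_coe, hT']; exact ⟨x, hx, 1, one_mem _, mul_one x⟩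
      have hle2 : (S a : Subgroup G) ≤ T' := fun x hx => by
        rw [← SetLike.mem_coe, hT']; exact ⟨1, one_mem _, x, hx, one_mul x⟩
      refine ⟨T', fun q hq => ?_, ?_, fun r => ?_⟩
      · rcases Finset.mem_insert.1 hq with rfl | hq
        · exact hle2
        · exact (hT1 q hq).trans hle1
      · have h1 := Subgroup.relIndex_mul_relIndex ⊥ (S a : Subgroup G) T' bot_le hle2
        rw [Subgroup.relIndex_bot_left, Subgroup.relIndex_bot_left, relIndex_eq_of_mul hT'] at h1
        rw [← h1]
        refine IsPiNum.mul ?_ ((hT2.mono ?_).of_dvd (Subgroup.relIndex_dvd_card _ _))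
        · have := Fact.mk a.2
          exact isPiNum_of_isPGroup (S a).2 ⟨a, Finset.mem_insert_self a t, rfl⟩
        · exact fun r ⟨q, hq, e⟩ => ⟨q, Finset.mem_insert_of_mem hq, e⟩
      · rw [hT', mul_assoc]
        show (T : Set G) * ((S a : Set G) * (S r : Set G)) = _
        rw [hS a r, ← mul_assoc, hT3 r, mul_assoc]
        rfl
  refine isSolvable_of_complementSystem fun p hp => ?_
  obtain ⟨T, hT1, hT2, -⟩ := hprod (s.erase ⟨p, hp⟩)
  refine ⟨T, (isPiHall_compl_singleton_iff hp).1 (isPiHall_iff.2 ⟨hT2.mono ?_, ?_⟩)⟩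
  · rintro r ⟨q, hq, rfl⟩ hqp
    exact (Finset.mem_erase.1 hq).1 (Subtype.ext (Set.mem_singleton_iff.1 hqp))
  · intro r hr hd hrp
    have := Fact.mk hr
    refine (S ⟨r, hr⟩).not_dvd_index (hd.trans (Subgroup.index_dvd_of_le (hT1 _ ?_)))
    exact Finset.mem_erase.2 ⟨fun e => hrp (Set.mem_singleton_iff.2 (congrArg Subtype.val e)),
      (hs _).2 (hd.trans T.index_dvd_card)⟩

end Cfsg.Agent.Solvable
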