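import Cfsg.Agent.Lib.Solvable.Hall
import Cfsg.Agent.Lib.Coprime.Invariant

/-!
# Hall subgroups invariant under a coprime group of operators (owner: helper2)

* `isPiSeparable_of_solvable_normal`, `hallHyp_of_solvable_normal`
* `exists_invariant_hall_ge`, `invariant_hall_conj`
-/

open Pointwise

namespace Cfsg.Agent.Solvable

variable {G : Type*} [Group G]

theorem isPiSeparable_of_solvable_normal [Finite G] {π : Set ℕ} {N : Subgroup G} [hNn : N.Normal]
    [Group.IsSolvable N] (hidx : IsPiNum π N.index) : IsPiSeparable π G := by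
  intro M hM hMtop
  by_cases hNM : N ≤ M
  · refine ⟨⊤, inferInstance, lt_top_iff_ne_top.2 hMtop, Or.inl ?_⟩
    rw [Subgroup.relIndex_top_right]
    exact hidx.of_dvd (Subgroup.index_dvd_of_le hNM)
  let f := QuotientGroup.mk' M
  have hf : f.ker = M := QuotientGroup.ker_mk' M
  have : (N.map f).Normal := hNn.map f (QuotientGroup.mk'_surjective M)
  have : Group.IsSolvable (N.map f) := isSolvable_map f N
  obtain ⟨p, hp, B, hBn, hB0, -, -, hBp, -, -⟩ := exists_minimal_normal_pGroup (map_mk'_ne_bot hNM)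
  have := Fact.mk hp
  have hB : M.relIndex (B.comap f) = Nat.card B := by
    have h := Subgroup.relIndex_ker f (K := B.comap f)
    rwa [hf, Subgroup.map_comap_eq_self_of_surjective (QuotientGroup.mk'_surjective M)] at h
  refine ⟨B.comap f, hBn.comap f, lt_of_le_of_ne (QuotientGroup.le_comap_mk' M B) fun e => hB0 ?_, ?_⟩
  · refine Subgroup.eq_bot_of_card_eq B ?_
    rw [← hB, ← e, Subgroup.relIndex_self]
  rw [hB]
  by_cases hpπ : p ∈ π
  · exact Or.inl (isPiNum_of_isPGroup hBp hpπ)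
  · exact Or.inr (isPiNum_of_isPGroup hBp hpπ)

theorem hallHyp_of_solvable_normal [Finite G] {π : Set ℕ} {N : Subgroup G} [N.Normal]
    [Group.IsSolvable N] (hidx : IsPiNum π N.index) : HallHyp π G := by
  refine Or.inr fun U hU => ?_
  have hle : U ≤ N := Subgroup.relIndex_eq_one.1
    ((hidx.of_dvd (N.relIndex_dvd_index_of_normal U)).eq_one (hU.of_dvd (N.relIndex_dvd_card U)))
  exact isSolvable_of_le hle

/-- An invariant π-subgroup lies in an invariant Hall π-subgroup. -/
theorem exists_invariant_hall_ge [Finite G] {A N : Subgroup G}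
    (hAN : A ≤ Subgroup.normalizer (N : Set G)) (hcop : (Nat.card A).Coprime (Nat.card N))
    (hsolv : Group.IsSolvable N) (π : Set ℕ) {U : Subgroup G} (hUN : U ≤ N)
    (hAU : A ≤ Subgroup.normalizer (U : Set G)) (hU : IsPiNum π (Nat.card U)) :
    ∃ H : Subgroup G, Cfsg.IsPiHallOf π H N ∧ A ≤ Subgroup.normalizer (H : Set G) ∧ U ≤ H := by
  set S := N ⊔ A
  have hNS : N ≤ S := le_sup_left
  have hAS : A ≤ S := le_sup_right
  have : (N.subgroupOf S).Normal :=
    Subgroup.normal_subgroupOf_of_le_normalizer (sup_le Subgroup.le_normalizer hAN)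
  have hsN : Group.IsSolvable ↥(N.subgroupOf S) := isSolvable_subgroupOf S
  let σ : Set ℕ := {q | q ∈ π ∧ q ∣ Nat.card N ∨ q ∣ Nat.card A}
  have hNc : Nat.card ↥(N.subgroupOf S) = Nat.card N :=
    Nat.card_congr (Subgroup.subgroupOfEquivOfLe hNS).toEquiv
  have hidxA : (N.subgroupOf S).index ∣ Nat.card A := by
    show N.relIndex (N ⊔ A) ∣ _
    have h1 := Coprime.card_sup_of_coprime hAN hcop.symm
    have h2 := Subgroup.relIndex_mul_relIndex ⊥ N (N ⊔ A) bot_le le_sup_left
    rw [Subgroup.relIndex_bot_left, Subgroup.relIndex_bot_left, h1] at h2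
    exact (Nat.eq_of_mul_eq_mul_left Nat.card_pos h2).dvd
  have hidx : IsPiNum σ (N.subgroupOf S).index := fun q hq hd => Or.inr (hd.trans hidxA)
  have hUA : IsPiNum σ (Nat.card ↥((U ⊔ A).subgroupOf S)) := by
    rw [Nat.card_congr (Subgroup.subgroupOfEquivOfLe (sup_le (hUN.trans hNS) hAS)).toEquiv,
      Coprime.card_sup_of_coprime hAU (hcop.coprime_dvd_right (Subgroup.card_dvd_of_le hUN)).symm]
    refine IsPiNum.mul (fun q hq hd => Or.inl ⟨hU q hq hd, hd.trans (Subgroup.card_dvd_of_le hUN)⟩)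
      (fun q hq hd => Or.inr hd)
  obtain ⟨H, hH, hle⟩ := exists_piHall_ge (isPiSeparable_of_solvable_normal hidx)
    (hallHyp_of_solvable_normal hidx) hUA
  obtain ⟨-, hc, hi⟩ := isPiHall_inf_normal (N := N.subgroupOf S) hH
  have hmap : (H ⊓ N.subgroupOf S).map S.subtype = H.map S.subtype ⊓ N := by
    rw [Subgroup.map_inf _ _ _ S.subtype_injective, Subgroup.subgroupOf_map_subtype, ← inf_assoc]
    exact inf_eq_left.2 (inf_le_left.trans (Subgroup.map_subtype_le H))
  refine ⟨H.map S.subtype ⊓ N, ⟨inf_le_right, fun q hq hd => ?_, fun q hq hqπ hd => ?_⟩, ?_, ?_⟩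
  · rcases hc q hq (by rwa [← hmap, Subgroup.card_map_of_injective S.subtype_injective] at hd) with h | h
    · exact h.1
    · exact absurd (hd.trans (Subgroup.card_dvd_of_le inf_le_right))
        fun h' => Nat.not_coprime_of_dvd_of_dvd hq.one_lt h h' hcop
  · have hqN : q ∣ Nat.card N := hd.trans (Subgroup.relIndex_dvd_card _ _)
    refine hi q hq (Or.inl ⟨hqπ, hqN⟩) ?_
    have h3 := Subgroup.relIndex_map_map_of_injective (H ⊓ N.subgroupOf S) (N.subgroupOf S)
      S.subtype_injective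
    rw [hmap, Subgroup.map_subgroupOf_eq_of_le hNS] at h3
    rwa [← h3]
  · intro a ha
    rw [mem_normalizer_iff_conj, Subgroup.smul_inf, mem_normalizer_iff_conj.1 (hAN ha), conj_eq_self]
    exact ⟨⟨a, hAS ha⟩, hle (Subgroup.mem_subgroupOf.2 (Subgroup.mem_sup_right ha)), rfl⟩
  · exact le_inf (fun u hu => ⟨⟨u, hNS (hUN hu)⟩,
      hle (Subgroup.mem_subgroupOf.2 (Subgroup.mem_sup_left hu)), rfl⟩) hUN

theorem invariant_hall_conj [Finite G] {A N : Subgroup G}
    (hAN : A ≤ Subgroup.normalizer (N : Set G)) (hcop : (Nat.card A).Coprime (Nat.card N))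
    (hsolv : Group.IsSolvable N) {π : Set ℕ} {H₁ H₂ : Subgroup G} (h₁ : Cfsg.IsPiHallOf π H₁ N)
    (hA₁ : A ≤ Subgroup.normalizer (H₁ : Set G)) (h₂ : Cfsg.IsPiHallOf π H₂ N)
    (hA₂ : A ≤ Subgroup.normalizer (H₂ : Set G)) :
    ∃ c ∈ N ⊓ Subgroup.centralizer (A : Set G), MulAut.conj c • H₁ = H₂ := by
  obtain ⟨k, hk⟩ := piHall_conj_of_solvable (isPiHall_subgroupOf h₁) (isPiHall_subgroupOf h₂)
  have hk' := congrArg (Subgroup.map N.subtype) hk
  rw [map_conj, Subgroup.map_subgroupOf_eq_of_le h₁.1, Subgroup.map_subgroupOf_eq_of_le h₂.1] at hk'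
  have hk'' : MulAut.conj (k : G) • H₁ = H₂ := hk'
  obtain ⟨c, hc, hcP⟩ := Coprime.exists_mem_centralizer_conj hAN hcop (Or.inr hsolv)
    (P := H₁) k.2 hA₁ (hk''.symm ▸ hA₂)
  exact ⟨c, hc, hcP.trans hk''⟩

end Cfsg.Agent.Solvable
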