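import Cfsg.Agent.Lib.Solvable.Hall

/-!
# Maximal subgroups, factorisations, Wielandt's solvability criterion (owner: helper2)

* `relIndex_sup_of_normal`, `exists_mul_of_coprime_index`, `relIndex_eq_index_of_coprime`
* `isPrimePow_index_of_isCoatom`: maximal subgroups of solvable groups have prime power index
* `isSolvable_of_factorizations`, `isSolvable_of_three_coprime_index` (Wielandt)
-/

open Pointwise

namespace Cfsg.Agent.Solvable

variable {G : Type*} [Group G]

theorem relIndex_sup_of_normal [Finite G] (H N : Subgroup G) [N.Normal] :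
    H.relIndex (H ⊔ N) = H.relIndex N := by
  have h1 := card_sup_mul_card_inf H N
  have h2 := Subgroup.relIndex_mul_relIndex ⊥ (H ⊓ N) N bot_le inf_le_right
  rw [Subgroup.relIndex_bot_left, Subgroup.relIndex_bot_left, Subgroup.inf_relIndex_right] at h2
  have h3 := Subgroup.relIndex_mul_relIndex ⊥ H (H ⊔ N) bot_le le_sup_left
  rw [Subgroup.relIndex_bot_left, Subgroup.relIndex_bot_left] at h3
  rw [← h2, ← h3] at h1
  refine Nat.eq_of_mul_eq_mul_left (n := Nat.card H * Nat.card ↥(H ⊓ N))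
    (Nat.mul_pos Nat.card_pos Nat.card_pos) ?_
  linarith

theorem relIndex_eq_index_of_coprime [Finite G] {H K : Subgroup G}
    (h : H.index.Coprime K.index) : H.relIndex K = H.index := by
  have h1 := Subgroup.relIndex_mul_index (inf_le_left : H ⊓ K ≤ H)
  have h2 := Subgroup.relIndex_mul_index (inf_le_right : H ⊓ K ≤ K)
  rw [Subgroup.inf_relIndex_right] at h2
  rw [Subgroup.inf_relIndex_left] at h1
  have h3 : H.index ∣ H.relIndex K :=
    h.dvd_of_dvd_mul_right (h2 ▸ h1 ▸ dvd_mul_left H.index _)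
  refine le_antisymm (Nat.le_of_mul_le_mul_right ?_
    (Nat.pos_of_ne_zero K.index_ne_zero_of_finite)) (Nat.le_of_dvd ?_ h3)
  · rw [h2]; exact Subgroup.index_inf_le
  · refine Nat.pos_of_ne_zero fun h0 => ?_
    rw [h0, zero_mul] at h2
    exact Subgroup.index_ne_zero_of_finite h2.symm

theorem exists_mul_of_coprime_index [Finite G] {H K : Subgroup G}
    (h : H.index.Coprime K.index) (g : G) : ∃ k ∈ K, ∃ x ∈ H, g = k * x := by
  let f : K ⧸ H.subgroupOf K → G ⧸ H :=
    Quotient.map' (fun k : K => (k : G)) fun a b hab => by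
      rw [QuotientGroup.leftRel_apply] at hab ⊢
      exact hab
  have hinj : Function.Injective f := by
    intro a b
    induction a using Quotient.inductionOn' with | _ a => ?_
    induction b using Quotient.inductionOn' with | _ b => ?_
    intro hab
    have hab' : (QuotientGroup.mk (a : G) : G ⧸ H) = QuotientGroup.mk (b : G) := hab
    exact QuotientGroup.eq.2 (Subgroup.mem_subgroupOf.2 (QuotientGroup.eq.1 hab'))
  have hbij : Function.Bijective f :=
    (Nat.bijective_iff_injective_and_card f).2 ⟨hinj, relIndex_eq_index_of_coprime h⟩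
  obtain ⟨q, hq⟩ := hbij.2 (QuotientGroup.mk g)
  induction q using Quotient.inductionOn' with | _ k => ?_
  have hq' : (QuotientGroup.mk (k : G) : G ⧸ H) = QuotientGroup.mk g := hq
  exact ⟨k, k.2, (k : G)⁻¹ * g, QuotientGroup.eq.1 hq', by simp⟩

theorem isPrimePow_index_of_isCoatom [Finite G] [Group.IsSolvable G] {M : Subgroup G}
    (hM : IsCoatom M) : IsPrimePow M.index := by
  let A := M.normalCore
  have hA : A ≠ ⊤ := fun h => hM.1 (top_le_iff.1 (h ▸ M.normalCore_le))
  have : Nontrivial (G ⧸ A) := QuotientGroup.nontrivial_iff.2 hA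
  obtain ⟨p, hp, B, hBn, hB0, hBp⟩ := exists_normal_pGroup_ne_bot (G ⧸ A)
  have := Fact.mk hp
  let f := QuotientGroup.mk' A
  have hf : f.ker = A := QuotientGroup.ker_mk' A
  have hBM : ¬ B.comap f ≤ M := by
    intro h
    apply hB0
    rw [← Subgroup.map_comap_eq_self_of_surjective (QuotientGroup.mk'_surjective A) B]
    refine (Subgroup.map_eq_bot_iff _).2 ?_
    rw [hf]
    exact (Subgroup.normal_le_normalCore).2 h
  have htop : M ⊔ B.comap f = ⊤ := hM.2 _ (left_lt_sup.2 hBM)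
  obtain ⟨k, hk⟩ := IsPGroup.iff_card.1 hBp
  have hd : M.index ∣ p ^ k := by
    have h1 : M.index = M.relIndex (B.comap f) := by
      rw [← relIndex_sup_of_normal, htop, Subgroup.relIndex_top_right]
    have h2 := Subgroup.relIndex_ker f (K := B.comap f)
    rw [hf, Subgroup.map_comap_eq_self_of_surjective (QuotientGroup.mk'_surjective A) B, hk] at h2
    rw [h1, ← h2]
    exact Subgroup.relIndex_dvd_of_le_left _ M.normalCore_le
  obtain ⟨j, -, hj⟩ := (Nat.dvd_prime_pow hp).1 hd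
  rw [hj]
  refine hp.isPrimePow.pow ?_
  rintro rfl
  exact hM.1 (Subgroup.index_eq_one.1 (by rw [hj, pow_zero]))

private theorem factorizations_aux (n : ℕ) : ∀ {G : Type*} [Group G] [Finite G]
    (H₁ H₂ H₃ : Subgroup G), Nat.card G = n →
    Group.IsSolvable H₁ → Group.IsSolvable H₂ → Group.IsSolvable H₃ →
    (∀ g : G, ∃ x ∈ H₁, ∃ y ∈ H₂, g = x * y) → (∀ g : G, ∃ x ∈ H₁, ∃ y ∈ H₃, g = x * y) →
    H₂.index.Coprime H₃.index → Group.IsSolvable G := by
  induction n using Nat.strongRecOn with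
  | _ c ih =>
    intro G _ _ H₁ H₂ H₃ hc h₁ h₂ h₃ h12 h13 hcop
    subst hc
    rcases eq_or_ne H₁ ⊥ with rfl | hH1
    · refine Group.isSolvable_of_surjective (f := H₂.subtype) fun g => ?_
      obtain ⟨x, hx, y, hy, rfl⟩ := h12 g
      exact ⟨⟨y, hy⟩, by simp [Subgroup.mem_bot.1 hx]⟩
    have : Nontrivial H₁ := (Subgroup.nontrivial_iff_ne_bot H₁).2 hH1
    obtain ⟨p, hp, N', hN'n, hN'0, hN'p⟩ := exists_normal_pGroup_ne_bot H₁
    have := Fact.mk hp
    -- one of the two indices is prime to `p`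
    obtain ⟨X, hX, hXcases⟩ : ∃ X : Subgroup G, ¬ p ∣ X.index ∧ (X = H₂ ∨ X = H₃) := by
      by_cases h : p ∣ H₂.index
      · exact ⟨H₃, fun h' => Nat.not_coprime_of_dvd_of_dvd hp.one_lt h h' hcop, Or.inr rfl⟩
      · exact ⟨H₂, h, Or.inl rfl⟩
    have h1X : ∀ g : G, ∃ x ∈ H₁, ∃ y ∈ X, g = x * y := by
      rcases hXcases with rfl | rfl
      · exact h12
      · exact h13
    have hXs : Group.IsSolvable X := by
      rcases hXcases with rfl | rfl
      · exact h₂
      · exact h₃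
    obtain ⟨S⟩ := (inferInstance : Nonempty (Sylow p X))
    let P := (S : Subgroup X).map X.subtype
    have hPi : ¬ p ∣ P.index := by
      rw [Subgroup.index_map_subtype]
      exact fun h => (hp.dvd_mul.1 h).elim S.not_dvd_index hX
    have hPp : IsPGroup p P := S.2.map _
    let N := N'.map H₁.subtype
    have hNp : IsPGroup p N := hN'p.map _
    obtain ⟨Q, hQ⟩ := hNp.exists_le_sylow
    obtain ⟨g, hg⟩ := MulAction.exists_smul_eq G (hPp.toSylow hPi) Q
    have hNX : ∀ x ∈ N, x ∈ X := by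
      obtain ⟨a, ha, b, hb, rfl⟩ := h1X g
      intro x hx
      obtain ⟨x', hx', rfl⟩ := hx
      have h1 : (⟨a, ha⟩ : H₁) * x' * (⟨a, ha⟩ : H₁)⁻¹ ∈ N' := hN'n.conj_mem x' hx' _
      have h2 : a * (x' : G) * a⁻¹ ∈ MulAut.conj (a * b) • P := by
        have h3 : MulAut.conj (a * b) • P = (Q : Subgroup G) := congrArg Sylow.toSubgroup hg
        rw [h3]
        exact hQ ⟨_, h1, rfl⟩
      rw [mem_conj_iff] at h2
      have h4 := Subgroup.map_subtype_le _ h2
      have h5 := mul_mem (mul_mem hb h4) (inv_mem hb)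
      simpa [mul_assoc] using h5
    let M := Subgroup.normalClosure (N : Set G)
    have hMX : M ≤ X := by
      refine (Subgroup.closure_le X).2 fun z hz => ?_
      obtain ⟨x, hx, hxz⟩ := Group.mem_conjugatesOfSet_iff.1 hz
      obtain ⟨c, rfl⟩ := isConj_iff.1 hxz
      obtain ⟨a, ha, b, hb, hab⟩ := h1X c⁻¹
      have hc : c = b⁻¹ * a⁻¹ := by rw [← inv_inv c, hab, mul_inv_rev]
      obtain ⟨x', hx', rfl⟩ := hx
      have h1 : (⟨a, ha⟩ : H₁)⁻¹ * x' * ((⟨a, ha⟩ : H₁)⁻¹)⁻¹ ∈ N' := hN'n.conj_mem x' hx' _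
      have h2 : a⁻¹ * (x' : G) * a ∈ X := hNX _ ⟨_, h1, by simp⟩
      have h3 := mul_mem (mul_mem (inv_mem hb) h2) hb
      show c * (x' : G) * c⁻¹ ∈ X
      rw [hc]
      simpa [mul_assoc] using h3
    have hN0 : N ≠ ⊥ := by
      intro h
      exact hN'0 ((Subgroup.map_eq_bot_iff_of_injective _ H₁.subtype_injective).1 h)
    have hM0 : M ≠ ⊥ := fun h => hN0 (le_bot_iff.1 (h ▸ Subgroup.subset_normalClosure))
    have hMn : M.Normal := Subgroup.normalClosure_normal
    let f := QuotientGroup.mk' M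
    have himg : ∀ (A B : Subgroup G), (∀ g : G, ∃ x ∈ A, ∃ y ∈ B, g = x * y) →
        ∀ g : G ⧸ M, ∃ x ∈ A.map f, ∃ y ∈ B.map f, g = x * y := by
      intro A B h g
      obtain ⟨g, rfl⟩ := QuotientGroup.mk'_surjective M g
      obtain ⟨x, hx, y, hy, rfl⟩ := h g
      exact ⟨f x, ⟨x, hx, rfl⟩, f y, ⟨y, hy, rfl⟩, map_mul f x y⟩
    have := ih _ (card_quotient_lt hM0) (H₁.map f) (H₂.map f) (H₃.map f) rfl
      (isSolvable_map f H₁) (isSolvable_map f H₂) (isSolvable_map f H₃) (himg _ _ h12) (himg _ _ h13)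
      ((hcop.coprime_dvd_left (Subgroup.index_map_dvd H₂ (QuotientGroup.mk'_surjective M))).coprime_dvd_right
        (Subgroup.index_map_dvd H₃ (QuotientGroup.mk'_surjective M)))
    have : Group.IsSolvable M := isSolvable_of_le hMX
    exact (Group.isSolvable_iff_subgroup_quotient M).2 ⟨inferInstance, inferInstance⟩

theorem isSolvable_of_factorizations [Finite G] {H₁ H₂ H₃ : Subgroup G} (h₁ : Group.IsSolvable H₁)
    (h₂ : Group.IsSolvable H₂) (h₃ : Group.IsSolvable H₃)
    (h12 : ∀ g : G, ∃ x ∈ H₁, ∃ y ∈ H₂, g = x * y) (h13 : ∀ g : G, ∃ x ∈ H₁, ∃ y ∈ H₃, g = x * y)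
    (hcop : H₂.index.Coprime H₃.index) : Group.IsSolvable G :=
  factorizations_aux _ H₁ H₂ H₃ rfl h₁ h₂ h₃ h12 h13 hcop

/-- **Wielandt**: three solvable subgroups of pairwise coprime indices. -/
theorem isSolvable_of_three_coprime_index [Finite G] {H₁ H₂ H₃ : Subgroup G}
    (h₁ : Group.IsSolvable H₁) (h₂ : Group.IsSolvable H₂) (h₃ : Group.IsSolvable H₃)
    (c12 : H₁.index.Coprime H₂.index) (c13 : H₁.index.Coprime H₃.index)
    (c23 : H₂.index.Coprime H₃.index) : Group.IsSolvable G :=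
  isSolvable_of_factorizations h₁ h₂ h₃ (exists_mul_of_coprime_index c12.symm)
    (exists_mul_of_coprime_index c13.symm) c23

theorem isComplement'_of_minimal_normal_abelian [Finite G] {N : Subgroup G} [N.Normal]
    [IsMulCommutative N] (hmin : ∀ M : Subgroup G, M.Normal → M ≤ N → M = ⊥ ∨ M = N)
    {M : Subgroup G} (htop : M ⊔ N = ⊤) (hNM : ¬ N ≤ M) : Subgroup.IsComplement' N M := by
  have hn : (M ⊓ N).Normal := by
    refine ⟨fun x hx g => ⟨?_, Subgroup.Normal.conj_mem ‹N.Normal› x hx.2 g⟩⟩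
    obtain ⟨a, ha, b, hb, rfl⟩ := Subgroup.mem_sup_of_normal_right.1
      (show g ∈ M ⊔ N from htop ▸ Subgroup.mem_top g)
    have hcomm : b * x = x * b := congrArg Subtype.val (mul_comm' (⟨b, hb⟩ : N) ⟨x, hx.2⟩)
    have h1 : a * b * x * (a * b)⁻¹ = a * x * a⁻¹ := by
      rw [mul_assoc a b x, hcomm]; group
    show a * b * x * (a * b)⁻¹ ∈ M
    rw [h1]
    exact mul_mem (mul_mem ha hx.1) (inv_mem ha)
  have hb : M ⊓ N = ⊥ := (hmin _ hn inf_le_right).resolve_right fun h => hNM (h.ge.trans inf_le_left)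
  refine Subgroup.isComplement'_of_disjoint_and_mul_eq_univ
    (disjoint_iff.2 (by rwa [inf_comm])) ?_
  rw [← Subgroup.normal_mul, sup_comm, htop, Subgroup.coe_top]

end Cfsg.Agent.Solvable
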