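import Cfsg.Agent.Lib.Solvable.Hall
import Cfsg.Agent.Lib.Solvable.Maximal

/-!
# Hall complement systems, Sylow systems and system normalizers (owner: helper2)

* `isPiHall_compl_singleton_iff`, `exists_complementSystem`, `complementSystem_conj`
* `isPiHall_finsetInf`, `sylowOfSystem`, `sylowOfSystem_permute`
* `systemNormalizer_isNilpotent`, `isComplementSystem_map`, `systemNormalizer_map`
* cover/avoid: `le_sup_systemNormalizer_of_central`, `inf_systemNormalizer_le_of_eccentric`
-/

open Pointwise
open scoped commutatorElement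

namespace Cfsg.Agent.Solvable

variable {G : Type*} [Group G]

section Finset

theorem index_inf_eq_mul [Finite G] {H K : Subgroup G} (h : H.index.Coprime K.index) :
    (H ⊓ K).index = H.index * K.index := by
  rw [← Subgroup.relIndex_mul_index (inf_le_right : H ⊓ K ≤ K), Subgroup.inf_relIndex_right,
    relIndex_eq_index_of_coprime h]

theorem index_finsetInf [Finite G] {ι : Type*} (D : ι → Subgroup G) (t : Finset ι)
    (h : ∀ i ∈ t, ∀ j ∈ t, i ≠ j → (D i).index.Coprime (D j).index) :
    (t.inf D).index = ∏ i ∈ t, (D i).index := by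
  classical
  induction t using Finset.induction with
  | empty => simp
  | insert a t hat ih =>
    have ih' := ih fun i hi j hj => h i (Finset.mem_insert_of_mem hi) j (Finset.mem_insert_of_mem hj)
    rw [Finset.inf_insert, Finset.prod_insert hat, ← ih', index_inf_eq_mul]
    rw [ih']
    exact Nat.Coprime.prod_right fun i hi =>
      h a (Finset.mem_insert_self a t) i (Finset.mem_insert_of_mem hi) fun e => hat (e ▸ hi)

/-- Simultaneous conjugation inside `N` when the normalizers have pairwise coprime indices in `N`. -/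
theorem exists_conj_all [Finite G] {ι : Type*} (N : Subgroup G) (X Y : ι → Subgroup G) (t : Finset ι)
    (hconj : ∀ i ∈ t, ∃ n ∈ N, MulAut.conj n • X i = Y i)
    (hcop : ∀ i ∈ t, ∀ j ∈ t, i ≠ j →
      ((Subgroup.normalizer (X i : Set G)).relIndex N).Coprime
        ((Subgroup.normalizer (X j : Set G)).relIndex N)) :
    ∃ n ∈ N, ∀ i ∈ t, MulAut.conj n • X i = Y i := by
  classical
  induction t using Finset.induction with
  | empty => exact ⟨1, one_mem _, by simp⟩
  | insert a t hat ih =>
    obtain ⟨n, hn, hall⟩ := ih (fun i hi => hconj i (Finset.mem_insert_of_mem hi))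
      (fun i hi j hj => hcop i (Finset.mem_insert_of_mem hi) j (Finset.mem_insert_of_mem hj))
    obtain ⟨m, hm, hma⟩ := hconj a (Finset.mem_insert_self a t)
    let D : ι → Subgroup N := fun i => (Subgroup.normalizer (X i : Set G)).subgroupOf N
    have hc : (D a).index.Coprime (t.inf D).index := by
      rw [index_finsetInf D t fun i hi j hj =>
        hcop i (Finset.mem_insert_of_mem hi) j (Finset.mem_insert_of_mem hj)]
      exact Nat.Coprime.prod_right fun i hi =>
        hcop a (Finset.mem_insert_self a t) i (Finset.mem_insert_of_mem hi) fun e => hat (e ▸ hi)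
    obtain ⟨d, hd, b, hb, hdb⟩ := exists_mul_of_coprime_index hc ((⟨n, hn⟩ : N)⁻¹ * ⟨m, hm⟩)
    have hdb' : n⁻¹ * m = (d : G) * (b : G) := congrArg Subtype.val hdb
    refine ⟨n * d, mul_mem hn d.2, fun i hi => ?_⟩
    rcases Finset.mem_insert.1 hi with rfl | hi
    · have hb' := mem_normalizer_iff_conj.1 (Subgroup.mem_subgroupOf.1 hb)
      rw [← hma, show m = n * d * b by rw [mul_assoc, ← hdb', mul_inv_cancel_left],
        ← conj_conj (n * d) (b : G), hb']
    · have hd' := mem_normalizer_iff_conj.1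
        (Subgroup.mem_subgroupOf.1 ((Finset.inf_le hi : t.inf D ≤ D i) hd))
      rw [← conj_conj, hd', hall i hi]

end Finset

section Prime

theorem isPiNum_singleton_iff {p n : ℕ} (hn : n ≠ 0) (hp : p.Prime) :
    IsPiNum {p} n ↔ ∃ k, n = p ^ k :=
  ⟨fun h => ⟨_, Nat.eq_prime_pow_of_unique_prime_dvd hn fun hq hd => h _ hq hd⟩,
    fun ⟨k, hk⟩ => hk ▸ isPiNum_pow hp (Set.mem_singleton p) k⟩

theorem isPiNum_compl_singleton_iff {p n : ℕ} (hp : p.Prime) :
    IsPiNum ({p}ᶜ : Set ℕ) n ↔ ¬ p ∣ n :=
  ⟨fun h hd => h p hp hd (Set.mem_singleton p),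
    fun h q _ hd hqp => h ((Set.mem_singleton_iff.1 hqp) ▸ hd)⟩

theorem isPiHall_compl_singleton_iff [Finite G] {p : ℕ} (hp : p.Prime) {H : Subgroup G} :
    Cfsg.IsPiHall ({p}ᶜ : Set ℕ) H ↔ H.index = p ^ (Nat.card G).factorization p := by
  rw [isPiHall_iff, compl_compl, isPiNum_compl_singleton_iff hp,
    isPiNum_singleton_iff Subgroup.index_ne_zero_of_finite hp]
  have hfac : (Nat.card G).factorization p =
      (Nat.card H).factorization p + H.index.factorization p := by
    rw [← H.card_mul_index, Nat.factorization_mul Nat.card_pos.ne' Subgroup.index_ne_zero_of_finite]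
    rfl
  have hpow : ∀ k, (p ^ k).factorization p = k := fun k => by
    rw [hp.factorization_pow, Finsupp.single_eq_same]
  constructor
  · rintro ⟨h1, k, hk⟩
    rw [hfac, Nat.factorization_eq_zero_of_not_dvd h1, hk, hpow, zero_add]
  · intro h
    refine ⟨fun hd => ?_, _, h⟩
    rw [h, hpow] at hfac
    exact (hp.factorization_pos_of_dvd Nat.card_pos.ne' hd).ne' (by omega)

/-- The primes dividing the order of `G`, as a finset of `Nat.Primes`. -/
theorem exists_primesFinset (G : Type*) [Group G] [Finite G] :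
    ∃ s : Finset Nat.Primes, ∀ p : Nat.Primes, p ∈ s ↔ (p : ℕ) ∣ Nat.card G := by
  refine ⟨(Nat.card G).primeFactors.subtype Nat.Prime, fun p => ?_⟩
  refine Finset.mem_subtype.trans ?_
  exact ⟨fun h => (Nat.mem_primeFactors.1 h).2.1,
    fun h => Nat.mem_primeFactors.2 ⟨p.2, h, Nat.card_pos.ne'⟩⟩

variable [Finite G] {K L : Nat.Primes → Subgroup G}

theorem isPiHall_of_complementSystem (hK : Cfsg.IsComplementSystem K) (p : Nat.Primes) :
    Cfsg.IsPiHall ({(p : ℕ)}ᶜ : Set ℕ) (K p) :=
  (isPiHall_compl_singleton_iff p.2).2 (hK p)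

theorem complementSystem_eq_top (hK : Cfsg.IsComplementSystem K) {p : Nat.Primes}
    (hp : ¬ (p : ℕ) ∣ Nat.card G) : K p = ⊤ := by
  rw [← Subgroup.index_eq_one, hK p, Nat.factorization_eq_zero_of_not_dvd hp, pow_zero]

theorem coprime_index_of_complementSystem (hK : Cfsg.IsComplementSystem K) {p q : Nat.Primes}
    (h : p ≠ q) : (K p).index.Coprime (K q).index := by
  rw [hK p, hK q]
  exact Nat.Coprime.pow _ _ ((Nat.coprime_primes p.2 q.2).2 fun e => h (Subtype.ext e))

theorem complementSystem_smul (hK : Cfsg.IsComplementSystem K) (g : G) :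
    Cfsg.IsComplementSystem fun p => MulAut.conj g • K p := fun p => by
  show (MulAut.conj g • K p).index = _
  rw [index_conj]; exact hK p

theorem exists_complementSystem [Group.IsSolvable G] :
    ∃ K : Nat.Primes → Subgroup G, Cfsg.IsComplementSystem K :=
  ⟨fun p => (exists_piHall_of_solvable (G := G) ({(p : ℕ)}ᶜ : Set ℕ)).choose,
    fun p => (isPiHall_compl_singleton_iff p.2).1
      (exists_piHall_of_solvable (G := G) ({(p : ℕ)}ᶜ : Set ℕ)).choose_spec⟩

theorem complementSystem_conj [Group.IsSolvable G] (hK : Cfsg.IsComplementSystem K)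
    (hL : Cfsg.IsComplementSystem L) : ∃ g : G, ∀ p, MulAut.conj g • K p = L p := by
  obtain ⟨s, hs⟩ := exists_primesFinset G
  have hN : ∀ p, (Subgroup.normalizer (K p : Set G)).relIndex ⊤ ∣ (K p).index := fun p => by
    rw [Subgroup.relIndex_top_right]
    exact Subgroup.index_dvd_of_le Subgroup.le_normalizer
  obtain ⟨g, -, hg⟩ := exists_conj_all ⊤ K L s
    (fun p _ => (piHall_conj_of_solvable (isPiHall_of_complementSystem hK p)
      (isPiHall_of_complementSystem hL p)).imp fun g hg => ⟨Subgroup.mem_top g, hg⟩)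
    (fun p _ q _ h => ((coprime_index_of_complementSystem hK h).coprime_dvd_left
      (hN p)).coprime_dvd_right (hN q))
  refine ⟨g, fun p => ?_⟩
  by_cases hp : p ∈ s
  · exact hg p hp
  · rw [hs] at hp
    rw [complementSystem_eq_top hK hp, complementSystem_eq_top hL hp, conj_normal]

theorem isPiHall_finsetInf (hK : Cfsg.IsComplementSystem K) (t : Finset Nat.Primes) :
    Cfsg.IsPiHall {q : ℕ | ∀ p ∈ t, (p : ℕ) ≠ q} (t.inf K) := by
  rw [isPiHall_iff]
  refine ⟨fun q hq hd p hp hpq => ?_, fun q hq hd hmem => ?_⟩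
  · exact (isPiHall_iff.1 (isPiHall_of_complementSystem hK p)).1 q hq
      (hd.trans (Subgroup.card_dvd_of_le (Finset.inf_le hp))) (Set.mem_singleton_iff.2 hpq.symm)
  · rw [index_finsetInf K t fun p _ q _ h => coprime_index_of_complementSystem hK h] at hd
    obtain ⟨p, hp, hd⟩ := (hq.prime.dvd_finsetProd_iff _).1 hd
    rw [hK p] at hd
    exact hmem p hp ((Nat.prime_dvd_prime_iff_eq hq p.2).1 (hq.dvd_of_dvd_pow hd)).symm

/-- The Sylow subgroup attached to a complement system and a prime. -/
theorem exists_sylowOfSystem (hK : Cfsg.IsComplementSystem K) {s : Finset Nat.Primes}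
    (hs : ∀ p : Nat.Primes, p ∈ s ↔ (p : ℕ) ∣ Nat.card G) (p : Nat.Primes) :
    ∃ S : Sylow (p : ℕ) G, (S : Subgroup G) = (s.erase p).inf K := by
  classical
  have := Fact.mk p.2
  set T := (s.erase p).inf K
  have hT := isPiHall_iff.1 (isPiHall_finsetInf hK (s.erase p))
  have hcard : IsPiNum {(p : ℕ)} (Nat.card T) := fun q hq hd => by
    by_contra hne
    have hne' : (⟨q, hq⟩ : Nat.Primes) ≠ p := fun e => hne (congrArg Subtype.val e)
    exact hT.1 q hq hd ⟨q, hq⟩
      (Finset.mem_erase.2 ⟨hne', (hs _).2 (hd.trans (Subgroup.card_subgroup_dvd_card T))⟩) rfl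
  obtain ⟨k, hk⟩ := (isPiNum_singleton_iff Nat.card_pos.ne' p.2).1 hcard
  refine ⟨(IsPGroup.of_card hk).toSylow fun hd => hT.2 (p : ℕ) p.2 hd ?_, rfl⟩
  exact fun r hr e => (Finset.mem_erase.1 hr).1 (Subtype.ext e)

theorem exists_sylowSystem [Group.IsSolvable G] :
    ∃ S : (p : Nat.Primes) → Sylow (p : ℕ) G,
      ∀ p q : Nat.Primes, (S p : Set G) * (S q : Set G) = (S q : Set G) * (S p : Set G) := by
  classical
  obtain ⟨K, hK⟩ := exists_complementSystem (G := G)
  obtain ⟨s, hs⟩ := exists_primesFinset G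
  choose S hS using exists_sylowOfSystem hK hs
  refine ⟨S, fun p q => ?_⟩
  rcases eq_or_ne p q with rfl | hpq
  · rfl
  set T := ((s.erase p).erase q).inf K
  have key : ∀ a b : Nat.Primes, a ≠ b → ((s.erase a).erase b).inf K = T →
      (T : Set G) = (S a : Set G) * (S b : Set G) := by
    intro a b hab hT
    have hleT : ∀ c, c = a ∨ c = b → (S c : Subgroup G) ≤ T := by
      intro c hc
      rw [hS c, ← hT]
      refine Finset.inf_mono fun r hr => ?_
      simp only [Finset.mem_erase] at hr ⊢
      rcases hc with rfl | rfl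
      · exact ⟨hr.2.1, hr.2.2⟩
      · exact ⟨hr.1, hr.2.2⟩
    have hTc : IsPiNum {(a : ℕ), (b : ℕ)} (Nat.card T) := by
      intro r hr hd
      by_contra hne
      simp only [Set.mem_insert_iff, Set.mem_singleton_iff, not_or] at hne
      have := (isPiHall_iff.1 (isPiHall_finsetInf hK ((s.erase a).erase b))).1 r hr (hT ▸ hd)
        (⟨r, hr⟩ : Nat.Primes) (Finset.mem_erase.2 ⟨fun e => hne.2 (congrArg Subtype.val e),
          Finset.mem_erase.2 ⟨fun e => hne.1 (congrArg Subtype.val e),
            (hs _).2 (hd.trans (Subgroup.card_subgroup_dvd_card T))⟩⟩)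
      exact this rfl
    have hidx : ∀ c d : Nat.Primes, ({(a : ℕ), (b : ℕ)} : Set ℕ) ⊆ {(c : ℕ), (d : ℕ)} →
        (c = a ∨ c = b) →
        IsPiNum {(d : ℕ)} ((S c : Subgroup G).relIndex T) := by
      intro c d hcd hc r hr hd
      rcases hcd (hTc r hr (hd.trans (Subgroup.relIndex_dvd_card _ _))) with h | h
      · have := Fact.mk c.2
        have hd' : (c : ℕ) ∣ (S c : Subgroup G).index := by
          have := hd.trans (Subgroup.relIndex_dvd_index_of_le (hleT c hc))
          rwa [h] at this
        exact absurd hd' (S c).not_dvd_index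
      · exact h
    have hcop : ((S b : Subgroup G).subgroupOf T).index.Coprime
        ((S a : Subgroup G).subgroupOf T).index := by
      refine (hidx b a (by simp [Set.pair_comm]) (Or.inr rfl)).coprime
        ((hidx a b le_rfl (Or.inl rfl)).mono ?_)
      exact fun r hr hra => hab (Subtype.ext (hra.symm.trans hr))
    refine Set.Subset.antisymm (fun x hx => ?_) ?_
    · obtain ⟨u, hu, v, hv, huv⟩ := exists_mul_of_coprime_index hcop ⟨x, hx⟩
      exact ⟨u, hu, v, hv, (congrArg Subtype.val huv).symm⟩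
    · rintro _ ⟨u, hu, v, hv, rfl⟩
      exact T.mul_mem (hleT a (Or.inl rfl) hu) (hleT b (Or.inr rfl) hv)
  rw [← key p q hpq rfl, key q p hpq.symm (by rw [Finset.erase_right_comm])]

theorem systemNormalizer_le (K : Nat.Primes → Subgroup G) (p : Nat.Primes) :
    Cfsg.systemNormalizer K ≤ Subgroup.normalizer (K p : Set G) := iInf_le _ p

theorem mem_systemNormalizer_iff {g : G} :
    g ∈ Cfsg.systemNormalizer K ↔ ∀ p, MulAut.conj g • K p = K p := by
  simp [Cfsg.systemNormalizer, Subgroup.mem_iInf, mem_normalizer_iff_conj]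

theorem systemNormalizer_le_normalizer_finsetInf (t : Finset Nat.Primes) :
    Cfsg.systemNormalizer K ≤ Subgroup.normalizer ((t.inf K : Subgroup G) : Set G) := by
  classical
  intro g hg
  rw [mem_systemNormalizer_iff] at hg
  rw [mem_normalizer_iff_conj]
  induction t using Finset.induction with
  | empty => simp [conj_normal]
  | insert a t _ ih => rw [Finset.inf_insert, Subgroup.smul_inf, hg a, ih]

theorem systemNormalizer_isNilpotent (hK : Cfsg.IsComplementSystem K) :
    Group.IsNilpotent (Cfsg.systemNormalizer K) := by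
  classical
  obtain ⟨s, hs⟩ := exists_primesFinset G
  set D := Cfsg.systemNormalizer K
  have q := (Group.isNilpotent_of_finite_tfae (G := D)).out 0 3
  rw [q]
  intro r hr P
  have hrP : r.Prime := hr.out
  obtain ⟨S, hS⟩ := exists_sylowOfSystem hK hs ⟨r, hrP⟩
  have hDS : D ≤ Subgroup.normalizer ((S : Subgroup G) : Set G) := by
    rw [hS]; exact systemNormalizer_le_normalizer_finsetInf _
  have hPD : (P : Subgroup D).map D.subtype ≤ D := Subgroup.map_subtype_le _
  have hPS : (P : Subgroup D).map D.subtype ≤ S := by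
    rw [← S.is_maximal'
      ((P.2.map D.subtype).to_sup_of_normal_right' S.2 (hPD.trans hDS)) le_sup_right]
    exact le_sup_left
  have heq : (S : Subgroup G).subgroupOf D = P :=
    P.is_maximal' (S.2.comap_subtype) fun x hx =>
      Subgroup.mem_subgroupOf.2 (hPS ⟨x, hx, rfl⟩)
  rw [← heq]
  exact Subgroup.normal_subgroupOf_of_le_normalizer hDS

theorem isComplementSystem_map (hK : Cfsg.IsComplementSystem K) (N : Subgroup G) [N.Normal] :
    Cfsg.IsComplementSystem fun p => (K p).map (QuotientGroup.mk' N) := fun p =>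
  (isPiHall_compl_singleton_iff p.2).1
    (isPiHall_map (isPiHall_of_complementSystem hK p) (QuotientGroup.mk'_surjective N))

theorem exists_conj_of_isPiHall_le {π : Set ℕ} {H H' L : Subgroup G} [Group.IsSolvable L]
    (hH : Cfsg.IsPiHall π H) (hH' : Cfsg.IsPiHall π H') (hHL : H ≤ L) (hH'L : H' ≤ L) :
    ∃ l ∈ L, MulAut.conj l • H = H' := by
  have h1 : ∀ X : Subgroup G, Cfsg.IsPiHall π X → X ≤ L → Cfsg.IsPiHall π (X.subgroupOf L) :=
    fun X hX hXL => isPiHall_subgroupOf ⟨hXL, hX.1, fun q hq hπ hd =>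
      hX.2 q hq hπ (hd.trans (Subgroup.relIndex_dvd_index_of_le hXL))⟩
  obtain ⟨l, hl⟩ := piHall_conj_of_solvable (h1 H hH hHL) (h1 H' hH' hH'L)
  refine ⟨l, l.2, ?_⟩
  have h := congrArg (Subgroup.map L.subtype) hl
  rw [map_conj, Subgroup.map_subgroupOf_eq_of_le hHL, Subgroup.map_subgroupOf_eq_of_le hH'L] at h
  exact h

theorem systemNormalizer_map [Group.IsSolvable G] (hK : Cfsg.IsComplementSystem K)
    (N : Subgroup G) [N.Normal] :
    Cfsg.systemNormalizer (fun p => (K p).map (QuotientGroup.mk' N)) =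
      (Cfsg.systemNormalizer K).map (QuotientGroup.mk' N) := by
  set f := QuotientGroup.mk' N
  refine le_antisymm (fun x hx => ?_) ?_
  · obtain ⟨g, rfl⟩ := QuotientGroup.mk'_surjective N x
    rw [mem_systemNormalizer_iff] at hx
    obtain ⟨s, hs⟩ := exists_primesFinset G
    have hconj : ∀ p ∈ s, ∃ n ∈ N, MulAut.conj n • K p = MulAut.conj g • K p := by
      intro p _
      have h1 := hx p
      rw [← map_conj] at h1
      have h2 := sup_eq_sup_of_map_eq h1
      obtain ⟨l, hl, hlK⟩ := exists_conj_of_isPiHall_le (L := K p ⊔ N)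
        (isPiHall_of_complementSystem hK p)
        (isPiHall_conj (isPiHall_of_complementSystem hK p) g) le_sup_left (le_sup_left.trans h2.le)
      obtain ⟨n, hn, k, hk, rfl⟩ := Subgroup.mem_sup_of_normal_left.1
        (show l ∈ N ⊔ K p by rwa [sup_comm])
      exact ⟨n, hn, by rw [← hlK, ← conj_conj, conj_eq_self hk]⟩
    have hdvd : ∀ p, (Subgroup.normalizer (K p : Set G)).relIndex N ∣ (K p).index := fun p => by
      refine (Subgroup.relIndex_dvd_of_le_left _ Subgroup.le_normalizer).trans ?_
      rw [← relIndex_sup_of_normal]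
      exact Subgroup.relIndex_dvd_index_of_le le_sup_left
    obtain ⟨n, hn, hall⟩ := exists_conj_all N K (fun p => MulAut.conj g • K p) s hconj
      (fun p _ q _ h => ((coprime_index_of_complementSystem hK h).coprime_dvd_left
        (hdvd p)).coprime_dvd_right (hdvd q))
    refine ⟨n⁻¹ * g, ?_, ?_⟩
    · show n⁻¹ * g ∈ Cfsg.systemNormalizer K
      rw [mem_systemNormalizer_iff]
      intro p
      by_cases hp : p ∈ s
      · rw [← conj_conj, ← hall p hp, conj_inv_smul]
      · rw [hs] at hp
        rw [complementSystem_eq_top hK hp, conj_normal]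
    · rw [map_mul, map_inv, show f n = 1 from (QuotientGroup.eq_one_iff n).2 hn, inv_one, one_mul]
  · refine le_iInf fun p => ?_
    exact (Subgroup.map_mono (systemNormalizer_le K p)).trans (Subgroup.le_normalizer_map f)

theorem systemNormalizer_normalClosure [Group.IsSolvable G] (hK : Cfsg.IsComplementSystem K) :
    Subgroup.normalClosure ((Cfsg.systemNormalizer K : Subgroup G) : Set G) = ⊤ := by
  set M := Subgroup.normalClosure ((Cfsg.systemNormalizer K : Subgroup G) : Set G) with hM
  by_contra hne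
  have : Nontrivial (G ⧸ M) := QuotientGroup.nontrivial_iff.2 hne
  set C := (commutator (G ⧸ M)).comap (QuotientGroup.mk' M)
  have hMC : M ≤ C := QuotientGroup.le_comap_mk' M _
  refine (Group.IsSolvable.commutator_lt_top_of_nontrivial (G := G ⧸ M)).ne ?_
  rw [← Subgroup.map_comap_eq_self_of_surjective (QuotientGroup.mk'_surjective M)
    (commutator (G ⧸ M)), eq_top_iff]
  intro x _
  obtain ⟨g, rfl⟩ := QuotientGroup.mk'_surjective M x
  refine ⟨g, ?_, rfl⟩
  have hcomm : ∀ a b : G, a * b * a⁻¹ * b⁻¹ ∈ C := by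
    intro a b
    show QuotientGroup.mk' M (a * b * a⁻¹ * b⁻¹) ∈ commutator (G ⧸ M)
    rw [map_mul, map_mul, map_mul, map_inv, map_inv, commutator_def]
    exact Subgroup.commutator_mem_commutator (Subgroup.mem_top _) (Subgroup.mem_top _)
  have hg : QuotientGroup.mk' C g ∈
      Cfsg.systemNormalizer (fun p => (K p).map (QuotientGroup.mk' C)) := by
    refine Subgroup.mem_iInf.2 fun p => Subgroup.mem_normalizer_iff.2 fun y => ?_
    obtain ⟨b, rfl⟩ := QuotientGroup.mk'_surjective C y
    have : QuotientGroup.mk' C g * QuotientGroup.mk' C b * (QuotientGroup.mk' C g)⁻¹ *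
        (QuotientGroup.mk' C b)⁻¹ = 1 := by
      rw [← map_inv, ← map_inv, ← map_mul, ← map_mul, ← map_mul]
      exact (QuotientGroup.eq_one_iff _).2 (hcomm g b)
    rw [mul_inv_eq_one] at this
    rw [this]
  rw [systemNormalizer_map hK C] at hg
  obtain ⟨d, hd, hdg⟩ := hg
  have hdC : d ∈ C := hMC (hM ▸ Subgroup.subset_normalClosure hd)
  have h1 : g ∈ C := by
    rw [QuotientGroup.mk'_eq_mk'] at hdg
    obtain ⟨c, hc, rfl⟩ := hdg
    exact mul_mem hdC hc
  exact h1

theorem le_sup_systemNormalizer_of_central [Group.IsSolvable G] (hK : Cfsg.IsComplementSystem K)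
    (A B : Subgroup G) [A.Normal] (h : ⁅B, (⊤ : Subgroup G)⁆ ≤ A) :
    B ≤ A ⊔ Cfsg.systemNormalizer K := by
  intro b hb
  have hg : QuotientGroup.mk' A b ∈
      Cfsg.systemNormalizer (fun p => (K p).map (QuotientGroup.mk' A)) := by
    refine Subgroup.mem_iInf.2 fun p => Subgroup.mem_normalizer_iff.2 fun y => ?_
    obtain ⟨c, rfl⟩ := QuotientGroup.mk'_surjective A y
    have : ⁅QuotientGroup.mk' A b, QuotientGroup.mk' A c⁆ = 1 := by
      rw [← map_commutatorElement]
      exact (QuotientGroup.eq_one_iff _).2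
        (h (Subgroup.commutator_mem_commutator hb (Subgroup.mem_top c)))
    rw [commutatorElement_eq_one_iff_mul_comm] at this
    rw [this, mul_inv_cancel_right]
  rw [systemNormalizer_map hK A] at hg
  obtain ⟨d, hd, hdb⟩ := hg
  rw [QuotientGroup.mk'_eq_mk'] at hdb
  obtain ⟨c, hc, rfl⟩ := hdb
  exact mul_mem (Subgroup.mem_sup_right hd) (Subgroup.mem_sup_left hc)

/-- A system normalizer meets a minimal normal subgroup that is not central trivially. -/
theorem inf_systemNormalizer_eq_bot_of_minimal [Group.IsSolvable G] (hK : Cfsg.IsComplementSystem K)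
    (B : Subgroup G) [B.Normal] (hB0 : B ≠ ⊥)
    (hmin : ∀ M : Subgroup G, M.Normal → M ≤ B → M = ⊥ ∨ M = B)
    (hnc : ¬ B ≤ Subgroup.center G) : B ⊓ Cfsg.systemNormalizer K = ⊥ := by
  obtain ⟨hcommB, p, hp, hBp, -⟩ := elementaryAbelian_of_minimal_normal B hB0 hmin
  have := Fact.mk hp
  refine le_bot_iff.1 fun x hx => ?_
  rw [Subgroup.mem_bot]
  by_contra hx1
  rw [Subgroup.mem_inf, mem_systemNormalizer_iff] at hx
  obtain ⟨hxB, hxD⟩ := hx
  set H := K ⟨p, hp⟩
  have hH := isPiHall_of_complementSystem hK ⟨p, hp⟩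
  have hHB : H ⊓ B = ⊥ := by
    refine inf_eq_bot_of_coprime ?_
    exact ((isPiHall_iff.1 hH).1).coprime (by
      rw [compl_compl]; exact isPiNum_of_isPGroup hBp (Set.mem_singleton p))
  have hxH : ∀ k ∈ H, k * x = x * k := by
    intro k hk
    have h1 : x * k * x⁻¹ ∈ H := by
      have h := Subgroup.smul_mem_pointwise_smul k (MulAut.conj x) H hk
      rw [hxD ⟨p, hp⟩] at h
      exact h
    have h2 : x * k * x⁻¹ * k⁻¹ ∈ H ⊓ B := by
      refine Subgroup.mem_inf.2 ⟨mul_mem h1 (inv_mem hk), ?_⟩
      have := mul_mem hxB (Subgroup.Normal.conj_mem ‹B.Normal› _ (inv_mem hxB) k)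
      simpa [mul_assoc] using this
    rw [hHB, Subgroup.mem_bot, mul_inv_eq_one, mul_inv_eq_iff_eq_mul] at h2
    exact h2.symm
  set C := Subgroup.centralizer (B : Set G)
  have hC : C ≠ ⊤ := fun h => hnc fun b hb => Subgroup.mem_center_iff.2 fun g =>
    (Subgroup.mem_centralizer_iff.1 (show g ∈ C from h ▸ Subgroup.mem_top g) b hb).symm
  obtain ⟨M, hMn, hlt, hidx⟩ := isPiSeparable_of_isSolvable ({p} : Set ℕ) C inferInstance hC
  have hMC : ¬ M ≤ C := hlt.not_ge
  rcases hidx with hidx | hidx
  · -- `M / C` is a `p`-group, hence fixes a non-trivial normal subgroup of `B`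
    obtain ⟨P⟩ := (inferInstance : Nonempty (Sylow p M))
    set Q := (P : Subgroup M).map M.subtype with hQdef
    have hQM : Q ≤ M := Subgroup.map_subtype_le _
    have hMQC : M ≤ Q ⊔ C := by
      refine Subgroup.relIndex_eq_one.1 ?_
      refine (hidx.of_dvd (Subgroup.relIndex_dvd_of_le_left _ le_sup_right)).eq_one ?_
      refine IsPiNum.of_dvd ?_ (Subgroup.relIndex_dvd_of_le_left _ le_sup_left)
      rw [isPiNum_compl_singleton_iff hp, Subgroup.relIndex, Subgroup.subgroupOf, hQdef,
        Subgroup.comap_map_eq_self_of_injective M.subtype_injective]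
      exact P.not_dvd_index
    set R := Q ⊔ B
    have hR : IsPGroup p R := (P.2.map M.subtype).to_sup_of_normal_right hBp
    have := hR.isNilpotent
    rcases hmin ⁅B, M⁆ inferInstance (Subgroup.commutator_le_left B M) with h0 | h0
    · refine hMC fun m hm => Subgroup.mem_centralizer_iff.2 fun b hb => ?_
      have := h0 ▸ Subgroup.commutator_mem_commutator hb hm
      exact commutatorElement_eq_one_iff_mul_comm.1 (Subgroup.mem_bot.1 this)
    · have hlow : ∀ n, B ≤ R.lowerCentralSeries n := by
        intro n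
        induction n with
        | zero => exact le_sup_right
        | succ n ih =>
          rw [Subgroup.lowerCentralSeries_succ]
          conv_lhs => rw [← h0]
          refine Subgroup.commutator_le.2 fun b hb m hm => ?_
          obtain ⟨q, hq, c, hc, rfl⟩ := Subgroup.mem_sup_of_normal_right.1 (hMQC hm)
          have hbc : ⁅b, c⁆ = 1 := commutatorElement_eq_one_iff_mul_comm.2
            (Subgroup.mem_centralizer_iff.1 hc b hb)
          have e : ⁅b, q * c⁆ = ⁅b, q⁆ * (q * ⁅b, c⁆ * q⁻¹) := by
            simp only [commutatorElement_def]; group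
          rw [e, hbc, mul_one, mul_inv_cancel, mul_one]
          exact Subgroup.commutator_mem_commutator (ih hb) ((le_sup_left : Q ≤ R) hq)
      obtain ⟨n, hn⟩ := (Subgroup.isNilpotent_iff_lowerCentralSeries R).1 this
      exact hB0 (le_bot_iff.1 (hn ▸ hlow n))
  · -- `M / C` has order prime to `p`, hence is covered by `H`
    have hMH : M ≤ H ⊔ C := by
      refine Subgroup.relIndex_eq_one.1 ?_
      refine (IsPiNum.of_dvd ?_ (Subgroup.relIndex_dvd_of_le_left _ le_sup_left)).eq_one
        (hidx.of_dvd (Subgroup.relIndex_dvd_of_le_left _ le_sup_right))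
      rw [← relIndex_sup_of_normal]
      refine IsPiNum.of_dvd ?_ (Subgroup.relIndex_dvd_index_of_le le_sup_left)
      have := (isPiHall_iff.1 hH).2
      rwa [compl_compl] at this
    have hxM : ∀ m ∈ M, m * x = x * m := by
      intro m hm
      have h1 : H ⊔ C ≤ Subgroup.centralizer {x} := by
        refine sup_le (fun k hk => Subgroup.mem_centralizer_iff.2 ?_)
          (Subgroup.centralizer_le (Set.singleton_subset_iff.2 hxB))
        rintro _ rfl
        exact (hxH k hk).symm
      exact (Subgroup.mem_centralizer_iff.1 (h1 (hMH hm)) x rfl).symm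
    rcases hmin (B ⊓ Subgroup.centralizer (M : Set G)) inferInstance inf_le_left with h0 | h0
    · refine hx1 (Subgroup.mem_bot.1 (h0 ▸ Subgroup.mem_inf.2 ⟨hxB, ?_⟩))
      exact Subgroup.mem_centralizer_iff.2 hxM
    · refine hMC fun m hm => Subgroup.mem_centralizer_iff.2 fun b hb => ?_
      exact (Subgroup.mem_centralizer_iff.1 (inf_eq_left.1 h0 hb) m hm).symm

theorem inf_systemNormalizer_le_of_eccentric [Group.IsSolvable G] (hK : Cfsg.IsComplementSystem K)
    (A B : Subgroup G) [A.Normal] [hBn : B.Normal] (hAB : A < B)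
    (hchief : ∀ N : Subgroup G, N.Normal → A ≤ N → N ≤ B → N = A ∨ N = B)
    (h : ¬ ⁅B, (⊤ : Subgroup G)⁆ ≤ A) : B ⊓ Cfsg.systemNormalizer K ≤ A := by
  set f := QuotientGroup.mk' A
  have hf : f.ker = A := QuotientGroup.ker_mk' A
  have : (B.map f).Normal := hBn.map f (QuotientGroup.mk'_surjective A)
  have h0 := inf_systemNormalizer_eq_bot_of_minimal (isComplementSystem_map hK A) (B.map f)
    (map_mk'_ne_bot hAB.not_ge) ?_ ?_
  · intro x hx
    have h1 : f x ∈ B.map f ⊓ Cfsg.systemNormalizer (fun p => (K p).map f) := by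
      rw [systemNormalizer_map hK A]
      exact Subgroup.mem_inf.2 ⟨⟨x, hx.1, rfl⟩, ⟨x, hx.2, rfl⟩⟩
    rw [h0, Subgroup.mem_bot, ← MonoidHom.mem_ker, hf] at h1
    exact h1
  · intro M hM hMB
    have h1 : A ≤ M.comap f := QuotientGroup.le_comap_mk' A M
    have h2 : M.comap f ≤ B :=
      (Subgroup.comap_mono hMB).trans (Subgroup.comap_map_eq_self (hf.le.trans hAB.le)).le
    have h3 := Subgroup.map_comap_eq_self_of_surjective (QuotientGroup.mk'_surjective A) M
    rcases hchief _ inferInstance h1 h2 with h4 | h4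
    · left
      rw [← h3, h4, (Subgroup.map_eq_bot_iff A).2 hf.ge]
    · right
      rw [← h3, h4]
  · intro hc
    refine h (Subgroup.commutator_le.2 fun b hb g _ => ?_)
    rw [← hf, MonoidHom.mem_ker, map_commutatorElement, commutatorElement_eq_one_iff_mul_comm]
    exact (Subgroup.mem_center_iff.1 (hc ⟨b, hb, rfl⟩) (f g)).symm

end Prime

end Cfsg.Agent.Solvable
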