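import Cfsg.Agent.Lib.Solvable.SupersolvableSylow
import Cfsg.Agent.Lib.Solvable.SylowSystem
import Cfsg.Agent.S0577
import Cfsg.Agent.S0132

/-!
# Schmidt's theorem, Wielandt's nilpotent Hall theorem, supersolvable Hall subgroups (owner: helper2)

* `hasNormalPComplement_of_isNilpotent`, `isSolvable_of_maximal_nilpotent`
* `exists_conj_ge_of_nilpotent_hall`
* `exists_conj_of_supersolvable_hall`
* `exists_permuting_hall`
-/

open Pointwise

namespace Cfsg.Agent.Solvable

variable {G : Type*} [Group G]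

theorem hasNormalPComplement_of_isNilpotent [Finite G] [Group.IsNilpotent G] {p : ℕ} [Fact p.Prime] :
    Cfsg.HasNormalPComplement p G := by
  obtain ⟨P⟩ := (inferInstance : Nonempty (Sylow p G))
  refine Transfer.hasNormalPComplement_of_local P fun R hR _ n hn hco => ?_
  refine Subgroup.mem_centralizer_iff.2 fun r hr => ?_
  refine (S0577.commute_of_coprime_aux G r n ?_)
  obtain ⟨k, hk⟩ := IsPGroup.iff_orderOf.1 P.2 ⟨r, hR.1 hr⟩
  rw [Subgroup.orderOf_mk] at hk
  rw [hk]
  exact Nat.Coprime.pow_left k hco.symm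

theorem isSolvable_of_maximal_nilpotent [Finite G]
    (h : ∀ M : Subgroup G, IsCoatom M → Group.IsNilpotent M) : Group.IsSolvable G := by
  have hprop : ∀ H : Subgroup G, H ≠ ⊤ → Group.IsNilpotent H := by
    intro H hH
    obtain ⟨M, hM, hHM⟩ := (eq_top_or_exists_le_coatom H).resolve_left hH
    have := h M hM
    exact (Group.isNilpotent_congr (Subgroup.subgroupOfEquivOfLe hHM)).1 inferInstance
  rcases subsingleton_or_nontrivial G with hG | hG
  · infer_instance
  obtain ⟨p, hp, hpd⟩ := Nat.exists_prime_and_dvd (Finite.one_lt_card (α := G)).ne'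
  have := Fact.mk hp
  by_cases hc : Cfsg.HasNormalPComplement p G
  · obtain ⟨P, N, hNn, hNc⟩ := hc
    have hN : N ≠ ⊤ := by
      intro e
      have h2 := hNc.symm.index_eq_card
      rw [e, Subgroup.index_top] at h2
      obtain ⟨k, hk⟩ := IsPGroup.iff_card.1 P.2
      have h3 : p ∣ Nat.card (P : Subgroup G) := P.dvd_card_of_dvd_card hpd
      rw [← h2] at h3
      exact hp.not_dvd_one h3
    have := hprop N hN
    have hq : IsPGroup p (G ⧸ N) := by
      obtain ⟨k, hk⟩ := IsPGroup.iff_card.1 P.2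
      exact IsPGroup.of_card (n := k) (by rw [← Subgroup.index_eq_card, hNc.symm.index_eq_card, hk])
    exact (Group.isSolvable_iff_subgroup_quotient N).2 ⟨inferInstance, isSolvable_of_isPGroup hq⟩
  · obtain ⟨-, -, hP⟩ := S0132.result hc fun H hH => by
      have := hprop H hH
      exact hasNormalPComplement_of_isNilpotent
    obtain ⟨P⟩ := (inferInstance : Nonempty (Sylow p G))
    have := hP P
    have hPs : Group.IsSolvable (P : Subgroup G) := isSolvable_of_isPGroup P.2
    obtain ⟨K, hK⟩ := Subgroup.exists_left_complement'_of_coprime (N := (P : Subgroup G)) P.card_coprime_index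
    by_cases hKt : K = ⊤
    · have h2 := hK.index_eq_card
      rw [hKt, Subgroup.card_top] at h2
      have h3 := (P : Subgroup G).card_mul_index
      rw [h2] at h3
      have h4 : Nat.card (P : Subgroup G) = 1 :=
        Nat.eq_of_mul_eq_mul_right Nat.card_pos (h3.trans (one_mul _).symm)
      have h5 := P.dvd_card_of_dvd_card hpd
      exact absurd (h4 ▸ h5) hp.not_dvd_one
    · have := hprop K hKt
      have := hK.QuotientMulEquiv
      have : Group.IsSolvable (G ⧸ (P : Subgroup G)) :=
        Group.isSolvable_of_surjective (f := this.symm.toMonoidHom) (MulEquiv.surjective _)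
      exact (Group.isSolvable_iff_subgroup_quotient (P : Subgroup G)).2 ⟨hPs, inferInstance⟩

/-- In a nilpotent subgroup a `q`-element centralizes an `r`-element. -/
theorem commute_of_isPGroup_of_isNilpotent {L : Subgroup G} (hL : Group.IsNilpotent L) {q r : ℕ}
    [Fact q.Prime] [Fact r.Prime] (hqr : q ≠ r) {A B : Subgroup G} (hA : IsPGroup q A)
    (hB : IsPGroup r B) (hAL : A ≤ L) (hBL : B ≤ L) {a b : G} (ha : a ∈ A) (hb : b ∈ B) :
    Commute a b := by
  refine S0577.commute_of_coprime hL (hAL ha) (hBL hb) ?_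
  obtain ⟨i, hi⟩ := IsPGroup.iff_orderOf.1 hA ⟨a, ha⟩
  obtain ⟨j, hj⟩ := IsPGroup.iff_orderOf.1 hB ⟨b, hb⟩
  rw [Subgroup.orderOf_mk] at hi hj
  rw [hi, hj]
  exact Nat.Coprime.pow _ _ ((Nat.coprime_primes Fact.out Fact.out).2 hqr)

theorem exists_sylow_le_of_isPiHall [Finite G] {π : Set ℕ} {H : Subgroup G} (hH : Cfsg.IsPiHall π H)
    {q : ℕ} [hq : Fact q.Prime] (hqπ : q ∈ π) : ∃ S : Sylow q G, (S : Subgroup G) ≤ H := by
  obtain ⟨Q⟩ := (inferInstance : Nonempty (Sylow q H))
  refine ⟨(Q.2.map H.subtype).toSylow ?_, Subgroup.map_subtype_le _⟩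
  rw [Subgroup.index_map_subtype]
  exact fun h => (hq.out.dvd_mul.1 h).elim Q.not_dvd_index (hH.2 q hq.out hqπ)

theorem exists_conj_ge_of_nilpotent_hall_aux (n : ℕ) : ∀ {G : Type*} [Group G] [Finite G] (π : Set ℕ)
    (H K : Subgroup G), Nat.card K = n → Group.IsNilpotent H → Cfsg.IsPiHall π H →
    IsPiNum π (Nat.card K) → ∃ x : G, K ≤ MulAut.conj x • H := by
  induction n using Nat.strongRecOn with
  | _ c ih =>
    intro G _ _ π H K hc hH hHall hK
    subst hc
    rcases eq_or_ne K ⊥ with rfl | hK0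
    · exact ⟨1, bot_le⟩
    have hprop : ∀ M : Subgroup K, IsCoatom M → Group.IsNilpotent M := by
      intro M hM
      have hlt : Nat.card (M.map K.subtype) < Nat.card K := by
        rw [Subgroup.card_map_of_injective K.subtype_injective]
        exact card_lt_of_ne_top hM.1
      obtain ⟨x, hx⟩ := ih _ hlt π H (M.map K.subtype) rfl hH hHall
        (hK.of_dvd (by rw [Subgroup.card_map_of_injective K.subtype_injective]; exact M.card_subgroup_dvd_card))
      have : Group.IsNilpotent ↥(MulAut.conj x • H) :=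
        (Group.isNilpotent_congr (Subgroup.equivSMul (MulAut.conj x) H)).1 hH
      have : Group.IsNilpotent ↥((M.map K.subtype).subgroupOf (MulAut.conj x • H)) := inferInstance
      have h1 : Group.IsNilpotent ↥(M.map K.subtype) :=
        (Group.isNilpotent_congr (Subgroup.subgroupOfEquivOfLe hx)).1 this
      exact (Group.isNilpotent_congr (M.equivMapOfInjective K.subtype K.subtype_injective)).2 h1
    have hKs : Group.IsSolvable K := isSolvable_of_maximal_nilpotent hprop
    have : Nontrivial K := (Subgroup.nontrivial_iff_ne_bot K).2 hK0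
    obtain ⟨r, hr, R', hR'n, hR'0, hR'p⟩ := exists_normal_pGroup_ne_bot K
    have := Fact.mk hr
    set R := R'.map K.subtype
    have hRK : R ≤ K := Subgroup.map_subtype_le R'
    have hRp : IsPGroup r R := hR'p.map _
    have hR0 : R ≠ ⊥ := fun h => hR'0 ((Subgroup.map_eq_bot_iff_of_injective _ K.subtype_injective).1 h)
    have hrπ : r ∈ π := by
      obtain ⟨k, hk⟩ := IsPGroup.iff_card.1 hRp
      have hk0 : k ≠ 0 := fun e => hR0 (Subgroup.eq_bot_of_card_eq R (by rw [hk, e, pow_zero]))
      exact hK r hr ((dvd_pow_self r hk0).trans (hk ▸ Subgroup.card_dvd_of_le hRK))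
    set L := Subgroup.normalizer (R : Set G)
    have hKL : K ≤ L := by
      have h := Subgroup.le_normalizer_map (H := R') K.subtype
      rw [Subgroup.normalizer_eq_top_iff.2 hR'n, ← MonoidHom.range_eq_map, Subgroup.range_subtype] at h
      exact h
    obtain ⟨S₀, hS₀⟩ := (hRp.comap_subtype (K := L)).exists_le_sylow
    set S := (S₀ : Subgroup L).map L.subtype
    have hRS : R ≤ S := fun y hy =>
      ⟨⟨y, Subgroup.le_normalizer hy⟩, hS₀ (Subgroup.mem_subgroupOf.2 hy), rfl⟩
    obtain ⟨T, hT⟩ := (S₀.2.map L.subtype).exists_le_sylow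
    obtain ⟨T', hT'⟩ := exists_sylow_le_of_isPiHall hHall hrπ
    obtain ⟨x, hx⟩ := MulAction.exists_smul_eq G T' T
    set H' := MulAut.conj x • H
    have hH' : Group.IsNilpotent H' := (Group.isNilpotent_congr (Subgroup.equivSMul (MulAut.conj x) H)).1 hH
    have hH'all : Cfsg.IsPiHall π H' := isPiHall_conj hHall x
    have hTH : (T : Subgroup G) ≤ H' := hx ▸ conj_mono x hT'
    have hSH : S ≤ H' := hT.trans hTH
    -- `H' ⊓ L` is a nilpotent Hall subgroup of `L`
    have hHL : Cfsg.IsPiHall π (H'.subgroupOf L) := by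
      refine ⟨fun q hq hd => (isPiHall_iff.1 hH'all).1 q hq
        (hd.trans (Subgroup.card_comap_dvd_of_injective _ _ L.subtype_injective)), fun q hq hqπ hd => ?_⟩
      have := Fact.mk hq
      rcases eq_or_ne q r with rfl | hqr
      · refine S₀.not_dvd_index (hd.trans (Subgroup.index_dvd_of_le fun y hy => ?_))
        exact Subgroup.mem_subgroupOf.2 (hSH ⟨y, hy, rfl⟩)
      · obtain ⟨Q, hQ⟩ := exists_sylow_le_of_isPiHall hH'all hqπ
        have hQL : (Q : Subgroup G) ≤ L := by
          intro a ha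
          refine Subgroup.mem_normalizer_iff.2 fun b => ?_
          have hcomm : ∀ b ∈ R, a * b * a⁻¹ = b := fun b hb => by
            rw [(commute_of_isPGroup_of_isNilpotent hH' hqr Q.2 hRp hQ (hRS.trans hSH) ha hb).eq,
              mul_inv_cancel_right]
          refine ⟨fun hb => (hcomm b hb).symm ▸ hb, fun hb => ?_⟩
          have h2 := hcomm _ hb
          have h3 : a * b * a⁻¹ = b := mul_left_cancel (mul_right_cancel h2)
          rwa [h3] at hb
        refine Q.not_dvd_index (hd.trans (dvd_trans ?_ (Subgroup.relIndex_dvd_index_of_le hQL)))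
        exact Subgroup.relIndex_dvd_of_le_left _ hQ
    set R₁ := R.subgroupOf L
    have : R₁.Normal := Subgroup.normal_in_normalizer
    let f := QuotientGroup.mk' R₁
    have hlt : Nat.card ↥((K.subgroupOf L).map f) < Nat.card K := by
      have h1 := card_eq_card_map_mul f (K.subgroupOf L)
      rw [QuotientGroup.ker_mk', inf_of_le_right (fun y hy => hRK hy : R₁ ≤ K.subgroupOf L),
        Nat.card_congr (Subgroup.subgroupOfEquivOfLe hKL).toEquiv,
        Nat.card_congr (Subgroup.subgroupOfEquivOfLe (Subgroup.le_normalizer (H := R))).toEquiv] at h1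
      rw [h1]
      exact lt_mul_of_one_lt_right Nat.card_pos ((Subgroup.one_lt_card_iff_ne_bot R).2 hR0)
    have : Group.IsNilpotent ↥(H'.subgroupOf L) := by
      have : Group.IsNilpotent ↥((H' ⊓ L).subgroupOf H') := inferInstance
      have h1 : Group.IsNilpotent ↥(H' ⊓ L) :=
        (Group.isNilpotent_congr (Subgroup.subgroupOfEquivOfLe inf_le_left)).1 this
      have h2 := (Group.isNilpotent_congr (Subgroup.subgroupOfEquivOfLe
        (inf_le_right : H' ⊓ L ≤ L))).2 h1
      rwa [Subgroup.inf_subgroupOf_right] at h2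
    obtain ⟨y', hy⟩ := ih _ hlt π ((H'.subgroupOf L).map f) ((K.subgroupOf L).map f) rfl
      (Cores.isNilpotent_map f this) (isPiHall_map hHL (QuotientGroup.mk'_surjective R₁))
      ((hK.of_dvd (Nat.card_congr (Subgroup.subgroupOfEquivOfLe hKL).toEquiv).dvd).of_dvd
        (Subgroup.card_map_dvd _ f))
    obtain ⟨y, rfl⟩ := QuotientGroup.mk'_surjective R₁ y'
    rw [← map_conj, Subgroup.map_le_iff_le_comap, Subgroup.comap_map_eq_self] at hy
    swap
    · rw [QuotientGroup.ker_mk', ← conj_normal y R₁]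
      exact conj_mono y fun a ha => Subgroup.mem_subgroupOf.2 (hSH (hRS ha))
    refine ⟨(y : G) * x, fun a ha => ?_⟩
    have h1 := Subgroup.mem_map_of_mem L.subtype (hy (Subgroup.mem_subgroupOf.2 ha : (⟨a, hKL ha⟩ : L) ∈ _))
    rw [map_conj, Subgroup.subgroupOf_map_subtype] at h1
    rw [← conj_conj]
    exact conj_mono (y : G) inf_le_left h1

/-- **Wielandt**: a π-subgroup lies in a conjugate of a nilpotent Hall π-subgroup. -/
theorem exists_conj_ge_of_nilpotent_hall [Finite G] {π : Set ℕ} {H K : Subgroup G}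
    (hH : Group.IsNilpotent H) (hHall : Cfsg.IsPiHall π H) (hK : IsPiNum π (Nat.card K)) :
    ∃ x : G, K ≤ MulAut.conj x • H :=
  exists_conj_ge_of_nilpotent_hall_aux _ π H K rfl hH hHall hK

theorem exists_conj_of_supersolvable_hall_aux (n : ℕ) : ∀ {G : Type*} [Group G] [Finite G]
    (H K : Subgroup G), Nat.card H = n → Cfsg.IsSupersolvable H → Cfsg.IsSupersolvable K →
    Nat.card K = Nat.card H → (Nat.card H).Coprime H.index →
    ∃ x : G, MulAut.conj x • H = K := by
  induction n using Nat.strongRecOn with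
  | _ c ih =>
    intro G _ _ H K hc hH hK hHK hHall
    subst hc
    rcases eq_or_ne (Nat.card H) 1 with h1 | h1
    · exact ⟨1, by rw [conj_one_smul, Subgroup.eq_bot_of_card_eq H h1,
        Subgroup.eq_bot_of_card_eq K (hHK.trans h1)]⟩
    obtain ⟨p, hp, hpd, hmax⟩ := exists_largest_prime (n := Nat.card H)
      (Nat.lt_of_le_of_ne Nat.card_pos (Ne.symm h1))
    have := Fact.mk hp
    have hkey : ∀ X : Subgroup G, Cfsg.IsSupersolvable X → Nat.card X = Nat.card H →
        ∃ P : Sylow p G, (P : Subgroup G) ≤ X ∧ X ≤ Subgroup.normalizer ((P : Subgroup G) : Set G) := by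
      intro X hX hXc
      obtain ⟨Q⟩ := (inferInstance : Nonempty (Sylow p X))
      have hQn := supersolvable_normal_sylow_largest hX (fun q hq hd => hmax q hq (hXc ▸ hd)) Q
      have hidx : X.index = H.index := by
        have h2 := X.card_mul_index
        rw [← H.card_mul_index, hXc] at h2
        exact Nat.eq_of_mul_eq_mul_left Nat.card_pos h2
      refine ⟨(Q.2.map X.subtype).toSylow ?_, Subgroup.map_subtype_le _, ?_⟩
      · rw [Subgroup.index_map_subtype, hidx]
        exact fun h => (hp.dvd_mul.1 h).elim Q.not_dvd_index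
          fun h' => Nat.not_coprime_of_dvd_of_dvd hp.one_lt hpd h' hHall
      · have h := Subgroup.le_normalizer_map (H := (Q : Subgroup X)) X.subtype
        rw [Subgroup.normalizer_eq_top_iff.2 hQn, ← MonoidHom.range_eq_map, Subgroup.range_subtype] at h
        exact h
    obtain ⟨P, hPH, hHP⟩ := hkey H hH rfl
    obtain ⟨Q, hQK, hKQ⟩ := hkey K hK hHK
    obtain ⟨g, hg⟩ := MulAction.exists_smul_eq G P Q
    have hg' : MulAut.conj g • (P : Subgroup G) = Q := congrArg Sylow.toSubgroup hg
    set H₁ := MulAut.conj g • H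
    have hH₁s : Cfsg.IsSupersolvable H₁ :=
      supersolvable_of_surjective hH (Subgroup.equivSMul (MulAut.conj g) H).toMonoidHom
        (MulEquiv.surjective _)
    have hQH₁ : (Q : Subgroup G) ≤ H₁ := hg' ▸ conj_mono g hPH
    set L := Subgroup.normalizer ((Q : Subgroup G) : Set G)
    have hH₁L : H₁ ≤ L := by
      intro x hx
      rw [mem_conj_iff] at hx
      have h2 := mem_normalizer_iff_conj.1 (hHP hx)
      rw [mem_normalizer_iff_conj, ← hg', conj_conj]
      calc MulAut.conj (x * g) • (P : Subgroup G)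
          = MulAut.conj (g * (g⁻¹ * x * g)) • (P : Subgroup G) := by congr 2; group
        _ = MulAut.conj g • (P : Subgroup G) := by rw [← conj_conj, h2]
    set Q₁ := (Q : Subgroup G).subgroupOf L
    have : Q₁.Normal := Subgroup.normal_in_normalizer
    let f := QuotientGroup.mk' Q₁
    have eH : Nat.card ↥(H₁.subgroupOf L) = Nat.card H :=
      (Nat.card_congr (Subgroup.subgroupOfEquivOfLe hH₁L).toEquiv).trans (card_conj _ _)
    have eK : Nat.card ↥(K.subgroupOf L) = Nat.card H :=
      (Nat.card_congr (Subgroup.subgroupOfEquivOfLe hKQ).toEquiv).trans hHK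
    have hQle : Q₁ ≤ H₁.subgroupOf L := fun y hy => hQH₁ hy
    have hQleK : Q₁ ≤ K.subgroupOf L := fun y hy => hQK hy
    have c₁ := card_eq_card_map_mul f (H₁.subgroupOf L)
    have c₂ := card_eq_card_map_mul f (K.subgroupOf L)
    rw [QuotientGroup.ker_mk', inf_of_le_right hQle, eH] at c₁
    rw [QuotientGroup.ker_mk', inf_of_le_right hQleK, eK] at c₂
    have hlt : Nat.card ↥((H₁.subgroupOf L).map f) < Nat.card H := by
      rw [c₁]
      refine lt_mul_of_one_lt_right Nat.card_pos ?_
      rw [Nat.card_congr (Subgroup.subgroupOfEquivOfLe (Subgroup.le_normalizer (H := (Q : Subgroup G)))).toEquiv]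
      exact hp.one_lt.trans_le (Nat.le_of_dvd Nat.card_pos (Q.dvd_card_of_dvd_card
        (hpd.trans H.card_subgroup_dvd_card)))
    have hS : ∀ X : Subgroup G, Cfsg.IsSupersolvable X → X ≤ L →
        Cfsg.IsSupersolvable ↥((X.subgroupOf L).map f) := fun X hX hXL =>
      supersolvable_of_surjective (supersolvable_of_surjective hX
        (Subgroup.subgroupOfEquivOfLe hXL).symm.toMonoidHom (MulEquiv.surjective _))
        (f.subgroupMap _) (f.subgroupMap_surjective _)
    obtain ⟨y', hy⟩ := ih _ hlt ((H₁.subgroupOf L).map f) ((K.subgroupOf L).map f) rfl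
      (hS H₁ hH₁s hH₁L) (hS K hK hKQ)
      (Nat.eq_of_mul_eq_mul_right Nat.card_pos (c₂.symm.trans c₁)) (by
        refine Nat.Coprime.coprime_dvd_left ?_ (Nat.Coprime.coprime_dvd_right
          (Subgroup.index_map_dvd _ (QuotientGroup.mk'_surjective Q₁)) (hHall.coprime_dvd_right ?_))
        · exact eH ▸ Subgroup.card_map_dvd _ f
        · exact (Subgroup.relIndex_dvd_index_of_le hH₁L).trans (index_conj g H).dvd)
    obtain ⟨y, rfl⟩ := QuotientGroup.mk'_surjective Q₁ y'
    rw [← map_conj] at hy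
    have h5 := eq_of_map_eq (f := f) ?_ ?_ hy
    · refine ⟨(y : G) * g, ?_⟩
      have h6 := congrArg (Subgroup.map L.subtype) h5
      rw [map_conj, Subgroup.map_subgroupOf_eq_of_le hH₁L, Subgroup.map_subgroupOf_eq_of_le hKQ,
        conj_conj] at h6
      exact h6
    · rw [QuotientGroup.ker_mk', ← conj_normal y Q₁]; exact conj_mono y hQle
    · rw [QuotientGroup.ker_mk']; exact hQleK

/-- Supersolvable Hall subgroups of the same order are conjugate. -/
theorem exists_conj_of_supersolvable_hall [Finite G] {H K : Subgroup G} (hH : Cfsg.IsSupersolvable H)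
    (hK : Cfsg.IsSupersolvable K) (hcard : Nat.card K = Nat.card H)
    (hHall : (Nat.card H).Coprime H.index) : ∃ x : G, MulAut.conj x • H = K :=
  exists_conj_of_supersolvable_hall_aux _ H K rfl hH hK hcard hHall

/-- A Hall π-subgroup of a solvable group permutes with some Hall ρ-subgroup. -/
theorem exists_permuting_hall [Finite G] [Group.IsSolvable G] {π ρ : Set ℕ} {A : Subgroup G}
    (hA : Cfsg.IsPiHall π A) :
    ∃ B : Subgroup G, Cfsg.IsPiHall ρ B ∧ (A : Set G) * B = (B : Set G) * A := by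
  classical
  obtain ⟨K, hK⟩ := exists_complementSystem (G := G)
  obtain ⟨s, hs⟩ := exists_primesFinset G
  let t : Set ℕ → Finset Nat.Primes := fun σ => s.filter fun p => (p : ℕ) ∉ σ
  have hHall : ∀ σ, Cfsg.IsPiHall σ ((t σ).inf K) := by
    intro σ
    have h := isPiHall_iff.1 (isPiHall_finsetInf hK (t σ))
    refine isPiHall_iff.2 ⟨fun q hq hd => ?_, fun q hq hd hqσ => ?_⟩
    · by_contra hqσ
      exact h.1 q hq hd ⟨q, hq⟩ (Finset.mem_filter.2
        ⟨(hs _).2 (hd.trans (Subgroup.card_subgroup_dvd_card _)), hqσ⟩) rfl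
    · exact h.2 q hq hd fun p hp hpq => (Finset.mem_filter.1 hp).2 (hpq ▸ hqσ)
  set Aπ := (t π).inf K
  set Bρ := (t ρ).inf K
  set T := (t π ∩ t ρ).inf K
  have hAT : Aπ ≤ T := Finset.inf_mono Finset.inter_subset_left
  have hBT : Bρ ≤ T := Finset.inf_mono Finset.inter_subset_right
  have hTπ : IsPiNum (π ∪ ρ) (Nat.card T) := by
    intro q hq hd
    by_contra hne
    simp only [Set.mem_union, not_or] at hne
    have hqs : (⟨q, hq⟩ : Nat.Primes) ∈ s := (hs _).2 (hd.trans (Subgroup.card_subgroup_dvd_card _))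
    exact (isPiHall_iff.1 (isPiHall_finsetInf hK (t π ∩ t ρ))).1 q hq hd ⟨q, hq⟩
      (Finset.mem_inter.2 ⟨Finset.mem_filter.2 ⟨hqs, hne.1⟩, Finset.mem_filter.2 ⟨hqs, hne.2⟩⟩) rfl
  have hcop : (Aπ.subgroupOf T).index.Coprime (Bρ.subgroupOf T).index := by
    refine Nat.coprime_of_dvd fun q hq h1 h2 => ?_
    rcases hTπ q hq (h1.trans (Aπ.relIndex_dvd_card T)) with hqπ | hqρ
    · exact (hHall π).2 q hq hqπ (h1.trans (Subgroup.relIndex_dvd_index_of_le hAT))
    · exact (hHall ρ).2 q hq hqρ (h2.trans (Subgroup.relIndex_dvd_index_of_le hBT))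
  have key : ∀ X Y : Subgroup G, X ≤ T → Y ≤ T → (X.subgroupOf T).index.Coprime (Y.subgroupOf T).index →
      (T : Set G) = (Y : Set G) * (X : Set G) := by
    intro X Y hX hY hc
    refine Set.Subset.antisymm (fun x hx => ?_) ?_
    · obtain ⟨u, hu, v, hv, huv⟩ := exists_mul_of_coprime_index hc ⟨x, hx⟩
      exact ⟨u, hu, v, hv, (congrArg Subtype.val huv).symm⟩
    · rintro _ ⟨u, hu, v, hv, rfl⟩
      exact T.mul_mem (hY hu) (hX hv)
  have hAB : (Aπ : Set G) * Bρ = (Bρ : Set G) * Aπ :=
    (key Bρ Aπ hBT hAT hcop.symm).symm.trans (key Aπ Bρ hAT hBT hcop)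
  obtain ⟨g, hg⟩ := piHall_conj_of_solvable (hHall π) hA
  refine ⟨MulAut.conj g • Bρ, isPiHall_conj (hHall ρ) g, ?_⟩
  rw [← hg, Subgroup.coe_pointwise_smul, Subgroup.coe_pointwise_smul]
  have himg := congrArg (fun X : Set G => (MulAut.conj g).toMonoidHom '' X) hAB
  simp only [Set.image_mul] at himg
  exact himg

end Cfsg.Agent.Solvable
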