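import Cfsg.Agent.Lib.Solvable.Basic

/-!
# Gaschütz's theorem (owner: helper2)

* `gaschutz_exists`, `gaschutz_conj`: for an abelian normal `K ≤ U` with `|K|` prime to `|G : U|`.
-/

open Pointwise

namespace Cfsg.Agent.Solvable

open scoped IsMulCommutative

variable {G : Type*} [Group G]

/-- The `K`-coordinate of a complement `A` of `K` in `U`. -/
theorem exists_coordinate {K : Subgroup G} [K.Normal] [IsMulCommutative K] {U A : Subgroup G}
    (hAK : A ⊓ K = ⊥) (hKA : K ⊔ A = U) :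
    ∃ f : G → K, (∀ u ∈ U, ((f u : G))⁻¹ * u ∈ A) ∧ (∀ k : K, f k = k) ∧
      (∀ a ∈ A, f a = 1) ∧
      (∀ u ∈ U, ∀ v ∈ U, (f (u * v) : G) = f u * (u * f v * u⁻¹)) := by
  classical
  have hex : ∀ u : G, ∃ k : K, u ∈ U → (k : G)⁻¹ * u ∈ A := by
    intro u
    by_cases hu : u ∈ U
    · rw [← hKA] at hu
      obtain ⟨k, hk, a, ha, rfl⟩ := Subgroup.mem_sup_of_normal_left.1 hu
      exact ⟨⟨k, hk⟩, fun _ => by simpa using ha⟩
    · exact ⟨1, fun h => absurd h hu⟩
  choose f hf using hex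
  have huniq : ∀ u ∈ U, ∀ k : K, (k : G)⁻¹ * u ∈ A → f u = k := by
    intro u hu k hk
    have h0 : (f u : G)⁻¹ * k ∈ A := by
      simpa [mul_assoc] using mul_mem (hf u hu) (inv_mem hk)
    have h1 : (f u : G)⁻¹ * k ∈ A ⊓ K := Subgroup.mem_inf.2 ⟨h0, mul_mem (inv_mem (f u).2) k.2⟩
    rw [hAK, Subgroup.mem_bot, inv_mul_eq_one] at h1
    exact Subtype.ext h1
  have hKU : K ≤ U := hKA ▸ le_sup_left
  have hAU : A ≤ U := hKA ▸ le_sup_right
  refine ⟨f, hf, fun k => huniq _ (hKU k.2) k (by simp), fun a ha => huniq a (hAU ha) 1 (by simpa),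
    fun u hu v hv => ?_⟩
  have hc : u * (f v : G) * u⁻¹ ∈ K := Subgroup.Normal.conj_mem ‹K.Normal› _ (f v).2 u
  rw [huniq (u * v) (mul_mem hu hv) ⟨f u * (u * f v * u⁻¹), mul_mem (f u).2 hc⟩ ?_]
  obtain ⟨a, ha, ha'⟩ : ∃ a ∈ A, (f u : G)⁻¹ * u = a := ⟨_, hf u hu, rfl⟩
  obtain ⟨b, hb, hb'⟩ : ∃ b ∈ A, (f v : G)⁻¹ * v = b := ⟨_, hf v hv, rfl⟩
  have h2 : (((f u : G) * (u * f v * u⁻¹))⁻¹ * (u * v)) = u * (f v : G)⁻¹ * u⁻¹ * a * v := by
    rw [← ha']; group
  have hu' : u = (f u : G) * a := by rw [← ha']; group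
  have hcomm : ∀ x ∈ K, ∀ y ∈ K, x * y = y * x := fun x hx y hy =>
    congrArg Subtype.val (mul_comm' (⟨x, hx⟩ : K) ⟨y, hy⟩)
  have h3 : u * (f v : G)⁻¹ * u⁻¹ = a * (f v : G)⁻¹ * a⁻¹ := by
    have h4 : a * (f v : G)⁻¹ * a⁻¹ ∈ K :=
      Subgroup.Normal.conj_mem ‹K.Normal› _ (inv_mem (f v).2) a
    have h5 := hcomm _ (f u).2 _ h4
    rw [hu']
    calc (f u : G) * a * (f v : G)⁻¹ * ((f u : G) * a)⁻¹
        = ((f u : G) * (a * (f v : G)⁻¹ * a⁻¹)) * (f u : G)⁻¹ := by group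
      _ = a * (f v : G)⁻¹ * a⁻¹ := by rw [h5]; group
  show ((f u : G) * (u * f v * u⁻¹))⁻¹ * (u * v) ∈ A
  rw [h2, h3, show a * (f v : G)⁻¹ * a⁻¹ * a * v = a * ((f v : G)⁻¹ * v) by group, hb']
  exact mul_mem ha hb

/-- **Gaschütz**: existence of a complement. -/
theorem gaschutz_exists [Finite G] {K U : Subgroup G} [K.Normal] [IsMulCommutative K]
    (hKU : K ≤ U) (hcop : (Nat.card K).Coprime U.index) {A : Subgroup G} (hAK : A ⊓ K = ⊥)
    (hKA : K ⊔ A = U) : ∃ H : Subgroup G, Subgroup.IsComplement' K H := by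
  classical
  obtain ⟨f, -, hfK, -, hfmul⟩ := exists_coordinate hAK hKA
  have : Fintype (G ⧸ U) := Fintype.ofFinite _
  let t : G ⧸ U → G := Quotient.out
  have ht : ∀ q : G ⧸ U, (t q : G ⧸ U) = q := QuotientGroup.out_eq'
  let u : G → G ⧸ U → G := fun g q => (t (g • q))⁻¹ * g * t q
  have hu : ∀ g q, u g q ∈ U := by
    intro g q
    show (t (g • q))⁻¹ * g * t q ∈ U
    rw [mul_assoc, ← QuotientGroup.eq, ht]
    show g • q = ((g * t q : G) : G ⧸ U)
    conv_lhs => rw [← ht q]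
    rfl
  let T : G → G ⧸ U → K := fun g q =>
    ⟨t (g • q) * f (u g q) * (t (g • q))⁻¹, Subgroup.Normal.conj_mem ‹K.Normal› _ (f _).2 _⟩
  let c : G → K → K := fun g k => ⟨g * k * g⁻¹, Subgroup.Normal.conj_mem ‹K.Normal› _ k.2 g⟩
  have hc : ∀ g, ∀ a b : K, c g (a * b) = c g a * c g b := fun g a b => Subtype.ext (conj_mul.symm)
  let cHom : G → K →* K := fun g => MonoidHom.mk' (c g) (hc g)
  have hTmul : ∀ g h q, T (g * h) q = T g (h • q) * cHom g (T h q) := by
    intro g h q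
    apply Subtype.ext
    have h1 : u (g * h) q = u g (h • q) * u h q := by
      simp only [u, mul_smul]
      group
    show t ((g * h) • q) * f (u (g * h) q) * (t ((g * h) • q))⁻¹ =
      (t (g • h • q) * f (u g (h • q)) * (t (g • h • q))⁻¹) *
        (g * (t (h • q) * f (u h q) * (t (h • q))⁻¹) * g⁻¹)
    rw [h1, hfmul _ (hu _ _) _ (hu _ _), mul_smul]
    simp only [u]
    group
  let F : G → K := fun g => ∏ q, T g q
  have hFmul : ∀ g h, F (g * h) = F g * cHom g (F h) := by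
    intro g h
    simp only [F, map_prod, hTmul, Finset.prod_mul_distrib]
    congr 1
    exact Fintype.prod_equiv (MulAction.toPerm h) _ _ fun _ => rfl
  have hFK : ∀ k : K, F k = k ^ U.index := by
    intro k
    have hq : ∀ q, T k q = k := by
      intro q
      have h1 : (k : G) • q = q := by
        conv_lhs => rw [← ht q]
        conv_rhs => rw [← ht q]
        refine QuotientGroup.eq.2 (hKU ?_)
        have h3 := Subgroup.Normal.conj_mem ‹K.Normal› _ (inv_mem k.2) (t q)⁻¹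
        simpa [mul_assoc] using h3
      have h2 : (t q)⁻¹ * k * t q ∈ K := by
        simpa using Subgroup.Normal.conj_mem ‹K.Normal› _ k.2 (t q)⁻¹
      apply Subtype.ext
      show t ((k : G) • q) * f (u k q) * (t ((k : G) • q))⁻¹ = k
      simp only [u, h1]
      rw [show f ((t q)⁻¹ * k * t q) = ⟨_, h2⟩ from hfK ⟨_, h2⟩]
      group
    simp only [F, hq, Finset.prod_const, Finset.card_univ, Subgroup.index, Nat.card_eq_fintype_card]
  let r := (powCoprime hcop).symm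
  have hr : ∀ x : K, r x ^ U.index = x := fun x => by
    rw [← powCoprime_apply hcop]; exact Equiv.apply_symm_apply _ _
  let φ : G → K := fun g => r (F g)
  have hφK : ∀ k : K, φ k = k := fun k =>
    (powCoprime hcop).injective (by rw [powCoprime_apply, powCoprime_apply, hr, hFK])
  have hφmul : ∀ g h, φ (g * h) = φ g * cHom g (φ h) := fun g h =>
    (powCoprime hcop).injective (by
      simp only [powCoprime_apply, φ, mul_pow, ← map_pow, hr]
      exact hFmul g h)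
  have hφ1 : φ 1 = 1 := hφK 1
  let H : Subgroup G :=
    { carrier := {g | φ g = 1}
      one_mem' := hφ1
      mul_mem' := fun {a b} (ha : φ a = 1) (hb : φ b = 1) => by
        show φ (a * b) = 1
        rw [hφmul, ha, hb, map_one, mul_one]
      inv_mem' := fun {a} (ha : φ a = 1) => by
        have h := hφmul a⁻¹ a
        rw [inv_mul_cancel, hφ1, ha, map_one, mul_one] at h
        exact h.symm }
  refine ⟨H, Subgroup.isComplement'_of_disjoint_and_mul_eq_univ (disjoint_iff.2 ?_) ?_⟩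
  · refine le_bot_iff.1 ?_
    rintro x ⟨hxK, (hxH : φ x = 1)⟩
    rw [show φ x = ⟨x, hxK⟩ from hφK ⟨x, hxK⟩] at hxH
    exact congrArg Subtype.val hxH
  · refine Set.eq_univ_of_forall fun g => ?_
    refine ⟨φ g, (φ g).2, ((φ g)⁻¹ : K) * g, ?_, by simp⟩
    show φ (((φ g)⁻¹ : K) * g) = 1
    rw [hφmul, hφK]
    have : cHom (((φ g)⁻¹ : K) : G) (φ g) = φ g := by
      apply Subtype.ext
      show (((φ g)⁻¹ : K) : G) * φ g * ((((φ g)⁻¹ : K) : G))⁻¹ = φ g
      simp
    rw [this, inv_mul_cancel]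

/-- **Gaschütz**: conjugacy of complements with equal intersection with `U`. -/
theorem gaschutz_conj [Finite G] {K U : Subgroup G} [K.Normal] [IsMulCommutative K]
    (hKU : K ≤ U) (hcop : (Nat.card K).Coprime U.index) {H₀ H₁ : Subgroup G}
    (h₀ : Subgroup.IsComplement' K H₀) (h₁ : Subgroup.IsComplement' K H₁)
    (hU : H₀ ⊓ U = H₁ ⊓ U) : ∃ g ∈ K, MulAut.conj g • H₀ = H₁ := by
  classical
  obtain ⟨f₀, hf₀, hf₀K, hf₀A, hf₀mul⟩ :=
    exists_coordinate (U := (⊤ : Subgroup G)) (disjoint_iff.1 h₀.disjoint.symm) h₀.sup_eq_top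
  obtain ⟨f₁, hf₁, hf₁K, hf₁A, hf₁mul⟩ :=
    exists_coordinate (U := (⊤ : Subgroup G)) (disjoint_iff.1 h₁.disjoint.symm) h₁.sup_eq_top
  have : Fintype (G ⧸ U) := Fintype.ofFinite _
  let c : G → K → K := fun g k => ⟨g * k * g⁻¹, Subgroup.Normal.conj_mem ‹K.Normal› _ k.2 g⟩
  let cHom : G → K →* K := fun g => MonoidHom.mk' (c g) fun a b => Subtype.ext (conj_mul.symm)
  have hmul₀ : ∀ a b, f₀ (a * b) = f₀ a * cHom a (f₀ b) := fun a b =>
    Subtype.ext (hf₀mul a trivial b trivial)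
  have hmul₁ : ∀ a b, f₁ (a * b) = f₁ a * cHom a (f₁ b) := fun a b =>
    Subtype.ext (hf₁mul a trivial b trivial)
  let d : G → K := fun g => (f₀ g)⁻¹ * f₁ g
  have hdmul : ∀ a b, d (a * b) = d a * cHom a (d b) := by
    intro a b
    simp only [d, hmul₀, hmul₁, map_mul, map_inv]
    rw [mul_inv]
    simp only [mul_comm, mul_left_comm, mul_assoc]
  have hdU : ∀ a ∈ U, d a = 1 := by
    intro a ha
    have h20 : (f₀ a : G)⁻¹ * a ∈ H₀ ⊓ U :=
      Subgroup.mem_inf.2 ⟨hf₀ a trivial, mul_mem (inv_mem (hKU (f₀ a).2)) ha⟩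
    rw [hU, Subgroup.mem_inf] at h20
    have h2 := h20.1
    have h3 : f₁ a = f₀ a := by
      have h40 : (f₁ a : G)⁻¹ * f₀ a ∈ H₁ := by
        simpa [mul_assoc] using mul_mem (hf₁ a trivial) (inv_mem h2)
      have h4 : (f₁ a : G)⁻¹ * f₀ a ∈ H₁ ⊓ K :=
        Subgroup.mem_inf.2 ⟨h40, mul_mem (inv_mem (f₁ a).2) (f₀ a).2⟩
      rw [disjoint_iff.1 h₁.disjoint.symm, Subgroup.mem_bot, inv_mul_eq_one] at h4
      exact Subtype.ext h4
    simp only [d, h3, inv_mul_cancel]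
  have hdcoset : ∀ a b : G, (a : G ⧸ U) = (b : G ⧸ U) → d a = d b := by
    intro a b hab
    have h := hdmul a (a⁻¹ * b)
    rw [mul_inv_cancel_left, hdU _ (QuotientGroup.eq.1 hab), map_one, mul_one] at h
    exact h.symm
  let t : G ⧸ U → G := Quotient.out
  have ht : ∀ q : G ⧸ U, (t q : G ⧸ U) = q := QuotientGroup.out_eq'
  let e : K := ∏ q, d (t q)
  have he : ∀ g, d g ^ U.index = e * (cHom g e)⁻¹ := by
    intro g
    rw [eq_mul_inv_iff_mul_eq]
    simp only [e, map_prod, Subgroup.index, Nat.card_eq_fintype_card, ← Finset.card_univ,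
      ← Finset.prod_const, ← Finset.prod_mul_distrib, ← hdmul]
    refine Fintype.prod_equiv (MulAction.toPerm g) _ _ fun q => hdcoset _ _ ?_
    show ((g * t q : G) : G ⧸ U) = (t (g • q) : G ⧸ U)
    rw [ht]
    conv_rhs => rw [← ht q]
    rfl
  let k := (powCoprime hcop).symm e
  have hk : k ^ U.index = e := by
    rw [← powCoprime_apply hcop]; exact Equiv.apply_symm_apply _ _
  have hd : ∀ g, d g = k * (cHom g k)⁻¹ := fun g => (powCoprime hcop).injective (by
    simp only [powCoprime_apply, mul_pow, inv_pow, ← map_pow, hk]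
    exact he g)
  refine ⟨((k⁻¹ : K) : G), (k⁻¹).2, Subgroup.eq_of_le_of_card_ge ?_ ?_⟩
  · intro x hx
    rw [mem_conj_iff] at hx
    set y := ((k⁻¹ : K) : G)⁻¹ * x * ((k⁻¹ : K) : G) with hy
    have hxy : x = ((k⁻¹ : K) : G) * y * (k : G) := by
      rw [hy]; push_cast; group
    have hf1y : f₁ y = k * (cHom y k)⁻¹ := by
      have h := hd y
      simp only [d, hf₀A y hx, inv_one, one_mul] at h
      exact h
    have hconj : cHom (((k⁻¹ : K) : G)) = MonoidHom.id K := by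
      refine MonoidHom.ext fun z => Subtype.ext ?_
      have hz : ((k⁻¹ : K) : G) * z = z * ((k⁻¹ : K) : G) :=
        congrArg Subtype.val (mul_comm' (k⁻¹ : K) z)
      show ((k⁻¹ : K) : G) * z * (((k⁻¹ : K) : G))⁻¹ = z
      rw [hz, mul_inv_cancel_right]
    have hc2 : cHom (((k⁻¹ : K) : G) * y) k = cHom y k := by
      have : cHom (((k⁻¹ : K) : G) * y) k = cHom (((k⁻¹ : K) : G)) (cHom y k) := by
        apply Subtype.ext
        show ((k⁻¹ : K) : G) * y * k * (((k⁻¹ : K) : G) * y)⁻¹ =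
          ((k⁻¹ : K) : G) * (y * k * y⁻¹) * (((k⁻¹ : K) : G))⁻¹
        group
      rw [this, hconj]; rfl
    have h1 : f₁ x = 1 := by
      rw [hxy, hmul₁, hmul₁, hf₁K, hf₁K, hc2, hconj]
      simp only [MonoidHom.id_apply, hf1y]
      group
    have h2 := hf₁ x trivial
    rw [h1] at h2
    simpa using h2
  · rw [card_conj]
    exact le_of_eq (by rw [← h₀.symm.index_eq_card, ← h₁.symm.index_eq_card])

end Cfsg.Agent.Solvable
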