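import Cfsg.Agent.Lib.Solvable.Maximal

/-!
# Supersolvable groups (owner: helper2)

* `isSupersolvable_iff`: above every proper normal `N` some `N ⊔ ⟨g⟩` is normal and larger
* closure: `supersolvable_of_surjective/quotient/subgroup/prod`, `isSupersolvable_of_cyclic_normal`,
  `isSupersolvable_of_isNilpotent`
* structure: `supersolvable_exists_prime_step_between`, `supersolvable_exists_normal_card_prime`,
  `supersolvable_isSolvable`, `supersolvable_index_prime_of_isCoatom`, `supersolvable_isNilpotent_commutator`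
-/

open Pointwise
open scoped commutatorElement

namespace Cfsg.Agent.Solvable

universe u

variable {G : Type u} [Group G]

theorem normal_sup_zpowers {N : Subgroup G} [hN : N.Normal] {g : G}
    (h : ∀ x : G, x * g * x⁻¹ ∈ N ⊔ Subgroup.zpowers g) : (N ⊔ Subgroup.zpowers g).Normal := by
  refine ⟨fun y hy x => ?_⟩
  have h1 : N ⊔ Subgroup.zpowers g ≤ (N ⊔ Subgroup.zpowers g).comap (MulAut.conj x).toMonoidHom := by
    refine sup_le (fun n hn => ?_) (Subgroup.zpowers_le.2 (h x))
    exact Subgroup.mem_sup_left (hN.conj_mem n hn x)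
  exact h1 hy

theorem lt_sup_zpowers {N : Subgroup G} {g : G} (hg : g ∉ N) : N < N ⊔ Subgroup.zpowers g :=
  lt_of_le_of_ne le_sup_left fun e => hg (e ▸ Subgroup.mem_sup_right (Subgroup.mem_zpowers g))

theorem exists_chain_of_steps [Finite G]
    (h : ∀ N : Subgroup G, N.Normal → N ≠ ⊤ → ∃ g, g ∉ N ∧ (N ⊔ Subgroup.zpowers g).Normal) :
    Cfsg.IsSupersolvable G := by
  have key : ∀ N : Subgroup G, N.Normal → ∃ (n : ℕ) (H : Fin (n + 1) → Subgroup G),
      H 0 = N ∧ H (Fin.last n) = ⊤ ∧ (∀ i, (H i).Normal) ∧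
      ∀ i : Fin n, ∃ g : G, H i.succ = H i.castSucc ⊔ Subgroup.zpowers g := by
    intro N
    induction N using WellFoundedGT.induction with
    | _ N ih =>
      intro hN
      by_cases hT : N = ⊤
      · exact ⟨0, fun _ => N, rfl, hT, fun _ => hN, fun i => i.elim0⟩
      obtain ⟨g, hg, hgn⟩ := h N hN hT
      obtain ⟨n, H, h0, hl, hn, hs⟩ := ih _ (lt_sup_zpowers hg) hgn
      refine ⟨n + 1, Fin.cons N H, rfl, ?_, ?_, ?_⟩
      · rw [← Fin.succ_last, Fin.cons_succ, hl]
      · intro i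
        refine Fin.cases ?_ (fun j => ?_) i
        · rw [Fin.cons_zero]; exact hN
        · rw [Fin.cons_succ]; exact hn j
      · intro i
        refine Fin.cases ⟨g, ?_⟩ (fun j => ?_) i
        · rw [Fin.cons_succ, Fin.castSucc_zero, Fin.cons_zero, h0]
        · obtain ⟨a, ha⟩ := hs j
          exact ⟨a, by rw [Fin.cons_succ, ← Fin.succ_castSucc, Fin.cons_succ, ha]⟩
  exact key ⊥ inferInstance

theorem supersolvable_exists_step (h : Cfsg.IsSupersolvable G) {N : Subgroup G} [N.Normal]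
    (hN : N ≠ ⊤) : ∃ g, g ∉ N ∧ (N ⊔ Subgroup.zpowers g).Normal := by
  obtain ⟨n, H, h0, hn, hnorm, hs⟩ := h
  have hex : ∃ i : Fin n, H i.castSucc ≤ N ∧ ¬ H i.succ ≤ N := by
    by_contra hcon
    simp only [not_exists, not_and, not_not] at hcon
    exact hN (top_le_iff.1 (hn ▸ Fin.induction (motive := fun i => H i ≤ N) (h0 ▸ bot_le) hcon _))
  obtain ⟨i, hi, hi'⟩ := hex
  obtain ⟨g, hg⟩ := hs i
  refine ⟨g, fun hgN => hi' (hg ▸ sup_le hi (Subgroup.zpowers_le.2 hgN)), ?_⟩
  have he : N ⊔ Subgroup.zpowers g = N ⊔ H i.succ := by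
    rw [hg, ← sup_assoc, sup_of_le_left hi]
  rw [he]
  have := hnorm i.succ
  exact Subgroup.sup_normal _ _

theorem isSupersolvable_iff [Finite G] :
    Cfsg.IsSupersolvable G ↔
      ∀ N : Subgroup G, N.Normal → N ≠ ⊤ → ∃ g, g ∉ N ∧ (N ⊔ Subgroup.zpowers g).Normal :=
  ⟨fun h _ hN hT => have := hN; supersolvable_exists_step h hT, exists_chain_of_steps⟩

theorem supersolvable_of_surjective {G' : Type*} [Group G'] [Finite G'] (h : Cfsg.IsSupersolvable G)
    (f : G →* G') (hf : Function.Surjective f) : Cfsg.IsSupersolvable G' := by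
  refine exists_chain_of_steps fun N hN hT => ?_
  obtain ⟨g, hg, hgn⟩ := supersolvable_exists_step h (N := N.comap f) fun e => hT (by
    rw [← Subgroup.map_comap_eq_self_of_surjective hf N, e, Subgroup.map_top_of_surjective f hf])
  refine ⟨f g, hg, ?_⟩
  have he : N ⊔ Subgroup.zpowers (f g) = (N.comap f ⊔ Subgroup.zpowers g).map f := by
    rw [Subgroup.map_sup, Subgroup.map_comap_eq_self_of_surjective hf, MonoidHom.map_zpowers]
  rw [he]
  exact hgn.map f hf

theorem supersolvable_quotient [Finite G] (h : Cfsg.IsSupersolvable G) (N : Subgroup G) [N.Normal] :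
    Cfsg.IsSupersolvable (G ⧸ N) :=
  supersolvable_of_surjective h (QuotientGroup.mk' N) (QuotientGroup.mk'_surjective N)

/-- The intersection of a subgroup with a cyclic extension of a normal subgroup. -/
theorem exists_generator_inf {A K : Subgroup G} [A.Normal] {g : G} (hK : K ≤ A ⊔ Subgroup.zpowers g) :
    ∃ y ∈ K, K ≤ (K ⊓ A) ⊔ Subgroup.zpowers y := by
  let f := QuotientGroup.mk' A
  have hf : f.ker = A := QuotientGroup.ker_mk' A
  have hle : K.map f ≤ Subgroup.zpowers (f g) := by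
    refine (Subgroup.map_mono hK).trans ?_
    rw [Subgroup.map_sup, (Subgroup.map_eq_bot_iff A).2 hf.ge, bot_sup_eq, MonoidHom.map_zpowers]
  have : IsCyclic ↥(K.map f) :=
    isCyclic_of_injective (Subgroup.inclusion hle) (Subgroup.inclusion_injective hle)
  obtain ⟨⟨z, y, hy, rfl⟩, hz⟩ := IsCyclic.exists_generator (α := K.map f)
  refine ⟨y, hy, fun x hx => ?_⟩
  obtain ⟨k, hk⟩ := hz ⟨f x, x, hx, rfl⟩
  have hk' : f (y ^ k) = f x := by
    rw [map_zpow]; exact congrArg Subtype.val hk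
  have h1 : x * (y ^ k)⁻¹ ∈ K ⊓ A := by
    refine Subgroup.mem_inf.2 ⟨mul_mem hx (inv_mem (zpow_mem hy k)), ?_⟩
    rw [← hf, MonoidHom.mem_ker, map_mul, map_inv, hk', mul_inv_cancel]
  have := Subgroup.mul_mem_sup h1 (Subgroup.zpow_mem_zpowers y k)
  simpa using this

theorem supersolvable_subgroup [Finite G] (h : Cfsg.IsSupersolvable G) (L : Subgroup G) :
    Cfsg.IsSupersolvable L := by
  refine exists_chain_of_steps fun N hN hT => ?_
  obtain ⟨M, ⟨hMn, hML⟩, hmax⟩ := wellFounded_gt.has_min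
    {M : Subgroup G | M.Normal ∧ M.subgroupOf L ≤ N}
    ⟨⊥, inferInstance, by rw [Subgroup.bot_subgroupOf]; exact bot_le⟩
  obtain ⟨g, hg, hgn⟩ := supersolvable_exists_step h (N := M) (fun he => hT (top_le_iff.1 (by
    rwa [he, Subgroup.top_subgroupOf] at hML)))
  obtain ⟨y, hy, hle⟩ := exists_generator_inf (A := M)
    (K := (M ⊔ Subgroup.zpowers g) ⊓ L) (g := g) inf_le_left
  refine ⟨⟨y, hy.2⟩, fun hyN => hmax _ ⟨hgn, fun x hx => ?_⟩ (lt_sup_zpowers hg), ?_⟩
  · obtain ⟨a, ha, b, hb, hab⟩ : ∃ a ∈ (M ⊔ Subgroup.zpowers g) ⊓ L ⊓ M,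
        ∃ b ∈ Subgroup.zpowers y, a * b = (x : G) := by
      have h1 := hle (Subgroup.mem_inf.2 ⟨Subgroup.mem_subgroupOf.1 hx, x.2⟩)
      have : Subgroup.zpowers y ≤
          Subgroup.normalizer (((M ⊔ Subgroup.zpowers g) ⊓ L ⊓ M : Subgroup G) : Set G) := by
        refine Subgroup.zpowers_le.2 (mem_normalizer_iff_conj.2 ?_)
        rw [Subgroup.smul_inf, conj_eq_self hy, conj_normal]
      rw [← SetLike.mem_coe, Subgroup.coe_mul_of_right_le_normalizer_left _ _ this] at h1
      exact h1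
    obtain ⟨k, rfl⟩ := hb
    have hx' : x = ⟨a, ha.1.2⟩ * ⟨y, hy.2⟩ ^ k :=
      Subtype.ext (by rw [Subgroup.coe_mul, Subgroup.coe_zpow]; exact hab.symm)
    rw [hx']
    exact mul_mem (hML (Subgroup.mem_subgroupOf.2 ha.2)) (zpow_mem hyN k)
  · refine normal_sup_zpowers fun x => ?_
    have h1 : (x : G) * y * (x : G)⁻¹ ∈ (M ⊔ Subgroup.zpowers g) ⊓ L :=
      Subgroup.mem_inf.2 ⟨hgn.conj_mem y hy.1 x, L.mul_mem (L.mul_mem x.2 hy.2) (L.inv_mem x.2)⟩
    have h3 : (M ⊔ Subgroup.zpowers g) ⊓ L ⊓ M ⊔ Subgroup.zpowers y ≤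
        (N ⊔ Subgroup.zpowers (⟨y, hy.2⟩ : L)).map L.subtype := by
      refine sup_le (fun z hz => ?_) ?_
      · exact ⟨⟨z, hz.1.2⟩, Subgroup.mem_sup_left (hML (Subgroup.mem_subgroupOf.2 hz.2)), rfl⟩
      · exact Subgroup.zpowers_le.2 ⟨⟨y, hy.2⟩, Subgroup.mem_sup_right (Subgroup.mem_zpowers _), rfl⟩
    have h2 := h3 (hle h1)
    obtain ⟨z, hz, hzx⟩ := h2
    have : x * ⟨y, hy.2⟩ * x⁻¹ = z := Subtype.ext hzx.symm
    rwa [this]

theorem isSupersolvable_of_cyclic_normal [Finite G] (C : Subgroup G) [C.Normal] [IsCyclic C]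
    (h : Cfsg.IsSupersolvable (G ⧸ C)) : Cfsg.IsSupersolvable G := by
  refine exists_chain_of_steps fun N hN hT => ?_
  by_cases hC : C ≤ N
  · set f := QuotientGroup.mk' C
    have hf : f.ker = C := QuotientGroup.ker_mk' C
    have := hN.map f (QuotientGroup.mk'_surjective C)
    obtain ⟨g', hg, hgn⟩ := supersolvable_exists_step h (N := N.map f) (fun e => hT (eq_of_map_eq (hf.le.trans hC)
      le_top (e.trans (Subgroup.map_top_of_surjective f (QuotientGroup.mk'_surjective C)).symm)))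
    obtain ⟨g, rfl⟩ := QuotientGroup.mk'_surjective C g'
    refine ⟨g, fun hgN => hg ⟨g, hgN, rfl⟩, ?_⟩
    have he : N ⊔ Subgroup.zpowers g = (N.map f ⊔ Subgroup.zpowers (f g)).comap f := by
      rw [← MonoidHom.map_zpowers, ← Subgroup.map_sup, Subgroup.comap_map_eq_self]
      exact (hf.le.trans hC).trans le_sup_left
    rw [he]
    exact hgn.comap f
  · obtain ⟨⟨c, hc⟩, hgen⟩ := IsCyclic.exists_generator (α := C)
    have hCc : Subgroup.zpowers c = C := le_antisymm (Subgroup.zpowers_le.2 hc) fun x hx => by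
      obtain ⟨k, hk⟩ := hgen ⟨x, hx⟩
      exact ⟨k, congrArg Subtype.val hk⟩
    refine ⟨c, fun h1 => hC (hCc ▸ Subgroup.zpowers_le.2 h1), ?_⟩
    rw [hCc]; exact Subgroup.sup_normal _ _

theorem isSupersolvable_of_isNilpotent [Finite G] [Group.IsNilpotent G] : Cfsg.IsSupersolvable G := by
  refine exists_chain_of_steps fun N hN hT => ?_
  have : Nontrivial (G ⧸ N) := QuotientGroup.nontrivial_iff.2 hT
  obtain ⟨⟨z, hz⟩, hz1⟩ := (Subgroup.ne_bot_iff_exists_ne_one.1
    (Group.IsNilpotent.center_ne_bot _ : Subgroup.center (G ⧸ N) ≠ ⊥))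
  obtain ⟨g, rfl⟩ := QuotientGroup.mk'_surjective N z
  refine ⟨g, fun hg => hz1 (Subtype.ext ((QuotientGroup.eq_one_iff g).2 hg)), normal_sup_zpowers fun x => ?_⟩
  have h1 : x * g * x⁻¹ * g⁻¹ ∈ N := by
    rw [← QuotientGroup.eq_one_iff, ← QuotientGroup.mk'_apply, map_mul, map_mul, map_mul, map_inv,
      map_inv, Subgroup.mem_center_iff.1 hz (QuotientGroup.mk' N x)]
    group
  have := Subgroup.mul_mem_sup h1 (Subgroup.mem_zpowers g)
  simpa using this

theorem supersolvable_prod {H : Type*} [Group H] [Finite G] [Finite H] (hG : Cfsg.IsSupersolvable G)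
    (hH : Cfsg.IsSupersolvable H) : Cfsg.IsSupersolvable (G × H) := by
  refine exists_chain_of_steps fun N hN hT => ?_
  let i₁ := MonoidHom.inl G H
  let i₂ := MonoidHom.inr G H
  have conj₁ : ∀ (x : G × H) (g : G), x * i₁ g * x⁻¹ = i₁ (x.1 * g * x.1⁻¹) := fun x g => by
    ext <;> simp [i₁]
  have conj₂ : ∀ (x : G × H) (g : H), x * i₂ g * x⁻¹ = i₂ (x.2 * g * x.2⁻¹) := fun x g => by
    ext <;> simp [i₂]
  by_cases h1 : N.comap i₁ = ⊤
  · obtain ⟨g, hg, hgn⟩ := supersolvable_exists_step hH (N := N.comap i₂) (fun h2 => hT (top_le_iff.1 fun x _ => by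
      have e : x = i₁ x.1 * i₂ x.2 := by ext <;> simp [i₁, i₂]
      rw [e]
      exact mul_mem (Subgroup.mem_comap.1 (h1 ▸ Subgroup.mem_top x.1))
        (Subgroup.mem_comap.1 (h2 ▸ Subgroup.mem_top x.2))))
    refine ⟨i₂ g, hg, normal_sup_zpowers fun x => ?_⟩
    rw [conj₂]
    have h3 := Subgroup.mem_map_of_mem i₂ (hgn.conj_mem g (Subgroup.mem_sup_right (Subgroup.mem_zpowers g)) x.2)
    rw [Subgroup.map_sup, MonoidHom.map_zpowers] at h3
    exact (sup_le_sup_right (Subgroup.map_comap_le i₂ N) _) h3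
  · obtain ⟨g, hg, hgn⟩ := supersolvable_exists_step hG (N := N.comap i₁) h1
    refine ⟨i₁ g, hg, normal_sup_zpowers fun x => ?_⟩
    rw [conj₁]
    have h3 := Subgroup.mem_map_of_mem i₁ (hgn.conj_mem g (Subgroup.mem_sup_right (Subgroup.mem_zpowers g)) x.1)
    rw [Subgroup.map_sup, MonoidHom.map_zpowers] at h3
    exact (sup_le_sup_right (Subgroup.map_comap_le i₁ N) _) h3

theorem normal_zpowers_pow {x : G} (h : (Subgroup.zpowers x).Normal) (m : ℕ) :
    (Subgroup.zpowers (x ^ m)).Normal := by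
  refine ⟨fun y hy a => ?_⟩
  obtain ⟨k, rfl⟩ := hy
  obtain ⟨j, hj⟩ := h.conj_mem x (Subgroup.mem_zpowers x) a
  refine ⟨j * k, ?_⟩
  have hj' : x ^ j = a * x * a⁻¹ := hj
  show (x ^ m) ^ (j * k) = a * (x ^ m) ^ k * a⁻¹
  rw [← conj_zpow, ← conj_pow, ← hj', ← zpow_natCast, ← zpow_natCast (x ^ j), ← zpow_mul, ← zpow_mul,
    ← zpow_mul]
  ring_nf

theorem supersolvable_exists_prime_step [Finite G] (h : Cfsg.IsSupersolvable G) {N : Subgroup G}
    [N.Normal] (hN : N ≠ ⊤) :
    ∃ M : Subgroup G, M.Normal ∧ N < M ∧ (N.relIndex M).Prime := by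
  obtain ⟨g, hg, hgn⟩ := supersolvable_exists_step h hN
  set f := QuotientGroup.mk' N
  have hf : f.ker = N := QuotientGroup.ker_mk' N
  have h1 : (Subgroup.zpowers (f g)).Normal := by
    have := hgn.map f (QuotientGroup.mk'_surjective N)
    rwa [Subgroup.map_sup, (Subgroup.map_eq_bot_iff N).2 hf.ge, bot_sup_eq, MonoidHom.map_zpowers]
      at this
  have hne : f g ≠ 1 := fun e => hg ((QuotientGroup.eq_one_iff g).1 e)
  obtain ⟨p, hp, hd⟩ := Nat.exists_prime_and_dvd (fun e => hne (orderOf_eq_one_iff.1 e))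
  obtain ⟨m, hm⟩ := hd
  have hZ := normal_zpowers_pow h1 m
  have hcard : Nat.card (Subgroup.zpowers (f g ^ m)) = p := by
    have ho : orderOf (f g) ≠ 0 := (orderOf_pos _).ne'
    have hm0 : m ≠ 0 := fun e => ho (by rw [hm, e, mul_zero])
    rw [Nat.card_zpowers, orderOf_pow_of_dvd hm0 (hm ▸ dvd_mul_left m p), hm,
      Nat.mul_div_cancel _ (Nat.pos_of_ne_zero hm0)]
  have hidx : N.relIndex ((Subgroup.zpowers (f g ^ m)).comap f) = p := by
    have := Subgroup.relIndex_ker f (K := (Subgroup.zpowers (f g ^ m)).comap f)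
    rwa [hf, Subgroup.map_comap_eq_self_of_surjective (QuotientGroup.mk'_surjective N), hcard]
      at this
  refine ⟨_, hZ.comap f, lt_of_le_of_ne (QuotientGroup.le_comap_mk' N _) fun e => ?_, hidx ▸ hp⟩
  rw [← e, Subgroup.relIndex_self] at hidx
  exact hp.ne_one hidx.symm

/-- Between two normal subgroups of a supersolvable group there is a step of prime index. -/
theorem supersolvable_exists_prime_step_between [Finite G] (h : Cfsg.IsSupersolvable G)
    {A B : Subgroup G} [A.Normal] [B.Normal] (hAB : A < B) :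
    ∃ M : Subgroup G, M.Normal ∧ A < M ∧ M ≤ B ∧ (A.relIndex M).Prime := by
  obtain ⟨N, ⟨hNn, hNB⟩, hmax⟩ := wellFounded_gt.has_min
    {N : Subgroup G | N.Normal ∧ N ⊓ B ≤ A} ⟨⊥, inferInstance, inf_le_left.trans bot_le⟩
  obtain ⟨M, hMn, hlt, hidx⟩ := supersolvable_exists_prime_step h (N := N)
    (fun he => hAB.not_ge (by simpa [he] using hNB))
  have hlt' : A < A ⊔ M ⊓ B := lt_of_le_of_ne le_sup_left fun he =>
    hmax M ⟨hMn, le_sup_right.trans he.ge⟩ hlt
  refine ⟨A ⊔ M ⊓ B, Subgroup.sup_normal _ _, hlt', sup_le hAB.le inf_le_right, ?_⟩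
  have hd : A.relIndex (A ⊔ M ⊓ B) ∣ N.relIndex M := by
    rw [Subgroup.relIndex_sup_left]
    refine (Subgroup.relIndex_dvd_of_le_left _ hNB).trans ?_
    have he : (N ⊓ B).relIndex (M ⊓ B) = N.relIndex (M ⊓ B) := by
      rw [← Subgroup.inf_relIndex_right, inf_assoc,
        inf_of_le_right (inf_le_right : M ⊓ B ≤ B), Subgroup.inf_relIndex_right]
    rw [he]
    exact relIndex_dvd_relIndex_of_normal inf_le_left
  rcases hidx.eq_one_or_self_of_dvd _ hd with h1 | h1
  · exact absurd (Subgroup.relIndex_eq_one.1 h1) hlt'.not_ge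
  · rwa [h1]

theorem supersolvable_exists_normal_card_prime [Finite G] (h : Cfsg.IsSupersolvable G)
    {B : Subgroup G} [B.Normal] (hB : B ≠ ⊥) :
    ∃ M : Subgroup G, M.Normal ∧ M ≤ B ∧ (Nat.card M).Prime := by
  obtain ⟨M, h1, -, h2, h3⟩ := supersolvable_exists_prime_step_between h (A := (⊥ : Subgroup G)) hB.bot_lt
  rw [Subgroup.relIndex_bot_left] at h3
  exact ⟨M, h1, h2, h3⟩

theorem supersolvable_isSolvable [Finite G] (h : Cfsg.IsSupersolvable G) : Group.IsSolvable G := by
  suffices hs : ∀ (N : Subgroup G) [N.Normal], Group.IsSolvable (G ⧸ N) by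
    have hbot := hs ⊥
    exact Group.isSolvable_of_surjective (f := (QuotientGroup.quotientBot (G := G)).toMonoidHom)
      QuotientGroup.quotientBot.surjective
  intro N
  induction N using WellFoundedGT.induction with
  | _ N ih =>
    intro hN
    rcases eq_or_ne N ⊤ with rfl | hT
    · have : Subsingleton (G ⧸ (⊤ : Subgroup G)) := QuotientGroup.subsingleton_quotient_top
      infer_instance
    obtain ⟨M, hMn, hlt, hp⟩ := supersolvable_exists_prime_step h hT
    have := hMn
    let f := QuotientGroup.mk' N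
    have hMf : (M.map f).Normal := hMn.map f (QuotientGroup.mk'_surjective N)
    have hcard : (Nat.card (M.map f)).Prime := by
      rw [← Subgroup.relIndex_ker, QuotientGroup.ker_mk']; exact hp
    have := Fact.mk hcard
    have : Group.IsSolvable (M.map f) := isSolvable_of_isPGroup (IsPGroup.of_card (n := 1) (pow_one _).symm)
    have := @ih M hlt hMn
    let e : (G ⧸ N) ⧸ M.map f ≃* G ⧸ M :=
      QuotientGroup.quotientQuotientEquivQuotient N M hlt.le
    have : Group.IsSolvable ((G ⧸ N) ⧸ M.map f) :=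
      Group.isSolvable_of_surjective (f := e.symm.toMonoidHom) e.symm.surjective
    exact (Group.isSolvable_iff_subgroup_quotient (M.map f)).2 ⟨inferInstance, inferInstance⟩

theorem supersolvable_index_prime_of_isCoatom [Finite G] (h : Cfsg.IsSupersolvable G) {M : Subgroup G}
    (hM : IsCoatom M) : M.index.Prime := by
  have hA : M.normalCore ≠ ⊤ := fun e => hM.1 (top_le_iff.1 (e ▸ M.normalCore_le))
  obtain ⟨B, hBn, hlt, hp⟩ := supersolvable_exists_prime_step h hA
  have hBM : ¬ B ≤ M := fun hle => hlt.not_ge ((Subgroup.normal_le_normalCore).2 hle)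
  have htop : M ⊔ B = ⊤ := hM.2 _ (left_lt_sup.2 hBM)
  have h1 : M.index ∣ M.normalCore.relIndex B := by
    rw [← Subgroup.relIndex_top_right, ← htop, relIndex_sup_of_normal]
    exact Subgroup.relIndex_dvd_of_le_left _ M.normalCore_le
  rcases hp.eq_one_or_self_of_dvd _ h1 with e | e
  · exact absurd (Subgroup.index_eq_one.1 e) hM.1
  · rwa [e]

theorem supersolvable_isNilpotent_commutator (h : Cfsg.IsSupersolvable G) :
    Group.IsNilpotent (commutator G) := by
  obtain ⟨n, H, h0, hl, hn, hs⟩ := h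
  set C := commutator G
  let Z : ℕ → Subgroup C := fun k => (H ⟨min k n, by omega⟩).subgroupOf C
  refine (Subgroup.nilpotent_iff_finite_ascending_central_series _).2 ⟨n, Z, ⟨?_, ?_⟩, ?_⟩
  · show (H _).subgroupOf C = ⊥
    rw [show (⟨min 0 n, by omega⟩ : Fin (n + 1)) = 0 from Fin.ext (by simp), h0, Subgroup.bot_subgroupOf]
  · intro x k hx y
    show x * y * x⁻¹ * y⁻¹ ∈ (H _).subgroupOf C
    rw [Subgroup.mem_subgroupOf]
    rcases Nat.lt_or_ge k n with hk | hk
    · obtain ⟨g, hg⟩ := hs ⟨k, hk⟩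
      have hx' : (x : G) ∈ H (Fin.succ ⟨k, hk⟩) := by
        have := Subgroup.mem_subgroupOf.1 hx
        rwa [show (Fin.succ ⟨k, hk⟩ : Fin (n + 1)) = ⟨min (k + 1) n, by omega⟩ from
          Fin.ext (by simp; omega)]
      rw [show (⟨min k n, by omega⟩ : Fin (n + 1)) = Fin.castSucc ⟨k, hk⟩ from Fin.ext (by simp; omega)]
      have hA := hn (Fin.castSucc ⟨k, hk⟩)
      let A := H (Fin.castSucc ⟨k, hk⟩)
      let f := QuotientGroup.mk' A
      have hf : f.ker = A := QuotientGroup.ker_mk' A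
      have hZn : (Subgroup.zpowers (f g)).Normal := by
        have := (hn (Fin.succ ⟨k, hk⟩)).map f (QuotientGroup.mk'_surjective A)
        rwa [hg, Subgroup.map_sup, (Subgroup.map_eq_bot_iff A).2 hf.ge, bot_sup_eq,
          MonoidHom.map_zpowers] at this
      have hC : C ≤ (Subgroup.centralizer (Subgroup.zpowers (f g) : Set (G ⧸ A))).comap f := by
        refine Subgroup.commutator_le.2 fun a _ b _ => ?_
        rw [Subgroup.mem_comap, map_commutatorElement, Subgroup.mem_centralizer_iff]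
        rintro _ ⟨m, rfl⟩
        obtain ⟨i, hi⟩ := hZn.conj_mem (f g) (Subgroup.mem_zpowers _) (f a)
        obtain ⟨j, hj⟩ := hZn.conj_mem (f g) (Subgroup.mem_zpowers _) (f b)
        have hi' : f g ^ i = f a * f g * (f a)⁻¹ := hi
        have hj' : f g ^ j = f b * f g * (f b)⁻¹ := hj
        have hab : f a * f b * f g * (f a * f b)⁻¹ = f b * f a * f g * (f b * f a)⁻¹ :=
          calc f a * f b * f g * (f a * f b)⁻¹ = f a * (f b * f g * (f b)⁻¹) * (f a)⁻¹ := by group
            _ = (f a * f g * (f a)⁻¹) ^ j := by rw [conj_zpow, hj']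
            _ = f g ^ (i * j) := by rw [← hi', zpow_mul]
            _ = (f b * f g * (f b)⁻¹) ^ i := by rw [← hj', mul_comm, zpow_mul]
            _ = f b * (f a * f g * (f a)⁻¹) * (f b)⁻¹ := by rw [conj_zpow, hi']
            _ = _ := by group
        have hc : f g * ⁅f a, f b⁆ = ⁅f a, f b⁆ * f g := by
          -- conjugating by `a b` and by `b a` agree on `g`, hence on all of its powers
          obtain ⟨l, hl⟩ := hZn.conj_mem (f g) (Subgroup.mem_zpowers _) (f b * f a)⁻¹
          have hl' : f g ^ l = (f b * f a)⁻¹ * f g * (f b * f a) := by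
            have hl0 : f g ^ l = (f b * f a)⁻¹ * f g * ((f b * f a)⁻¹)⁻¹ := hl
            rwa [inv_inv] at hl0
          have h5 : f a * f b * f g ^ l * (f a * f b)⁻¹ = f g := by
            rw [← conj_zpow, hab, conj_zpow, hl']; group
          rw [hl'] at h5
          have h6 : ⁅f a, f b⁆ * f g * ⁅f a, f b⁆⁻¹ = f g := by
            conv_rhs => rw [← h5]
            simp only [commutatorElement_def]; group
          exact (mul_inv_eq_iff_eq_mul.1 h6).symm
        exact (Commute.zpow_left hc m).eq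
      have h2 : f x ∈ Subgroup.zpowers (f g) := by
        have := Subgroup.mem_map_of_mem f (hg ▸ hx')
        rwa [Subgroup.map_sup, (Subgroup.map_eq_bot_iff A).2 hf.ge, bot_sup_eq, MonoidHom.map_zpowers]
          at this
      have h3 := Subgroup.mem_centralizer_iff.1 (Subgroup.mem_comap.1 (hC y.2)) _ h2
      show ((x * y * x⁻¹ * y⁻¹ : C) : G) ∈ A
      rw [← hf, MonoidHom.mem_ker]
      simp only [Subgroup.coe_mul, InvMemClass.coe_inv, map_mul, map_inv]
      rw [h3]; group
    · rw [show (⟨min k n, by omega⟩ : Fin (n + 1)) = Fin.last n from Fin.ext (by simp; omega), hl]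
      exact Subgroup.mem_top _
  · show (H _).subgroupOf C = ⊤
    rw [show (⟨min n n, by omega⟩ : Fin (n + 1)) = Fin.last n from Fin.ext (by simp), hl,
      Subgroup.top_subgroupOf]

end Cfsg.Agent.Solvable
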