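import Cfsg.Agent.Lib.Solvable.Hall
import Cfsg.Agent.S1475

/-!
# Lucido's three primes lemma (owner: helper2)

* `exists_orderOf_eq_mul_of_three_primes`: among three primes dividing the order of a solvable group, two
  distinct ones have an element of the product order.
-/

namespace Cfsg.Agent.Solvable

variable {G : Type*} [Group G]

theorem exists_orderOf_eq_of_dvd [Finite G] (g : G) {d : ℕ} (hd : d ∣ orderOf g) :
    ∃ x : G, orderOf x = d := by
  obtain ⟨e, he⟩ := hd
  have he0 : e ≠ 0 := fun h => (orderOf_pos g).ne' (by rw [he, h, mul_zero])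
  exact ⟨g ^ e, by rw [orderOf_pow_of_dvd he0 ⟨d, by rw [he, mul_comm]⟩, he,
    Nat.mul_div_cancel _ (Nat.pos_of_ne_zero he0)]⟩

theorem exists_orderOf_eq_mul_of_three_primes [Finite G] [Group.IsSolvable G] {p q r : ℕ}
    (hp : p.Prime) (hq : q.Prime) (hr : r.Prime) (hpq : p ≠ q) (hpr : p ≠ r) (hqr : q ≠ r)
    (hpd : p ∣ Nat.card G) (hqd : q ∣ Nat.card G) (hrd : r ∣ Nat.card G) :
    ∃ g : G, orderOf g = p * q ∨ orderOf g = p * r ∨ orderOf g = q * r := by
  by_contra hcon
  simp only [not_exists, not_or] at hcon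
  obtain ⟨H, hH⟩ := exists_piHall_of_solvable (G := G) ({p, q, r} : Set ℕ)
  have hmem : ∀ x ∈ ({p, q, r} : Set ℕ), x ∣ Nat.card G → x.Prime → x ∈ (Nat.card H).primeFactors := by
    intro x hx hd hxp
    refine Nat.mem_primeFactors.2 ⟨hxp, ?_, Nat.card_pos.ne'⟩
    rw [← H.card_mul_index] at hd
    exact (hxp.dvd_mul.1 hd).resolve_right (hH.2 x hxp hx)
  have hsub : ({p, q, r} : Finset ℕ) ⊆ (Nat.card H).primeFactors := by
    intro x hx
    simp only [Finset.mem_insert, Finset.mem_singleton] at hx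
    rcases hx with rfl | rfl | rfl
    · exact hmem _ (by simp) hpd hp
    · exact hmem _ (by simp) hqd hq
    · exact hmem _ (by simp) hrd hr
  have h3 : ({p, q, r} : Finset ℕ).card = 3 := by simp [hpq, hpr, hqr]
  have hle := S1475.result (G := H) fun g => by
    rcases eq_or_ne g 1 with h | h
    · exact Or.inr h
    left
    rw [isPrimePow_iff_unique_prime_dvd]
    obtain ⟨a, ha, had⟩ := Nat.exists_prime_and_dvd (fun e => h (orderOf_eq_one_iff.1 e))
    refine ⟨a, ⟨ha, had⟩, fun b ⟨hb, hbd⟩ => by_contra fun hab => ?_⟩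
    have haπ := hH.1 a ha (had.trans (orderOf_dvd_natCard g))
    have hbπ := hH.1 b hb (hbd.trans (orderOf_dvd_natCard g))
    obtain ⟨x, hx⟩ := exists_orderOf_eq_of_dvd (g : G) (d := a * b) (by
      rw [Subgroup.orderOf_coe]
      exact ((Nat.coprime_primes ha hb).2 (Ne.symm hab)).mul_dvd_of_dvd_of_dvd had hbd)
    obtain ⟨c1, c2, c3⟩ := hcon x
    simp only [Set.mem_insert_iff, Set.mem_singleton_iff] at haπ hbπ
    rcases haπ with rfl | rfl | rfl <;> rcases hbπ with rfl | rfl | rfl <;>
      first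
        | exact hab rfl
        | exact c1 hx
        | exact c2 hx
        | exact c3 hx
        | exact c1 (hx.trans (mul_comm _ _))
        | exact c2 (hx.trans (mul_comm _ _))
        | exact c3 (hx.trans (mul_comm _ _))
  have := Finset.card_le_card hsub
  omega

end Cfsg.Agent.Solvable
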