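import Cfsg.Agent.Lib.Coprime.Invariant
import Cfsg.Agent.Lib.Coprime.Generation

/-!
# Fixed points of an abelian group inside a commutator

If the abelian group `A` acts coprimely on the solvable group `Y = [Y, A]`, then `C_Y(A)` is generated
by the subgroups `[C_Y(A₀), A] ∩ C(A)`, `A₀` ranging over the subgroups with cyclic quotient.
-/

set_option autoImplicit false

namespace Cfsg.Agent.Solvable.CommFixed

universe u

open scoped Pointwise commutatorElement

variable {G : Type u} [Group G]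

/-- `A₀ ≤ A` with cyclic quotient. -/
def Cyc (A A0 : Subgroup G) : Prop := A0 ≤ A ∧ ∃ g ∈ A, A ≤ A0 ⊔ Subgroup.zpowers g

/-- The subgroup generated by the `[C_Y(A₀), A] ∩ C(A)`. -/
def fixGen (A Y : Subgroup G) : Subgroup G :=
  ⨆ (A0 : Subgroup G) (_ : Cyc A A0),
    ⁅Y ⊓ Subgroup.centralizer (A0 : Set G), A⁆ ⊓ Subgroup.centralizer (A : Set G)

theorem le_fixGen {A Y A0 : Subgroup G} (h : Cyc A A0) :
    ⁅Y ⊓ Subgroup.centralizer (A0 : Set G), A⁆ ⊓ Subgroup.centralizer (A : Set G) ≤ fixGen A Y :=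
  le_iSup₂ (f := fun (A0 : Subgroup G) (_ : Cyc A A0) =>
    ⁅Y ⊓ Subgroup.centralizer (A0 : Set G), A⁆ ⊓ Subgroup.centralizer (A : Set G)) A0 h

theorem fixGen_le {A Y : Subgroup G} (hAY : A ≤ Subgroup.normalizer (Y : Set G)) :
    fixGen A Y ≤ Y ⊓ Subgroup.centralizer (A : Set G) :=
  iSup₂_le fun _ _ => inf_le_inf_right _
    ((Subgroup.commutator_mono inf_le_left le_rfl).trans (Coprime.commutator_le_left' hAY))

theorem fixGen_mono {A Y Z : Subgroup G} (h : Y ≤ Z) : fixGen A Y ≤ fixGen A Z :=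
  iSup₂_le fun _ h0 => le_trans
    (inf_le_inf_right _ (Subgroup.commutator_mono (inf_le_inf_right _ h) le_rfl)) (le_fixGen h0)

theorem map_centralizer_le {H : Type u} [Group H] (φ : G →* H) (A : Subgroup G) :
    (Subgroup.centralizer (A : Set G)).map φ ≤ Subgroup.centralizer ((A.map φ : Subgroup H) : Set H) := by
  rintro _ ⟨c, hc, rfl⟩ _ ⟨a, ha, rfl⟩
  rw [← map_mul, ← map_mul, hc a ha]

theorem Cyc.map {H : Type u} [Group H] (φ : G →* H) {A A0 : Subgroup G} (h : Cyc A A0) :
    Cyc (A.map φ) (A0.map φ) := by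
  obtain ⟨g, hg, hle⟩ := h.2
  refine ⟨Subgroup.map_mono h.1, φ g, Subgroup.mem_map_of_mem φ hg, ?_⟩
  rw [← MonoidHom.map_zpowers, ← Subgroup.map_sup]
  exact Subgroup.map_mono hle

theorem map_fixGen_le {H : Type u} [Group H] (φ : G →* H) (A Y : Subgroup G) :
    (fixGen A Y).map φ ≤ fixGen (A.map φ) (Y.map φ) := by
  refine Subgroup.map_le_iff_le_comap.2 (iSup₂_le fun A0 h0 => Subgroup.map_le_iff_le_comap.1 ?_)
  refine le_trans ?_ (le_fixGen (h0.map φ))
  refine le_trans (Subgroup.map_inf_le _ _ φ) (inf_le_inf ?_ (map_centralizer_le φ A))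
  rw [Subgroup.map_commutator]
  exact Subgroup.commutator_mono
    ((Subgroup.map_inf_le _ _ φ).trans (inf_le_inf le_rfl (map_centralizer_le φ A0))) le_rfl

variable [Finite G] {A Y : Subgroup G}

/-- `C_Y(A)` normalises `fixGen A Y`. -/
theorem centralizer_le_normalizer_fixGen (hAY : A ≤ Subgroup.normalizer (Y : Set G)) :
    Y ⊓ Subgroup.centralizer (A : Set G) ≤ Subgroup.normalizer (fixGen A Y : Set G) := by
  intro c hc
  refine Coprime.mem_normalizer_of_forall fun x hx => ?_
  have hA : A.map (MulAut.conj c).toMonoidHom = A := by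
    ext a
    constructor
    · rintro ⟨b, hb, rfl⟩
      have : MulAut.conj c b = b := by
        rw [MulAut.conj_apply, ← hc.2 b hb, mul_inv_cancel_right]
      rw [MulEquiv.coe_toMonoidHom, this]
      exact hb
    · intro ha
      refine ⟨a, ha, ?_⟩
      rw [MulEquiv.coe_toMonoidHom, MulAut.conj_apply, ← hc.2 a ha, mul_inv_cancel_right]
  have hY : Y.map (MulAut.conj c).toMonoidHom = Y :=
    Coprime.conj_eq_of_mem_normalizer (Subgroup.le_normalizer hc.1)
  have h := map_fixGen_le (MulAut.conj c).toMonoidHom A Y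
  rw [hA, hY] at h
  exact h ⟨x, hx, rfl⟩

theorem le_normalizer_centralizer [IsMulCommutative A] {A0 : Subgroup G} (h0 : A0 ≤ A) :
    A ≤ Subgroup.normalizer (Subgroup.centralizer (A0 : Set G) : Set G) :=
  by have h : A ≤ Subgroup.centralizer (A0 : Set G) := fun _ ha _ hb => setLike_mul_comm (h0 hb) ha
     exact h.trans Subgroup.le_normalizer

theorem le_normalizer_inf {X V W : Subgroup G} (hV : X ≤ Subgroup.normalizer (V : Set G))
    (hW : X ≤ Subgroup.normalizer (W : Set G)) : X ≤ Subgroup.normalizer ((V ⊓ W : Subgroup G) : Set G) :=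
  fun _ hx => Coprime.mem_normalizer_of_forall fun z hz =>
    ⟨(Subgroup.mem_normalizer_iff.1 (hV hx) z).1 hz.1, (Subgroup.mem_normalizer_iff.1 (hW hx) z).1 hz.2⟩

theorem le_normalizer_commutator {X V W : Subgroup G} (hV : X ≤ Subgroup.normalizer (V : Set G))
    (hW : X ≤ Subgroup.normalizer (W : Set G)) : X ≤ Subgroup.normalizer ((⁅V, W⁆ : Subgroup G) : Set G) :=
  fun x hx => Coprime.mem_normalizer_of_forall fun z hz => by
    have h : MulAut.conj x • ⁅V, W⁆ = ⁅V, W⁆ := by
      show ⁅V, W⁆.map (MulAut.conj x).toMonoidHom = _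
      rw [Subgroup.map_commutator]
      exact congr_arg₂ _ (Coprime.conj_eq_of_mem_normalizer (hV hx))
        (Coprime.conj_eq_of_mem_normalizer (hW hx))
    exact h.le (Coprime.conj_mem_conj.2 hz)

theorem solv_comm (A : Subgroup G) [IsMulCommutative A] : Group.IsSolvable A :=
  Group.isSolvable_of_comm fun a b => mul_comm' a b

/-- `Y = [Y, A]` is generated by the `[C_Y(A₀), A]`. -/
theorem le_iSup_commutator [IsMulCommutative A] (hAY : A ≤ Subgroup.normalizer (Y : Set G))
    (hcop : (Nat.card A).Coprime (Nat.card Y)) (hYA : ⁅Y, A⁆ = Y) {W : Subgroup G} (hWY : W ≤ Y)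
    (hW : ∀ A0, Cyc A A0 → ⁅Y ⊓ Subgroup.centralizer (A0 : Set G), A⁆ ≤ W) : Y ≤ W := by
  classical
  set U := ⨆ (A0 : Subgroup G) (_ : Cyc A A0), ⁅Y ⊓ Subgroup.centralizer (A0 : Set G), A⁆
  have hUT : ∀ A0, Cyc A A0 → ⁅Y ⊓ Subgroup.centralizer (A0 : Set G), A⁆ ≤ U := fun A0 h0 =>
    le_iSup₂ (f := fun (A0 : Subgroup G) (_ : Cyc A A0) =>
      ⁅Y ⊓ Subgroup.centralizer (A0 : Set G), A⁆) A0 h0
  refine le_trans ?_ (iSup₂_le hW : U ≤ W)
  have hN : ∀ A0, Cyc A A0 → A ⊔ (Y ⊓ Subgroup.centralizer (A : Set G)) ≤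
      Subgroup.normalizer ((⁅Y ⊓ Subgroup.centralizer (A0 : Set G), A⁆ : Subgroup G) : Set G) := fun A0 h0 => by
    refine sup_le (Subgroup.normalizer_commutator_ge_right _ _) ?_
    exact le_trans (inf_le_inf_left _ (Subgroup.centralizer_le h0.1))
      (Subgroup.normalizer_commutator_ge_left _ _)
  have hUN : A ⊔ (Y ⊓ Subgroup.centralizer (A : Set G)) ≤ Subgroup.normalizer (U : Set G) := by
    intro x hx
    refine Coprime.mem_normalizer_of_forall fun z hz => ?_
    have : U.map (MulAut.conj x).toMonoidHom ≤ U := by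
      refine Subgroup.map_le_iff_le_comap.2 (iSup₂_le fun A0 h0 => Subgroup.map_le_iff_le_comap.1 ?_)
      exact le_trans (le_of_eq (Coprime.conj_eq_of_mem_normalizer (hN A0 h0 hx))) (hUT A0 h0)
    exact this ⟨z, hz, rfl⟩
  have hYU : Y ≤ U ⊔ (Y ⊓ Subgroup.centralizer (A : Set G)) := by
    refine Coprime.le_of_cyclic_quotient hAY hcop fun A0 h0A h0 => ?_
    set Y0 := Y ⊓ Subgroup.centralizer (A0 : Set G)
    refine le_trans (Coprime.commutator_sup_centralizer (le_normalizer_inf hAY (le_normalizer_centralizer h0A))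
      (hcop.coprime_dvd_right (Subgroup.card_dvd_of_le inf_le_left)) (Or.inl (solv_comm A))).ge ?_
    exact sup_le_sup (hUT A0 ⟨h0A, h0⟩) (inf_le_inf_right _ inf_le_left)
  conv_lhs => rw [← hYA]
  refine le_trans (Subgroup.commutator_mono hYU le_rfl) ?_
  rw [Subgroup.commutator_le]
  intro y hy a ha
  obtain ⟨w, hw, c, hc, rfl⟩ := (Coprime.mem_sup_iff (le_sup_right.trans hUN)).1 hy
  have hca : a * c = c * a := hc.2 a ha
  have h1 : ⁅w * c, a⁆ = w * (a * w⁻¹ * a⁻¹) := by
    rw [commutatorElement_def]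
    calc w * c * a * (w * c)⁻¹ * a⁻¹ = w * (c * a) * c⁻¹ * w⁻¹ * a⁻¹ := by group
      _ = w * (a * c) * c⁻¹ * w⁻¹ * a⁻¹ := by rw [hca]
      _ = _ := by group
  rw [h1]
  exact mul_mem hw
    ((Subgroup.mem_normalizer_iff.1 (hUN (Subgroup.mem_sup_left ha)) _).1 (inv_mem hw))

/-- Transfer: a central element of the derived group lying in the Sylow subgroup `P` lies in every normal
subgroup of `P` with commutative quotient. -/
theorem mem_of_central {H : Type u} [Group H] [Finite H] {p : ℕ} [Fact p.Prime] (P : Sylow p H)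
    (K : Subgroup P) [K.Normal] (hK : commutator P ≤ K) (z : P) (hz : (z : H) ∈ Subgroup.center H)
    (hz' : (z : H) ∈ commutator H) : z ∈ K := by
  haveI hKc : IsMulCommutative (↥(P : Subgroup H) ⧸ K) :=
    (Subgroup.Normal.quotient_commutative_iff_commutator_le).2 hK
  letI : CommGroup (↥(P : Subgroup H) ⧸ K) :=
    { (inferInstance : Group (↥(P : Subgroup H) ⧸ K)) with mul_comm := fun a b => mul_comm' a b }
  set ρ := QuotientGroup.mk' K
  let V : H →* (↥(P : Subgroup H) ⧸ K) := MonoidHom.transfer ρ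
  have h1 : V (z : H) = 1 := Abelianization.commutator_subset_ker V hz'
  have h3 := MonoidHom.transfer_eq_pow ρ (z : H) (fun k g _ => by
    rw [mul_assoc, ← (Subgroup.mem_center_iff.mp ((Subgroup.center H).pow_mem hz k) g), inv_mul_cancel_left])
  have h2 : z ^ (P : Subgroup H).index ∈ K := by
    refine (QuotientGroup.eq_one_iff _).1 ?_
    rw [← h1]
    exact h3.symm
  exact Coprime.mem_of_pow_mem ((P.card_coprime_index).coprime_dvd_left (orderOf_dvd_natCard z)) h2

theorem core [Group.IsSolvable G] [IsMulCommutative A] [Y.Normal] (hcop : (Nat.card A).Coprime (Nat.card Y))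
    (hYA : ⁅Y, A⁆ = Y) (htop : Y ⊔ A = ⊤)
    (ih : ∀ (H : Type u) [Group H] [Finite H] (A' Y' : Subgroup H), Nat.card Y' < Nat.card Y →
      Group.IsSolvable Y' → IsMulCommutative A' → A' ≤ Subgroup.normalizer (Y' : Set H) →
      (Nat.card A').Coprime (Nat.card Y') → ⁅Y', A'⁆ = Y' →
      Y' ⊓ Subgroup.centralizer (A' : Set H) ≤ fixGen A' Y') :
    Y ⊓ Subgroup.centralizer (A : Set G) ≤ fixGen A Y := by
  classical
  have hAN : ∀ X : Subgroup G, X.Normal → A ≤ Subgroup.normalizer (X : Set G) := fun X hX => by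
    haveI := hX; rw [Subgroup.normalizer_eq_top X]; exact le_top
  have hAY := hAN Y inferInstance
  have hsolA : Group.IsSolvable A := solv_comm A
  set C := Y ⊓ Subgroup.centralizer (A : Set G) with hC
  set D := fixGen A Y with hDdef
  have hDC : D ≤ C := fixGen_le hAY
  have mk_normal : ∀ X : Subgroup G, Y ≤ Subgroup.normalizer (X : Set G) →
      A ≤ Subgroup.normalizer (X : Set G) → X.Normal := fun X h1 h2 =>
    Subgroup.normalizer_eq_top_iff.1 (top_le_iff.1 (htop ▸ sup_le h1 h2))
  -- proper invariant subgroups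
  have sub : ∀ Z : Subgroup G, Z ≤ Y → A ≤ Subgroup.normalizer (Z : Set G) → Z ≠ Y →
      ⁅Z, A⁆ ⊓ Subgroup.centralizer (A : Set G) ≤ D := by
    intro Z hZ hAZ hne
    have hZ' := Coprime.commutator_le_left' hAZ
    refine le_trans (ih G A ⁅Z, A⁆ (lt_of_le_of_lt (Subgroup.card_le_of_le hZ') ?_) inferInstance
      inferInstance (Subgroup.normalizer_commutator_ge_right Z A)
      (hcop.coprime_dvd_right (Subgroup.card_dvd_of_le (hZ'.trans hZ)))
      (Coprime.commutator_commutator_eq hAZ (hcop.coprime_dvd_right (Subgroup.card_dvd_of_le hZ))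
        (Or.inl hsolA))) (fixGen_mono (hZ'.trans hZ))
    exact (Subgroup.card_le_of_le hZ).lt_of_ne fun h => hne (Subgroup.eq_of_le_of_card_ge hZ h.ge)
  -- reduction modulo a normal subgroup
  have step : ∀ M : Subgroup G, M.Normal → M ≤ Y → M ≠ ⊥ → C ≤ D ⊔ (M ⊓ C) := by
    intro M hM hMY hMne
    set f := QuotientGroup.mk' M with hfdef
    have hfM : ∀ x : G, f x = 1 → x ∈ M := fun x hx => (QuotientGroup.eq_one_iff x).1 hx
    have feq : ∀ a b : G, a * b⁻¹ ∈ M → f a = f b := fun a b h => by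
      rw [← mul_inv_eq_one, ← map_inv, ← map_mul]
      exact (QuotientGroup.eq_one_iff _).2 h
    haveI : Group.IsSolvable (G ⧸ M) := solvable_of_surjective (QuotientGroup.mk'_surjective M)
    haveI : IsMulCommutative ↥(A.map f) := Subgroup.map_isMulCommutative A f
    have hAY' : A.map f ≤ Subgroup.normalizer ((Y.map f : Subgroup (G ⧸ M)) : Set (G ⧸ M)) := by
      haveI : (Y.map f).Normal := Subgroup.Normal.map inferInstance f (QuotientGroup.mk'_surjective M)
      rw [Subgroup.normalizer_eq_top (Y.map f)]; exact le_top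
    have hlt : Nat.card (Y.map f) < Nat.card Y := by
      refine Nat.lt_of_le_of_ne (Nat.le_of_dvd Nat.card_pos (Subgroup.card_map_dvd Y f)) fun he => ?_
      have hinj : Function.Injective (f.subgroupMap Y) :=
        ((Nat.bijective_iff_surjective_and_card _).2 ⟨f.subgroupMap_surjective Y, he.symm⟩).1
      obtain ⟨m, hm, hm1⟩ := (Subgroup.ne_bot_iff_exists_ne_one.1 hMne).elim fun m hm =>
        (⟨m, m.2, fun h => hm (Subtype.ext h)⟩ : ∃ m ∈ M, m ≠ 1)
      exact hm1 (congrArg Subtype.val (@hinj ⟨m, hMY hm⟩ 1 (Subtype.ext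
        (show f m = f 1 by rw [map_one]; exact (QuotientGroup.eq_one_iff m).2 hm))))
    have hq := ih (G ⧸ M) (A.map f) (Y.map f) hlt inferInstance inferInstance hAY'
      ((hcop.coprime_dvd_left (Subgroup.card_map_dvd A f)).coprime_dvd_right (Subgroup.card_map_dvd Y f))
      (by rw [← Subgroup.map_commutator, hYA])
    -- lift the generators
    have hlift : fixGen (A.map f) (Y.map f) ≤ D.map f := by
      refine iSup₂_le fun B0 hB0 => ?_
      set A0 := A ⊓ B0.comap f with hA0
      have hA0m : A0.map f = B0 := by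
        refine le_antisymm (by rintro _ ⟨a, ha, rfl⟩; exact ha.2) fun b hb => ?_
        obtain ⟨a, ha, rfl⟩ := hB0.1 hb
        exact ⟨a, ⟨ha, hb⟩, rfl⟩
      have h0 : Cyc A A0 := by
        obtain ⟨b, hb, hle⟩ := hB0.2
        obtain ⟨g, hg, rfl⟩ := hb
        replace hg : g ∈ A := hg
        refine ⟨inf_le_left, g, hg, fun a ha => ?_⟩
        have hz : Subgroup.zpowers (f g) ≤ Subgroup.normalizer (B0 : Set (G ⧸ M)) :=
          Subgroup.zpowers_le.2 (Coprime.mem_normalizer_of_forall fun x hx => by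
            rwa [setLike_mul_comm (Subgroup.mem_map_of_mem f hg) (hB0.1 hx), mul_inv_cancel_right])
        obtain ⟨x, hx, _, ⟨k, rfl⟩, e⟩ := (Coprime.mem_sup_iff hz).1 (hle (Subgroup.mem_map_of_mem f ha))
        have h1 : a * (g ^ k)⁻¹ ∈ A0 := Subgroup.mem_inf.2 ⟨mul_mem ha (inv_mem (zpow_mem hg k)), by
          show f (a * (g ^ k)⁻¹) ∈ B0
          rw [map_mul, map_inv, map_zpow, ← e]
          simpa using hx⟩
        rw [show a = a * (g ^ k)⁻¹ * g ^ k by group]
        exact Subgroup.mul_mem_sup h1 (zpow_mem (Subgroup.mem_zpowers g) k)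
      set Y0 := Y ⊓ Subgroup.centralizer (A0 : Set G) with hY0
      have hY0m : Y.map f ⊓ Subgroup.centralizer (B0 : Set (G ⧸ M)) ≤ Y0.map f := by
        rintro _ ⟨⟨y, hy, rfl⟩, hyc⟩
        obtain ⟨c, hc, hcy⟩ := Coprime.exists_mem_centralizer_of_coset (A := A0) (inf_le_left.trans hAY)
          (hcop.coprime_dvd_left (Subgroup.card_dvd_of_le inf_le_left))
          (Or.inl (Group.isSolvable_of_comm fun a b => Subtype.ext (setLike_mul_comm a.2.1 b.2.1)))
          hMY (inf_le_left.trans (hAN M hM)) hy (fun a ha => hfM _ (by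
            rw [map_mul, map_mul, map_mul, map_inv, map_inv, hyc (f a) ha.2, mul_inv_cancel_right,
              mul_inv_cancel]))
        exact ⟨c, hc, feq c y hcy⟩
      rintro x ⟨hx, hxC⟩
      have hx' : x ∈ ⁅Y0, A⁆.map f := by
        rw [Subgroup.map_commutator]; exact Subgroup.commutator_mono hY0m le_rfl hx
      obtain ⟨x, hx0, rfl⟩ := hx'
      set X := ⁅Y0, A⁆ with hXdef
      have hAX : A ≤ Subgroup.normalizer (X : Set G) := Subgroup.normalizer_commutator_ge_right _ _
      have hXY : X ≤ Y := (Subgroup.commutator_mono inf_le_left le_rfl).trans hYA.le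
      obtain ⟨c, hc, hcx⟩ := Coprime.exists_mem_centralizer_of_coset hAX
        (hcop.coprime_dvd_right (Subgroup.card_dvd_of_le hXY)) (Or.inl hsolA)
        (N := X ⊓ M) inf_le_left (le_normalizer_inf hAX (hAN M hM)) hx0 (fun a ha => Subgroup.mem_inf.2 ⟨
          mul_mem ((Subgroup.mem_normalizer_iff.1 (hAX ha) x).1 hx0) (inv_mem hx0),
          hfM _ (by rw [map_mul, map_mul, map_mul, map_inv, map_inv,
            hxC (f a) (Subgroup.mem_map_of_mem f ha), mul_inv_cancel_right, mul_inv_cancel])⟩)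
      exact ⟨c, le_fixGen h0 ⟨hc.1, hc.2⟩, feq c x hcx.2⟩
    intro c hc
    obtain ⟨d, hd, hdc⟩ := hlift (hq ⟨Subgroup.mem_map_of_mem f hc.1,
      map_centralizer_le f A (Subgroup.mem_map_of_mem f hc.2)⟩)
    have hm : d⁻¹ * c ∈ M := hfM _ (by rw [map_mul, map_inv, hdc, inv_mul_cancel])
    rw [show c = d * (d⁻¹ * c) by group]
    exact Subgroup.mul_mem_sup hd (Subgroup.mem_inf.2 ⟨hm, mul_mem (inv_mem (hDC hd)) hc⟩)
  by_contra hcon
  have hMC : ∀ M : Subgroup G, M.Normal → M ≤ Y → M ≠ ⊥ → ¬ M ⊓ C ≤ D := fun M h1 h2 h3 h =>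
    hcon ((step M h1 h2 h3).trans (sup_le le_rfl h))
  have hTY : ∀ A0, Cyc A A0 → ⁅Y ⊓ Subgroup.centralizer (A0 : Set G), A⁆ ≠ Y := fun A0 h0 h =>
    hcon (le_trans (le_inf (inf_le_left.trans h.ge) inf_le_right) (le_fixGen h0))
  -- minimal normal subgroups are central, fixed and meet `D` trivially
  have exists_min : ∀ R : Subgroup G, R.Normal → R ≤ Y → R ≠ ⊥ → ∃ M : Subgroup G, M.Normal ∧ M ≤ R ∧
      M ≠ ⊥ ∧ ∀ X : Subgroup G, X.Normal → X ≤ M → X ≠ ⊥ → X = M := by
    intro R hR _ hR1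
    obtain ⟨M, hM, hmin⟩ := (Set.toFinite {X : Subgroup G | X.Normal ∧ X ≤ R ∧ X ≠ ⊥}).exists_minimal
      ⟨R, hR, le_rfl, hR1⟩
    exact ⟨M, hM.1, hM.2.1, hM.2.2, fun X h1 h2 h3 =>
      le_antisymm h2 (hmin ⟨h1, h2.trans hM.2.1, h3⟩ h2)⟩
  have hmin : ∀ M : Subgroup G, M.Normal → M ≤ Y → M ≠ ⊥ →
      (∀ X : Subgroup G, X.Normal → X ≤ M → X ≠ ⊥ → X = M) →
      M ≤ Subgroup.centralizer (A : Set G) ∧ M ≤ Subgroup.centralizer (Y : Set G) ∧ M ⊓ D = ⊥ := by
    intro M hM hMY hM1 hMmin
    haveI := hM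
    haveI hMab : IsMulCommutative M := by
      refine ⟨⟨fun a b => Subtype.ext ?_⟩⟩
      have hlt := Group.IsSolvable.commutator_lt_of_ne_bot hM1
      have h0 : ⁅M, M⁆ = ⊥ := by
        by_contra h
        exact hlt.ne (hMmin _ (Subgroup.commutator_normal M M) hlt.le h)
      exact (Subgroup.mem_centralizer_iff.1
        ((Subgroup.commutator_eq_bot_iff_le_centralizer.1 h0) b.2) a a.2)
    have hcopM := hcop.coprime_dvd_right (Subgroup.card_dvd_of_le hMY)
    have hMAC := Coprime.abelian_inf_eq_bot (hAN M hM) hcopM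
    set K := (M ⊓ D) ⊔ ⁅M, A⁆ with hK
    have hMA := Coprime.commutator_le_left' (hAN M hM)
    have hKM : K ≤ M := sup_le inf_le_left hMA
    have hT : ∀ A0, Cyc A A0 →
        ⁅M, ⁅Y ⊓ Subgroup.centralizer (A0 : Set G), A⁆⁆ ≤ K := by
      intro A0 h0
      set Y0 := Y ⊓ Subgroup.centralizer (A0 : Set G) with hY0
      set T := ⁅Y0, A⁆ with hTdef
      have hAY0 : A ≤ Subgroup.normalizer (Y0 : Set G) :=
        le_normalizer_inf hAY (le_normalizer_centralizer h0.1)
      have hTY0 : T ≤ Y0 := Coprime.commutator_le_left' hAY0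
      have hAT : A ≤ Subgroup.normalizer (T : Set G) := Subgroup.normalizer_commutator_ge_right _ _
      by_cases hZ : M ⊔ T = Y
      · exfalso
        set M0 := M ⊓ Subgroup.centralizer (A0 : Set G) with hM0
        have hM0n : M0.Normal := by
          refine mk_normal _ ?_ (le_normalizer_inf (hAN M hM) (le_normalizer_centralizer h0.1))
          rw [← hZ]
          refine sup_le ?_ (le_normalizer_inf (by rw [Subgroup.normalizer_eq_top M]; exact le_top)
            ((hTY0.trans inf_le_right).trans Subgroup.le_normalizer))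
          intro m hm
          refine Coprime.mem_normalizer_of_forall fun z hz => ?_
          rwa [setLike_mul_comm hm hz.1, mul_inv_cancel_right]
        by_cases h1 : M0 = ⊥
        · refine hMC M hM hMY hM1 (le_trans ?_ bot_le (b := ⊥))
          rw [← h1]
          exact le_inf inf_le_left ((inf_le_right.trans inf_le_right).trans (Subgroup.centralizer_le h0.1))
        · refine hTY A0 h0 (le_antisymm (hTY0.trans inf_le_left) ?_)
          have hM0' := hMmin M0 hM0n inf_le_left h1
          conv_lhs => rw [← hYA]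
          refine Subgroup.commutator_mono (le_inf le_rfl ?_) le_rfl
          rw [← hZ]
          exact sup_le (hM0' ▸ inf_le_right) (hTY0.trans inf_le_right)
      · have hAZ : A ≤ Subgroup.normalizer ((M ⊔ T : Subgroup G) : Set G) := fun a ha =>
          Coprime.mem_normalizer_of_conj_eq (by
            rw [Subgroup.smul_sup, Coprime.conj_eq_of_mem_normalizer (hAN M hM ha),
              Coprime.conj_eq_of_mem_normalizer (hAT ha)])
        have hTT : ⁅T, A⁆ = T := Coprime.commutator_commutator_eq hAY0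
          (hcop.coprime_dvd_right (Subgroup.card_dvd_of_le inf_le_left)) (Or.inl hsolA)
        have hLZ : ⁅M, T⁆ ≤ ⁅M ⊔ T, A⁆ := by
          refine le_trans (Subgroup.commutator_mono le_rfl (hTT.ge.trans
            (Subgroup.commutator_mono (le_sup_right (a := M)) le_rfl))) ?_
          rw [Subgroup.commutator_comm]
          exact Subgroup.le_normalizer_iff_commutator_le_left.1
            (le_sup_left.trans (Subgroup.normalizer_commutator_ge_left _ _))
        have hLM : ⁅M, T⁆ ≤ M := Subgroup.commutator_le_left _ _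
        refine le_trans (Coprime.commutator_sup_centralizer (le_normalizer_commutator (hAN M hM) hAT)
          (hcopM.coprime_dvd_right (Subgroup.card_dvd_of_le hLM)) (Or.inl hsolA)).ge ?_
        refine sup_le ((Subgroup.commutator_mono hLM le_rfl).trans le_sup_right) (le_trans ?_ le_sup_left)
        exact le_inf (inf_le_left.trans hLM) (le_trans (inf_le_inf_right _ hLZ)
          (sub _ (sup_le hMY (hTY0.trans inf_le_left)) hAZ hZ))
    have hKn : K.Normal := by
      refine mk_normal K ?_ ?_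
      · refine le_trans (le_iSup_commutator hAY hcop hYA (W := Y ⊓ Subgroup.normalizer (K : Set G))
          inf_le_left fun A0 h0 => le_inf
            ((Subgroup.commutator_mono inf_le_left le_rfl).trans hYA.le) ?_) inf_le_right
        exact Subgroup.le_normalizer_iff_commutator_le_left.2
          ((Subgroup.commutator_mono hKM le_rfl).trans (hT A0 h0))
      · intro a ha
        refine Coprime.mem_normalizer_of_conj_eq ?_
        rw [hK, Subgroup.smul_sup, Coprime.conj_eq_of_mem_normalizer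
          (Subgroup.normalizer_commutator_ge_right M A ha), Subgroup.smul_inf,
          Coprime.conj_eq_of_mem_normalizer (hAN M hM ha)]
        congr 2
        refine Coprime.conj_eq_of_mem_normalizer (Coprime.mem_normalizer_of_forall fun z hz => ?_)
        rwa [(hDC hz).2 a ha, mul_inv_cancel_right]
    have hK0 : K = ⊥ := by
      by_contra h
      have hKeq := hMmin K hKn hKM h
      refine hMC M hM hMY hM1 fun c hc => ?_
      obtain ⟨d, hd, r, hr, rfl⟩ := (Coprime.mem_sup_iff (N := M ⊓ D) (H := ⁅M, A⁆)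
        (hMA.trans fun m hm => Coprime.mem_normalizer_of_forall fun z hz => by
          rwa [setLike_mul_comm hm hz.1, mul_inv_cancel_right])).1 (show c ∈ K by rw [hKeq]; exact hc.1)
      have hr1 : r = 1 := by
        have : r ∈ (M ⊓ Subgroup.centralizer (A : Set G)) ⊓ ⁅M, A⁆ := by
          refine ⟨⟨hMA hr, ?_⟩, hr⟩
          have := (Subgroup.centralizer (A : Set G)).mul_mem
            ((Subgroup.centralizer (A : Set G)).inv_mem (hDC hd.2).2) hc.2.2
          rwa [inv_mul_cancel_left] at this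
        rwa [hMAC, Subgroup.mem_bot] at this
      rw [hr1, mul_one]; exact hd.2
    refine ⟨Subgroup.commutator_eq_bot_iff_le_centralizer.1
      (le_bot_iff.1 (hK0 ▸ le_sup_right)), ?_, le_bot_iff.1 (hK0 ▸ le_sup_left)⟩
    have hYM : Y ≤ Y ⊓ Subgroup.centralizer (M : Set G) :=
      le_iSup_commutator hAY hcop hYA inf_le_left fun A0 h0 => le_inf
        ((Subgroup.commutator_mono inf_le_left le_rfl).trans hYA.le)
        (Subgroup.commutator_eq_bot_iff_le_centralizer.1 (by
          rw [Subgroup.commutator_comm]; exact le_bot_iff.1 ((hT A0 h0).trans hK0.le)))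
    intro m hm y hy
    exact ((hYM hy).2 m hm).symm
  have central_normal : ∀ X : Subgroup G, X ≤ Subgroup.centralizer (Y : Set G) →
      A ≤ Subgroup.normalizer (X : Set G) → X.Normal := fun X h1 h2 =>
    mk_normal X (fun y hy => Coprime.mem_normalizer_of_forall fun z hz => by
      rwa [h1 hz y hy, mul_inv_cancel_right]) h2
  -- choose one
  have hYne : Y ≠ ⊥ := fun h => hcon (by rw [hC, h, bot_inf_eq]; exact bot_le)
  obtain ⟨M, hM, hMY, hM1, hMmin⟩ := exists_min Y inferInstance le_rfl hYne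
  haveI := hM
  obtain ⟨hMA, hMZ, hMD⟩ := hmin M hM hMY hM1 hMmin
  -- it lies in the derived group
  have hMY' : M ≤ ⁅Y, Y⁆ := by
    intro m hm
    by_contra hne
    set W := ⁅Y, Y⁆
    set f := QuotientGroup.mk' W
    haveI : IsMulCommutative ↥(Y.map f) := ⟨⟨by
      rintro ⟨_, x, hx, rfl⟩ ⟨_, y, hy, rfl⟩
      refine Subtype.ext (commutatorElement_eq_one_iff_mul_comm.1 ?_)
      rw [← map_commutatorElement]
      exact (QuotientGroup.eq_one_iff _).2 (Subgroup.commutator_mem_commutator hx hy)⟩⟩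
    haveI : (Y.map f).Normal := Subgroup.Normal.map inferInstance f (QuotientGroup.mk'_surjective W)
    have h := Coprime.abelian_inf_eq_bot (A := A.map f) (V := Y.map f)
      (by rw [Subgroup.normalizer_eq_top (Y.map f)]; exact le_top)
      ((hcop.coprime_dvd_left (Subgroup.card_map_dvd A f)).coprime_dvd_right (Subgroup.card_map_dvd Y f))
    rw [← Subgroup.map_commutator, hYA] at h
    have : f m ∈ (⊥ : Subgroup (G ⧸ W)) := h ▸ ⟨⟨Subgroup.mem_map_of_mem f (hMY hm),
      map_centralizer_le f A (Subgroup.mem_map_of_mem f (hMA hm))⟩, Subgroup.mem_map_of_mem f (hMY hm)⟩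
    exact hne ((QuotientGroup.eq_one_iff m).1 (Subgroup.mem_bot.1 this))
  -- it has prime order
  obtain ⟨p, hp, hpM⟩ := Nat.exists_prime_and_dvd (fun h => hM1 (Subgroup.card_eq_one.1 h))
  haveI := Fact.mk hp
  obtain ⟨m0, hm0⟩ := exists_prime_orderOf_dvd_card' (G := M) p hpM
  have hMeq : Subgroup.zpowers (m0 : G) = M := hMmin _ (central_normal _
    (Subgroup.zpowers_le.2 (hMZ m0.2)) (fun a ha => Coprime.mem_normalizer_of_forall fun z hz => by
      rwa [hMA (Subgroup.zpowers_le.2 m0.2 hz) a ha, mul_inv_cancel_right]))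
    (Subgroup.zpowers_le.2 m0.2) (fun h => hp.ne_one (by
      rw [← hm0, ← Subgroup.orderOf_coe, orderOf_eq_one_iff.2 (Subgroup.zpowers_eq_bot.1 h)]))
  have hMp : IsPGroup p M := IsPGroup.of_card (n := 1) (by
    rw [← hMeq, Nat.card_zpowers, Subgroup.orderOf_coe, hm0, pow_one])
  obtain ⟨P, hP⟩ := Coprime.exists_invariant_sylow hAY hcop (Or.inl hsolA) p
  set S := (P : Subgroup Y).map Y.subtype with hS
  have hSY : S ≤ Y := Subgroup.map_subtype_le _
  have hMS : M ≤ S := by
    intro m hm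
    haveI : (M.subgroupOf Y).Normal := Subgroup.normal_subgroupOf
    have hsup : IsPGroup p ↥((P : Subgroup Y) ⊔ M.subgroupOf Y) :=
      IsPGroup.to_sup_of_normal_right P.2 (hMp.of_equiv (Subgroup.subgroupOfEquivOfLe hMY).symm)
    exact ⟨⟨m, hMY hm⟩, (P.3 hsup le_sup_left) ▸ Subgroup.mem_sup_right hm, rfl⟩
  by_cases hSY' : S = Y
  · -- `Y` is a `p`-group
    have hYp : IsPGroup p Y := by
      rw [← hSY']
      exact P.2.map _
    set f := QuotientGroup.mk' M
    haveI : (Y.map f).Normal := Subgroup.Normal.map inferInstance f (QuotientGroup.mk'_surjective M)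
    set R := Y ⊓ (Subgroup.centralizer ((Y.map f : Subgroup (G ⧸ M)) : Set (G ⧸ M))).comap f with hR
    haveI hRn : R.Normal := inferInstance
    have hRc : ∀ r ∈ R, ∀ y ∈ Y, ⁅r, y⁆ ∈ M := fun r hr y hy => by
      refine (QuotientGroup.eq_one_iff _).1 ?_
      show f ⁅r, y⁆ = 1
      rw [map_commutatorElement, commutatorElement_eq_one_iff_mul_comm]
      exact (hr.2 (f y) (Subgroup.mem_map_of_mem f hy)).symm
    have hYMne : ¬ Y ≤ M := fun h => by
      refine hYne ?_
      rw [← hYA]
      exact Subgroup.commutator_eq_bot_iff_le_centralizer.2 (h.trans hMA)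
    haveI : Nontrivial ↥(Y.map f) := by
      rw [Subgroup.nontrivial_iff_ne_bot]
      intro h
      rw [Subgroup.map_eq_bot_iff, QuotientGroup.ker_mk'] at h
      exact hYMne h
    haveI := (hYp.map f).center_nontrivial
    obtain ⟨z, hz1⟩ := exists_ne (1 : Subgroup.center ↥(Y.map f))
    obtain ⟨y0, hy0, hy0z⟩ := z.1.2
    have hy0R : y0 ∈ R := ⟨hy0, fun w hw => by
      rw [hy0z]
      exact congrArg Subtype.val (Subgroup.mem_center_iff.1 z.2 ⟨w, hw⟩)⟩
    have hy0M : y0 ∉ M := fun h => hz1 (Subtype.ext (Subtype.ext (by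
      rw [← hy0z]; exact (QuotientGroup.eq_one_iff _).2 h)))
    have hRY : R ≤ Y := inf_le_left
    -- commuting
    have hkey : ∀ r y : G, r ∈ R → y ∈ Y → ∀ a ∈ A, a * r * a⁻¹ = r →
        y⁻¹ * (a * y * a⁻¹) ∈ Subgroup.centralizer {r} := by
      intro r y hr hy a ha har
      have hy' : a * y * a⁻¹ ∈ Y := (Subgroup.mem_normalizer_iff.1 (hAY ha) y).1 hy
      have h1 : a * ⁅r, y⁆ * a⁻¹ = ⁅r, y⁆ := by
        rw [hMA (hRc r hr y hy) a ha, mul_inv_cancel_right]
      have h2 : ⁅r, a * y * a⁻¹⁆ = ⁅r, y⁆ := by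
        conv_rhs => rw [← h1]
        conv_lhs => rw [← har]
        simp only [commutatorElement_def]
        group
      simp only [commutatorElement_def] at h2
      rw [Subgroup.mem_centralizer_singleton_iff]
      generalize a * y * a⁻¹ = y' at h2 ⊢
      have h3 : y' * r⁻¹ * y'⁻¹ = y * r⁻¹ * y⁻¹ := by
        apply mul_left_cancel (a := r)
        simpa [mul_assoc] using h2
      have h4 : y' * r * y'⁻¹ = y * r * y⁻¹ := by
        have := congrArg (·⁻¹) h3
        simpa [mul_assoc] using this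
      calc y⁻¹ * y' * r = y⁻¹ * (y' * r * y'⁻¹) * y' := by group
        _ = y⁻¹ * (y * r * y⁻¹) * y' := by rw [h4]
        _ = r * (y⁻¹ * y') := by group
    -- fixed elements of `R` are central
    have hRA : R ⊓ Subgroup.centralizer (A : Set G) ≤ Subgroup.centralizer (Y : Set G) := by
      intro c hc
      have h : ⁅Y, A⁆ ≤ Subgroup.centralizer {c} := by
        rw [Subgroup.commutator_le]
        intro y hy a ha
        have := inv_mem (hkey c y⁻¹ hc.1 (inv_mem hy) a ha (by rw [hc.2 a ha, mul_inv_cancel_right]))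
        have e : ⁅y, a⁆ = (y⁻¹⁻¹ * (a * y⁻¹ * a⁻¹)) := by rw [commutatorElement_def]; group
        rw [e]
        exact inv_mem_iff.1 this
      rw [hYA] at h
      intro y hy
      exact Subgroup.mem_centralizer_singleton_iff.1 (h hy)
    -- some element of `[C_R(A₀), A]` is not central
    by_cases hall : ∀ A0, Cyc A A0 →
        ⁅R ⊓ Subgroup.centralizer (A0 : Set G), A⁆ ≤ Subgroup.centralizer (Y : Set G)
    · have hcopR := hcop.coprime_dvd_right (Subgroup.card_dvd_of_le hRY)
      have hRcent : R ≤ Subgroup.centralizer (Y : Set G) := by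
        refine Coprime.le_of_cyclic_quotient (hAN R hRn) hcopR fun A0 h0 hc0 => ?_
        refine le_trans (Coprime.commutator_sup_centralizer
          (le_normalizer_inf (hAN R hRn) (le_normalizer_centralizer h0))
          (hcopR.coprime_dvd_right (Subgroup.card_dvd_of_le inf_le_left)) (Or.inl hsolA)).ge ?_
        exact sup_le (hall A0 ⟨h0, hc0⟩) ((inf_le_inf_right _ inf_le_left).trans hRA)
      haveI : IsMulCommutative R := ⟨⟨fun a b => Subtype.ext ((hRcent b.2 a (hRY a.2)))⟩⟩
      have hRA1 : R ≤ Subgroup.centralizer (A : Set G) := by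
        rw [← Subgroup.commutator_eq_bot_iff_le_centralizer]
        by_contra h
        have hle := Coprime.commutator_le_left' (hAN R hRn)
        obtain ⟨M', hM', hM'R, hM'1, hM'min⟩ := exists_min ⁅R, A⁆
          (central_normal _ (hle.trans hRcent) (Subgroup.normalizer_commutator_ge_right _ _))
          (hle.trans hRY) h
        refine hM'1 (le_bot_iff.1 ?_)
        rw [← Coprime.abelian_inf_eq_bot (hAN R hRn) hcopR]
        exact le_inf (le_inf (hM'R.trans hle) (hmin M' hM' (hM'R.trans (hle.trans hRY)) hM'1 hM'min).1) hM'R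
      have hRD : R ⊓ D = ⊥ := by
        by_contra h
        have hn : (R ⊓ D).Normal := central_normal _ (inf_le_left.trans hRcent)
          (fun a ha => Coprime.mem_normalizer_of_forall fun z hz => by
            rwa [hRA1 hz.1 a ha, mul_inv_cancel_right])
        obtain ⟨M', hM', hM'R, hM'1, hM'min⟩ := exists_min (R ⊓ D) hn (inf_le_left.trans hRY) h
        have := (hmin M' hM' (hM'R.trans (inf_le_left.trans hRY)) hM'1 hM'min).2.2
        rw [inf_eq_left.2 (hM'R.trans inf_le_right)] at this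
        exact hM'1 this
      obtain ⟨d, hd, m, hm, hdm⟩ := Subgroup.mem_sup_of_normal_right.1
        (sup_le_sup_left inf_le_left D (step M hM hMY hM1 ⟨hy0, hRA1 hy0R⟩))
      have hdR : d ∈ R := by
        rw [show d = y0 * m⁻¹ by rw [← hdm, mul_inv_cancel_right]]
        refine mul_mem hy0R (inv_mem ⟨hMY hm, ?_⟩)
        intro w _
        show w * f m = f m * w
        rw [show f m = 1 from (QuotientGroup.eq_one_iff m).2 hm, mul_one, one_mul]
      have hd1 : d = 1 := Subgroup.mem_bot.1 (hRD ▸ ⟨hdR, hd⟩)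
      exact hy0M (by rw [← hdm, hd1, one_mul]; exact hm)
    · simp only [not_forall, SetLike.not_le_iff_exists] at hall
      obtain ⟨A0, h0, r, hrT, hrn⟩ := hall
      set Y0 := Y ⊓ Subgroup.centralizer (A0 : Set G) with hY0
      have hr0 : r ∈ R ⊓ Subgroup.centralizer (A0 : Set G) := Coprime.commutator_le_left'
        (le_normalizer_inf (hAN R hRn) (le_normalizer_centralizer h0.1)) hrT
      obtain ⟨y, hy, hry⟩ : ∃ y ∈ Y, ¬ y * r = r * y := by
        by_contra h
        exact hrn fun y hy => by_contra fun e => h ⟨y, hy, e⟩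
      set N := Y ⊓ Subgroup.centralizer {r} with hN
      have hA0N : A0 ≤ Subgroup.normalizer (N : Set G) := by
        refine le_normalizer_inf (h0.1.trans hAY) fun a ha => ?_
        refine Coprime.mem_normalizer_of_forall fun z hz => ?_
        rw [Subgroup.mem_centralizer_singleton_iff] at hz ⊢
        have har : a * r = r * a := hr0.2 a ha
        calc a * z * a⁻¹ * r = a * z * (a⁻¹ * r * a) * a⁻¹ := by group
          _ = a * (z * r) * a⁻¹ := by rw [mul_assoc a⁻¹ r a, ← har, inv_mul_cancel_left]; group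
          _ = a * (r * z) * a⁻¹ := by rw [hz]
          _ = r * (a * z * a⁻¹) := by rw [← mul_assoc a r z, har]; group
      obtain ⟨c, hc, hcy⟩ := Coprime.exists_mem_centralizer_of_coset' (h0.1.trans hAY)
        (hcop.coprime_dvd_left (Subgroup.card_dvd_of_le h0.1))
        (Or.inl (Group.isSolvable_of_comm fun a b =>
          Subtype.ext (setLike_mul_comm (h0.1 a.2) (h0.1 b.2))))
        (N := N) inf_le_left hA0N hy (fun a ha => ⟨by
          have := mul_mem (inv_mem hy) ((Subgroup.mem_normalizer_iff.1 (hAY (h0.1 ha)) y).1 hy)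
          simpa [mul_assoc] using this, by
          have := hkey r y hr0.1 hy a (h0.1 ha) (by rw [hr0.2 a ha, mul_inv_cancel_right])
          simpa [mul_assoc] using this⟩)
      have hcr : ¬ c * r = r * c := fun h => hry (by
        have h1 := Subgroup.mem_centralizer_singleton_iff.1 hcy.2
        calc y * r = c * (y⁻¹ * c)⁻¹ * r := by group
          _ = c * r * (y⁻¹ * c)⁻¹ := by
              rw [mul_assoc, mul_assoc, ((show Commute (y⁻¹ * c) r from h1).inv_left).eq]
          _ = r * c * (y⁻¹ * c)⁻¹ := by rw [h]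
          _ = r * y := by group)
      have hrT' : r ∈ ⁅Y0, A⁆ := Subgroup.commutator_mono (inf_le_inf_right _ hRY) le_rfl hrT
      have hmem : ⁅r, c⁆ ∈ ⁅Y0, A⁆ := by
        rw [commutatorElement_def, mul_assoc r c, mul_assoc]
        exact mul_mem hrT' ((Subgroup.mem_normalizer_iff.1
          (Subgroup.normalizer_commutator_ge_left Y0 A ⟨hc.1, hc.2⟩) _).1 (inv_mem hrT'))
      have hM' := hRc r hr0.1 c hc.1
      have hD' : ⁅r, c⁆ ∈ D := le_fixGen h0 ⟨hmem, hMA hM'⟩
      exact hcr (commutatorElement_eq_one_iff_mul_comm.1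
        (Subgroup.mem_bot.1 (hMD ▸ ⟨hM', hD'⟩ : ⁅r, c⁆ ∈ (⊥ : Subgroup G)))).symm
  · -- transfer
    have hAS : A ≤ Subgroup.normalizer (S : Set G) := hP
    have hsubS := sub S hSY hAS hSY'
    set CS := S ⊓ Subgroup.centralizer (A : Set G) with hCS
    set K := (CS ⊓ D) ⊔ ⁅S, A⁆ with hK
    have hSA := Coprime.commutator_le_left' hAS
    have hsup := Coprime.commutator_sup_centralizer hAS
      (hcop.coprime_dvd_right (Subgroup.card_dvd_of_le hSY)) (Or.inl hsolA)
    have hCSC : CS ≤ C := inf_le_inf_right _ hSY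
    have hCSK : CS ≤ Subgroup.normalizer (K : Set G) := fun c hc => by
      refine Coprime.mem_normalizer_of_conj_eq ?_
      rw [hK, Subgroup.smul_sup, Subgroup.smul_inf,
        Coprime.conj_eq_of_mem_normalizer (Subgroup.le_normalizer hc),
        Coprime.conj_eq_of_mem_normalizer (centralizer_le_normalizer_fixGen hAY (hCSC hc)),
        Coprime.conj_eq_of_mem_normalizer (Subgroup.normalizer_commutator_ge_left S A hc.1)]
    have hKS : K ≤ S := sup_le (inf_le_left.trans inf_le_left) hSA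
    have hdec : S ≤ K ⊔ M := by
      rw [← hsup]
      refine sup_le (le_sup_of_le_left le_sup_right) fun c hc => ?_
      obtain ⟨d, hd, m, hm, e⟩ := Subgroup.mem_sup_of_normal_right.1
        (sup_le_sup_left inf_le_left D (step M hM hMY hM1 (hCSC hc)))
      rw [← e]
      refine Subgroup.mul_mem_sup (Subgroup.mem_sup_left ⟨⟨?_, (hDC hd).2⟩, hd⟩) hm
      have := S.mul_mem hc.1 (S.inv_mem (hMS hm))
      rwa [← e, mul_inv_cancel_right] at this
    have hSK : S ≤ Subgroup.normalizer (K : Set G) := by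
      rw [← hsup]
      exact sup_le (le_sup_right.trans Subgroup.le_normalizer) hCSK
    have hcommK : ⁅S, S⁆ ≤ K := by
      rw [Subgroup.commutator_le]
      intro a ha b hb
      obtain ⟨k, hk, m, hm, rfl⟩ := Subgroup.mem_sup_of_normal_right.1 (hdec ha)
      obtain ⟨k', hk', m', hm', rfl⟩ := Subgroup.mem_sup_of_normal_right.1 (hdec hb)
      have c1 : ∀ x ∈ Y, Commute m x := fun x hx => (hMZ hm x hx).symm
      have c2 : ∀ x ∈ Y, Commute m' x := fun x hx => (hMZ hm' x hx).symm
      have hkY := hSY (hKS hk)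
      have hkY' := hSY (hKS hk')
      have e : ⁅k * m, k' * m'⁆ = ⁅k, k'⁆ := by
        simp only [commutatorElement_def]
        calc k * m * (k' * m') * (k * m)⁻¹ * (k' * m')⁻¹
            = k * ((m * k') * (m' * m⁻¹)) * k⁻¹ * (m'⁻¹ * k'⁻¹) := by group
          _ = k * ((k' * m) * (m⁻¹ * m')) * k⁻¹ * (m'⁻¹ * k'⁻¹) := by
              rw [(c1 k' hkY').eq, ((c1 m' (hMY hm')).inv_left).eq]
          _ = k * k' * (m' * k⁻¹) * (m'⁻¹ * k'⁻¹) := by group
          _ = k * k' * (k⁻¹ * m') * (m'⁻¹ * k'⁻¹) := by rw [(c2 k⁻¹ (inv_mem hkY)).eq]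
          _ = _ := by group
      rw [e, commutatorElement_def]
      exact mul_mem (mul_mem (mul_mem hk hk') (inv_mem hk)) (inv_mem hk')
    let KP : Subgroup (P : Subgroup Y) := (K.subgroupOf Y).subgroupOf (P : Subgroup Y)
    have hKPm : ∀ x : (P : Subgroup Y), x ∈ KP ↔ ((x : Y) : G) ∈ K := fun x => Iff.rfl
    have hPS : ∀ x : (P : Subgroup Y), ((x : Y) : G) ∈ S := fun x => ⟨(x : Y), x.2, rfl⟩
    haveI : KP.Normal := ⟨fun n hn g => by
      rw [hKPm] at hn ⊢
      exact (Subgroup.mem_normalizer_iff.1 (hSK (hPS g)) _).1 hn⟩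
    have hKP : commutator (P : Subgroup Y) ≤ KP := by
      rw [commutator_def, Subgroup.commutator_le]
      intro a _ b _
      rw [hKPm]
      exact hcommK (Subgroup.commutator_mem_commutator (hPS a) (hPS b))
    obtain ⟨x, hx, hxm⟩ := hMS m0.2
    have hmK : (m0 : G) ∈ K := by
      rw [← hxm]
      refine (hKPm ⟨x, hx⟩).1 (mem_of_central P KP hKP ⟨x, hx⟩ ?_ ?_)
      · refine Subgroup.mem_center_iff.2 fun y => Subtype.ext ?_
        have := hMZ m0.2 (y : G) y.2
        rw [← hxm] at this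
        exact this
      · have h1 : x ∈ ⁅Y, Y⁆.subgroupOf Y := by
          rw [Subgroup.mem_subgroupOf, show (x : G) = m0 from hxm]; exact hMY' m0.2
        rwa [← Subgroup.map_subtype_commutator, Subgroup.subgroupOf,
          Subgroup.comap_map_eq_self_of_injective Y.subtype_injective] at h1
    rw [hK, sup_comm] at hmK
    obtain ⟨r, hr, d, hd, e⟩ := (Coprime.mem_sup_iff (N := ⁅S, A⁆) (H := CS ⊓ D)
      ((inf_le_left.trans inf_le_left).trans (Subgroup.normalizer_commutator_ge_left S A))).1 hmK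
    have hrD : r ∈ D := hsubS ⟨hr, by
      have := mul_mem (hMA m0.2) (inv_mem (hDC hd.2).2)
      rwa [← e, mul_inv_cancel_right] at this⟩
    have : (m0 : G) ∈ M ⊓ D := ⟨m0.2, e ▸ mul_mem hrD hd.2⟩
    rw [hMD, Subgroup.mem_bot] at this
    exact hp.ne_one (by rw [← hm0, ← Subgroup.orderOf_coe, this, orderOf_one])

/-- `C_Y(A)` is generated by the `[C_Y(A₀), A] ∩ C(A)`. -/
theorem centralizer_le_fixGen : ∀ (n : ℕ) (G : Type u) [Group G] [Finite G] (A Y : Subgroup G),
    Nat.card Y = n → Group.IsSolvable Y → IsMulCommutative A → A ≤ Subgroup.normalizer (Y : Set G) →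
    (Nat.card A).Coprime (Nat.card Y) → ⁅Y, A⁆ = Y →
    Y ⊓ Subgroup.centralizer (A : Set G) ≤ fixGen A Y := by
  intro n
  induction n using Nat.strong_induction_on with
  | _ n ih =>
  intro G _ _ A Y hn hY hA hAY hcop hYA
  set H := Y ⊔ A with hH
  set Y' := Y.subgroupOf H with hY'
  set A' := A.subgroupOf H with hA'
  have hmY : Y'.map H.subtype = Y := by
    rw [hY', Subgroup.subgroupOf_map_subtype, inf_eq_left.2 le_sup_left]
  have hmA : A'.map H.subtype = A := by
    rw [hA', Subgroup.subgroupOf_map_subtype, inf_eq_left.2 le_sup_right]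
  have eY := Subgroup.subgroupOfEquivOfLe (le_sup_left : Y ≤ H)
  have eA := Subgroup.subgroupOfEquivOfLe (le_sup_right : A ≤ H)
  have hcY : Nat.card Y' = Nat.card Y := Nat.card_congr eY.toEquiv
  have hcA : Nat.card A' = Nat.card A := Nat.card_congr eA.toEquiv
  haveI : Y'.Normal := by
    rw [hY', Subgroup.normal_subgroupOf_iff_le_normalizer le_sup_left]
    exact sup_le Subgroup.le_normalizer hAY
  haveI : IsMulCommutative A' := ⟨⟨fun a b => Subtype.ext (Subtype.ext
    (setLike_mul_comm (show ((a : H) : G) ∈ A from a.2) (show ((b : H) : G) ∈ A from b.2)))⟩⟩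
  have htop : Y' ⊔ A' = ⊤ := by
    rw [hY', hA', ← Subgroup.subgroupOf_sup le_sup_left le_sup_right, Subgroup.subgroupOf_self]
  haveI : Group.IsSolvable Y' := solvable_of_surjective (f := eY.symm.toMonoidHom) eY.symm.surjective
  haveI : Group.IsSolvable A' := solv_comm A'
  haveI : Group.IsSolvable (H ⧸ Y') := by
    refine solvable_of_surjective (f := (QuotientGroup.mk' Y').comp A'.subtype) fun q => ?_
    obtain ⟨h, rfl⟩ := QuotientGroup.mk_surjective q
    have hh : h ∈ A' ⊔ Y' := by rw [sup_comm, htop]; exact Subgroup.mem_top h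
    obtain ⟨a, ha, y, hy, e⟩ := Subgroup.mem_sup_of_normal_right.1 hh
    refine ⟨⟨a, ha⟩, ?_⟩
    show (QuotientGroup.mk' Y') a = _
    rw [QuotientGroup.mk'_apply, QuotientGroup.eq, ← e]
    simpa using hy
  haveI : Group.IsSolvable H :=
    Group.isSolvable_of_ker_le_range Y'.subtype (QuotientGroup.mk' Y') (by simp)
  have hcomm : ⁅Y', A'⁆ = Y' := Subgroup.map_injective H.subtype_injective
    (by rw [Subgroup.map_commutator, hmY, hmA, hYA])
  have h := core (A := A') (Y := Y') (by rw [hcY, hcA]; exact hcop) hcomm htop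
    (fun K _ _ A'' Y'' hlt => ih (Nat.card Y'') (by rw [hcY] at hlt; omega) K A'' Y'' rfl)
  intro c hc
  have hcH : c ∈ H := Subgroup.mem_sup_left hc.1
  have := map_fixGen_le H.subtype A' Y' ⟨⟨c, hcH⟩, h ⟨hc.1, fun a ha => Subtype.ext (hc.2 a ha)⟩, rfl⟩
  rwa [hmA, hmY] at this

/-- `C_Y(B) = ⟨C_Y(B) ∩ [C_Y(B₀), A]⟩` for `B ≤ A`. -/
theorem inf_centralizer_eq_iSup [IsMulCommutative A] (hY : Group.IsSolvable Y)
    (hAY : A ≤ Subgroup.normalizer (Y : Set G)) (hcop : (Nat.card A).Coprime (Nat.card Y))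
    (hYA : ⁅Y, A⁆ = Y) {B : Subgroup G} (hB : B ≤ A) :
    Y ⊓ Subgroup.centralizer (B : Set G) =
      ⨆ B₀ : {B₀ : Subgroup G // B₀ ≤ B ∧ ∀ [(B₀.subgroupOf B).Normal], IsCyclic (↥B ⧸ B₀.subgroupOf B)},
        Y ⊓ Subgroup.centralizer (B : Set G) ⊓
          ⁅Y ⊓ Subgroup.centralizer ((B₀ : Subgroup G) : Set G), A⁆ := by
  refine le_antisymm ?_ (iSup_le fun _ => inf_le_left)
  set X := Y ⊓ Subgroup.centralizer (B : Set G) with hX
  set I := {B₀ : Subgroup G // B₀ ≤ B ∧ ∀ [(B₀.subgroupOf B).Normal], IsCyclic (↥B ⧸ B₀.subgroupOf B)}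
  have term : ∀ i : I, X ⊓ ⁅Y ⊓ Subgroup.centralizer ((i : Subgroup G) : Set G), A⁆ ≤
      ⨆ i : I, X ⊓ ⁅Y ⊓ Subgroup.centralizer ((i : Subgroup G) : Set G), A⁆ := fun i =>
    le_iSup (f := fun i : I => X ⊓ ⁅Y ⊓ Subgroup.centralizer ((i : Subgroup G) : Set G), A⁆) i
  have hAX : A ≤ Subgroup.normalizer (X : Set G) := le_normalizer_inf hAY (le_normalizer_centralizer hB)
  refine le_trans (Coprime.commutator_sup_centralizer hAX
    (hcop.coprime_dvd_right (Subgroup.card_dvd_of_le inf_le_left)) (Or.inl (solv_comm A))).ge ?_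
  refine sup_le ?_ ?_
  · refine le_trans (le_inf (Coprime.commutator_le_left' hAX) le_rfl) (term ⟨B, le_rfl, ?_⟩)
    intro _
    haveI : Subsingleton (↥B ⧸ B.subgroupOf B) := by
      rw [Subgroup.subgroupOf_self]; exact QuotientGroup.subsingleton_quotient_top
    exact isCyclic_of_subsingleton
  refine le_trans (le_trans (inf_le_inf_right _ inf_le_left)
    (centralizer_le_fixGen _ G A Y rfl hY inferInstance hAY hcop hYA)) (iSup₂_le fun A0 h0 => ?_)
  have hi : A0 ⊓ B ≤ B ∧ ∀ [((A0 ⊓ B).subgroupOf B).Normal], IsCyclic (↥B ⧸ (A0 ⊓ B).subgroupOf B) := by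
    refine ⟨inf_le_right, ?_⟩
    intro _
    haveI : (A0.subgroupOf A).Normal := ⟨fun n hn g => by
      rwa [mul_comm' g n, mul_inv_cancel_right]⟩
    haveI hcA : IsCyclic (↥A ⧸ A0.subgroupOf A) := by
      obtain ⟨g, hg, hle⟩ := h0.2
      refine ⟨⟨QuotientGroup.mk ⟨g, hg⟩, fun q => ?_⟩⟩
      obtain ⟨⟨a, ha⟩, rfl⟩ := QuotientGroup.mk_surjective q
      have hz : Subgroup.zpowers g ≤ Subgroup.normalizer (A0 : Set G) :=
        Subgroup.zpowers_le.2 (Coprime.mem_normalizer_of_forall fun x hx => by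
          rwa [setLike_mul_comm hg (h0.1 hx), mul_inv_cancel_right])
      obtain ⟨x, hx, _, ⟨k, rfl⟩, e⟩ := (Coprime.mem_sup_iff hz).1 (hle ha)
      refine ⟨k, ?_⟩
      show (QuotientGroup.mk ⟨g, hg⟩ : ↥A ⧸ A0.subgroupOf A) ^ k = _
      rw [← QuotientGroup.mk_zpow, QuotientGroup.eq, Subgroup.mem_subgroupOf]
      have h1 : (g ^ k)⁻¹ * a = x := by
        rw [← e, ← mul_assoc, setLike_mul_comm (inv_mem (zpow_mem hg k)) (h0.1 hx), mul_assoc,
          inv_mul_cancel, mul_one]
      simpa [h1] using hx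
    let φ : (↥B ⧸ (A0 ⊓ B).subgroupOf B) →* (↥A ⧸ A0.subgroupOf A) :=
      QuotientGroup.map _ _ (Subgroup.inclusion hB) (fun x hx => hx.1)
    refine isCyclic_of_injective φ ((injective_iff_map_eq_one φ).2 fun q hq => ?_)
    obtain ⟨b, rfl⟩ := QuotientGroup.mk_surjective q
    change (QuotientGroup.mk (Subgroup.inclusion hB b) : ↥A ⧸ A0.subgroupOf A) = 1 at hq
    rw [QuotientGroup.eq_one_iff] at hq
    exact (QuotientGroup.eq_one_iff b).2 ⟨hq, b.2⟩
  refine le_trans (le_inf ?_ ?_) (term ⟨A0 ⊓ B, hi⟩)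
  · refine le_inf (inf_le_left.trans ?_) (inf_le_right.trans (Subgroup.centralizer_le hB))
    exact (Subgroup.commutator_mono inf_le_left le_rfl).trans hYA.le
  · exact inf_le_left.trans (Subgroup.commutator_mono
      (inf_le_inf_left _ (Subgroup.centralizer_le inf_le_left)) le_rfl)

end Cfsg.Agent.Solvable.CommFixed
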