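import Cfsg.Agent.Lib.Solvable.Fitting
import Cfsg.Agent.Lib.Cores.Fitting
import Cfsg.Agent.Lib.Frobenius.Structure

/-!
# Solvable groups with disconnected prime graph (owner: helper2)

* `NoMix A G`, `exists_frobenius_of_noMix`, `frobenius_or_twoFrobenius` (Gruenberg–Kegel)
-/

open Pointwise

namespace Cfsg.Agent.Solvable

universe u

variable {G : Type u} [Group G]

/-- No element has order `a * b` with a prime `a ∈ A` and a prime `b ∉ A`. -/
def NoMix (A : Set ℕ) (G : Type u) [Group G] : Prop :=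
  ∀ a b : ℕ, a.Prime → b.Prime → a ∈ A → b ∉ A → ∀ g : G, orderOf g ≠ a * b

theorem NoMix.compl {A : Set ℕ} (h : NoMix A G) : NoMix Aᶜ G :=
  fun a b ha hb haA hbA g e => h b a hb ha (not_not.1 hbA) haA g (e.trans (mul_comm a b))

theorem NoMix.subgroup {A : Set ℕ} (h : NoMix A G) (L : Subgroup G) : NoMix A L :=
  fun a b ha hb haA hbA g e => h a b ha hb haA hbA g (by rwa [Subgroup.orderOf_coe])

theorem NoMix.quotient [Finite G] {A : Set ℕ} (h : NoMix A G) (N : Subgroup G) [N.Normal] :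
    NoMix A (G ⧸ N) := by
  intro a b ha hb haA hbA x e
  obtain ⟨g, rfl⟩ := QuotientGroup.mk'_surjective N x
  have hd : a * b ∣ orderOf g := e ▸ orderOf_map_dvd (QuotientGroup.mk' N) g
  exact h a b ha hb haA hbA _ (orderOf_pow_orderOf_div (orderOf_pos g).ne' hd)

theorem NoMix.not_commute {A : Set ℕ} (h : NoMix A G) {a b : ℕ} (ha : a.Prime) (hb : b.Prime)
    (haA : a ∈ A) (hbA : b ∉ A) {x y : G} (hx : orderOf x = a) (hy : orderOf y = b) :
    ¬ Commute x y := fun hc => by
  refine h a b ha hb haA hbA (x * y) ?_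
  rw [hc.orderOf_mul_eq_mul_orderOf_of_coprime, hx, hy]
  rw [hx, hy]
  exact (Nat.coprime_primes ha hb).2 fun e => hbA (e ▸ haA)

theorem exists_pow_orderOf_prime [Finite G] {x : G} (hx : x ≠ 1) :
    ∃ k q : ℕ, q.Prime ∧ q ∣ orderOf x ∧ orderOf (x ^ k) = q := by
  obtain ⟨q, hq, hd⟩ := Nat.exists_prime_and_dvd (mt orderOf_eq_one_iff.1 hx)
  exact ⟨_, q, hq, hd, orderOf_pow_orderOf_div (orderOf_pos x).ne' hd⟩

theorem fpf_of_noMix [Finite G] {A : Set ℕ} (h : NoMix A G) {U B : Subgroup G}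
    (hU : IsPiNum A (Nat.card U)) (hB : IsPiNum Aᶜ (Nat.card B)) :
    Frobenius.FPF B U := by
  intro b hb hb1 u hu e
  by_contra hu1
  obtain ⟨i, a, ha, had, hai⟩ := exists_pow_orderOf_prime hu1
  obtain ⟨j, c, hc, hcd, hcj⟩ := exists_pow_orderOf_prime hb1
  exact h.not_commute ha hc (hU a ha (had.trans (Subgroup.orderOf_dvd_natCard U hu)))
    (hB c hc (hcd.trans (Subgroup.orderOf_dvd_natCard B hb))) hai hcj
    ((show Commute u b from e.symm).pow_pow i j)

theorem exists_frobenius_of_noMix [Finite G] {A : Set ℕ} (h : NoMix A G) (N : Subgroup G) [N.Normal]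
    (hN0 : N ≠ ⊥) (hN1 : N ≠ ⊤) (hN : IsPiNum A (Nat.card N)) (hi : IsPiNum Aᶜ N.index) :
    ∃ C : Subgroup G, Cfsg.IsFrobeniusComplement C ∧ Cfsg.frobeniusKernel C = (N : Set G) := by
  obtain ⟨C, hC⟩ := Subgroup.exists_right_complement'_of_coprime (N := N) (hN.coprime hi)
  have hCn : IsPiNum Aᶜ (Nat.card C) := by rwa [← hC.symm.index_eq_card]
  have hC0 : C ≠ ⊥ := by
    rintro rfl
    exact hN1 (by simpa using hC.sup_eq_top)
  have hF := Frobenius.FPF.isFrobeniusComplement hC hN0 hC0 (fpf_of_noMix h hN hCn)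
  exact ⟨C, hF, (Frobenius.kernel_eq_of_normal_complement hF hC).symm⟩

theorem exists_maximal_normal_piNum [Finite G] (A : Set ℕ) {N : Subgroup G} (hN : N.Normal)
    (hA : IsPiNum A (Nat.card N)) :
    ∃ H : Subgroup G, H.Normal ∧ IsPiNum A (Nat.card H) ∧ N ≤ H ∧
      ∀ X : Subgroup G, X.Normal → IsPiNum A (Nat.card X) → H ≤ X → X = H := by
  obtain ⟨H, hNH, hH⟩ := Finite.exists_le_maximal
    (p := fun X : Subgroup G => X.Normal ∧ IsPiNum A (Nat.card X)) (a := N) ⟨hN, hA⟩
  exact ⟨H, hH.1.1, hH.1.2, hNH, fun X h1 h2 h3 => le_antisymm (hH.2 ⟨h1, h2⟩ h3) h3⟩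

theorem frobenius_or_twoFrobenius_aux [Finite G] [Group.IsSolvable G] {A : Set ℕ}
    (h : NoMix A G) {b : ℕ} (hb : b.Prime) (hbA : b ∉ A) (hbG : b ∣ Nat.card G)
    {N : Subgroup G} (hNn : N.Normal) (hN0 : N ≠ ⊥) (hNA : IsPiNum A (Nat.card N)) :
    (∃ C : Subgroup G, Cfsg.IsFrobeniusComplement C) ∨
    (∃ (H K : Subgroup G) (_ : H.Normal), K.Normal ∧ H < K ∧
      (∃ C : Subgroup ↥K, Cfsg.IsFrobeniusComplement C ∧
        Cfsg.frobeniusKernel C = (H.subgroupOf K : Set ↥K)) ∧
      (∃ C : Subgroup (G ⧸ H), Cfsg.IsFrobeniusComplement C ∧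
        Cfsg.frobeniusKernel C = (K.map (QuotientGroup.mk' H) : Set (G ⧸ H)))) := by
  obtain ⟨H, hHn, hHA, hNH, hHmax⟩ := exists_maximal_normal_piNum A hNn hNA
  have hH0 : H ≠ ⊥ := fun e => hN0 (le_bot_iff.1 (e ▸ hNH))
  have hH1 : H ≠ ⊤ := by
    rintro rfl
    rw [Subgroup.card_top] at hHA
    exact hbA (hHA b hb hbG)
  by_cases hidx : IsPiNum Aᶜ H.index
  · obtain ⟨C, hC, -⟩ := exists_frobenius_of_noMix h H hH0 hH1 hHA hidx
    exact Or.inl ⟨C, hC⟩
  right
  obtain ⟨a, ha, had, haA⟩ : ∃ a : ℕ, a.Prime ∧ a ∣ H.index ∧ a ∈ A := by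
    by_contra hne
    exact hidx fun q hq hd hqA => hne ⟨q, hq, hd, hqA⟩
  have := Fact.mk ha
  set f := QuotientGroup.mk' H
  have hfs : Function.Surjective f := QuotientGroup.mk'_surjective H
  have hQ : NoMix A (G ⧸ H) := h.quotient H
  have hcore : ∀ X : Subgroup (G ⧸ H), X.Normal → IsPiNum A (Nat.card X) → X = ⊥ := by
    intro X hX hXA
    have hc : IsPiNum A (Nat.card (X.comap f)) := by
      rw [card_eq_card_map_mul f, Subgroup.map_comap_eq_self_of_surjective hfs,
        QuotientGroup.ker_mk', inf_eq_right.2 (QuotientGroup.le_comap_mk' H X)]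
      exact hXA.mul hHA
    have he := hHmax _ (hX.comap f) hc (QuotientGroup.le_comap_mk' H X)
    rw [← Subgroup.map_comap_eq_self_of_surjective hfs X, he]
    exact (Subgroup.map_eq_bot_iff H).2 (QuotientGroup.ker_mk' H).ge
  set F := Cfsg.fittingSubgroup (G ⧸ H) with hFdef
  have hFnil : Group.IsNilpotent F := Cores.fittingSubgroup_isNilpotent
  have hFn : F.Normal := Cores.fittingSubgroup_normal _
  have hFA : IsPiNum Aᶜ (Nat.card F) := by
    intro q hq hd hqA
    have := Fact.mk hq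
    obtain ⟨P⟩ := (inferInstance : Nonempty (Sylow q F))
    have : (P : Subgroup F).Characteristic := Sylow.characteristic_of_normal P inferInstance
    have h1 := hcore ((P : Subgroup F).map F.subtype) inferInstance
      (isPiNum_of_isPGroup (P.2.map F.subtype) hqA)
    have h2 : (P : Subgroup F) = ⊥ :=
      (Subgroup.map_eq_bot_iff_of_injective _ F.subtype_injective).1 h1
    refine P.not_dvd_index ?_
    rw [h2, Subgroup.index_bot]
    exact hd
  have hF0 : F ≠ ⊥ := by
    have : Nontrivial (G ⧸ H) := QuotientGroup.nontrivial_iff.2 hH1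
    obtain ⟨p, hp, M, hMn, hM0, hMp⟩ := exists_normal_pGroup_ne_bot (G ⧸ H)
    have := Fact.mk hp
    intro e
    exact hM0 (le_bot_iff.1 (e ▸ Cores.le_fittingSubgroup hMn hMp.isNilpotent))
  set K := F.comap f with hKdef
  have hHK : H ≤ K := QuotientGroup.le_comap_mk' H F
  have hKF : K.map f = F := Subgroup.map_comap_eq_self_of_surjective hfs F
  have hKlt : H < K := lt_of_le_of_ne hHK fun e => hF0 (by
    rw [← hKF, ← e]; exact (Subgroup.map_eq_bot_iff H).2 (QuotientGroup.ker_mk' H).ge)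
  -- the complement of `H` in `K`
  have hHKc : IsPiNum A (Nat.card (H.subgroupOf K)) := by
    rwa [Nat.card_congr (Subgroup.subgroupOfEquivOfLe hHK).toEquiv]
  have hKi : IsPiNum Aᶜ (H.subgroupOf K).index := by
    have e : (H.subgroupOf K).index = Nat.card F := by
      refine Nat.eq_of_mul_eq_mul_left (Nat.card_pos (α := H.subgroupOf K)) ?_
      rw [Subgroup.card_mul_index, card_eq_card_map_mul f K, hKF, QuotientGroup.ker_mk',
        inf_eq_right.2 hHK, Nat.card_congr (Subgroup.subgroupOfEquivOfLe hHK).toEquiv, mul_comm]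
    rwa [e]
  obtain ⟨B', hB'⟩ := Subgroup.exists_right_complement'_of_coprime (N := H.subgroupOf K)
    (hHKc.coprime hKi)
  set B := B'.map K.subtype
  have hBA : IsPiNum Aᶜ (Nat.card B) := by
    rwa [Subgroup.card_map_of_injective K.subtype_injective, ← hB'.symm.index_eq_card]
  have hfpf := fpf_of_noMix h hHA hBA
  have hSB : Frobenius.SmallCyclic B := Frobenius.smallCyclic_of_fpf hH0
    (by rw [Subgroup.normalizer_eq_top_iff.2 hHn]; exact le_top) hfpf
  have hSF : Frobenius.SmallCyclic F := by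
    have hBK : B ≤ K := Subgroup.map_subtype_le B'
    let φ : B →* F := (f.comp B.subtype).codRestrict F fun x => hBK x.2
    have hinj : Function.Injective φ := by
      rw [injective_iff_map_eq_one]
      intro x hx
      have hxH : (x : G) ∈ H := (QuotientGroup.eq_one_iff _).1 (congrArg Subtype.val hx)
      have hbot : H ⊓ B = ⊥ := inf_eq_bot_of_coprime (hHA.coprime hBA)
      exact Subtype.ext (Subgroup.mem_bot.1 (hbot ▸ Subgroup.mem_inf.2 ⟨hxH, x.2⟩))
    have hsurj : Function.Surjective φ := by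
      intro y
      obtain ⟨g, hg⟩ := hfs y
      have hgK : g ∈ K := by show f g ∈ F; rw [hg]; exact y.2
      obtain ⟨n, hn, c, hc, hnc⟩ := Subgroup.mem_sup_of_normal_left.1
        (show (⟨g, hgK⟩ : K) ∈ H.subgroupOf K ⊔ B' from hB'.sup_eq_top ▸ Subgroup.mem_top _)
      refine ⟨⟨(c : G), c, hc, rfl⟩, Subtype.ext ?_⟩
      show f (c : G) = y
      rw [← hg, show g = (n : G) * (c : G) from (congrArg Subtype.val hnc).symm, map_mul,
        show f (n : G) = 1 from (QuotientGroup.eq_one_iff _).2 hn, one_mul]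
    exact hSB.of_injective (f := (MulEquiv.ofBijective φ ⟨hinj, hsurj⟩).symm.toMonoidHom)
      (MulEquiv.ofBijective φ ⟨hinj, hsurj⟩).symm.injective
  obtain ⟨z, hz⟩ := exists_prime_orderOf_dvd_card' (G := G ⧸ H) a had
  have h2F : ¬ 2 ∣ Nat.card F := by
    intro h2
    obtain ⟨t, ht⟩ := exists_prime_orderOf_dvd_card' (G := F) 2 h2
    have htz : z * (t : G ⧸ H) * z⁻¹ = t := by
      have hmem := hFn.conj_mem _ t.2 z
      have ho : orderOf (⟨_, hmem⟩ : F) = 2 := by
        rw [Subgroup.orderOf_mk, ← MulAut.conj_apply, MulEquiv.orderOf_eq, Subgroup.orderOf_coe, ht]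
      exact congrArg Subtype.val (hSF.eq_of_involution ho ht)
    exact hQ.not_commute ha Nat.prime_two haA (hFA 2 Nat.prime_two h2) hz
      ((Subgroup.orderOf_coe t).trans ht) (mul_inv_eq_iff_eq_mul.1 htz)
  have : IsZGroup F := ⟨fun q hq P => by
    have := Fact.mk hq
    by_cases hqF : q ∣ Nat.card F
    · exact hSF.isCyclic_of_pgroup_odd (fun e => h2F (e ▸ hqF)) P.2
    · have : Subsingleton (P : Subgroup F) := by
        refine (Nat.card_eq_one_iff_unique.1 ?_).1
        obtain ⟨k, hk⟩ := IsPGroup.iff_card.1 P.2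
        rcases Nat.eq_zero_or_pos k with rfl | hk0
        · rw [hk, pow_zero]
        · exact absurd ((hk ▸ dvd_pow_self q hk0.ne').trans
            (Subgroup.card_subgroup_dvd_card (P : Subgroup F))) hqF
      exact isCyclic_of_subsingleton⟩
  have hcyc : IsCyclic F := inferInstance
  have hFi : IsPiNum A F.index := by
    intro c hc hcd
    by_contra hcA
    have := Fact.mk hc
    have hQF : NoMix A ((G ⧸ H) ⧸ F) := hQ.quotient F
    have hab : ∀ x y : (G ⧸ H) ⧸ F, Commute x y := by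
      intro x y
      obtain ⟨x, rfl⟩ := QuotientGroup.mk'_surjective F x
      obtain ⟨y, rfl⟩ := QuotientGroup.mk'_surjective F y
      obtain ⟨i, hi⟩ := (MulAut.conjNormal x : MulAut F).toMonoidHom.map_cyclic
      obtain ⟨j, hj⟩ := (MulAut.conjNormal y : MulAut F).toMonoidHom.map_cyclic
      have hc : x * y * x⁻¹ * y⁻¹ ∈ F := by
        refine centralizer_fitting_le (G ⧸ H) (Subgroup.mem_centralizer_iff.2 fun w hw => ?_)
        have e6 : x * y * x⁻¹ * y⁻¹ = (y * x) * ((y * x)⁻¹ * (x * y)) * (y * x)⁻¹ := by group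
        have hwF : (y * x)⁻¹ * w * (y * x) ∈ F := by
          have := hFn.conj_mem w hw (y * x)⁻¹
          rwa [inv_inv] at this
        have e8 : ∀ v ∈ F, (y * x)⁻¹ * (x * y) * v = v * ((y * x)⁻¹ * (x * y)) := by
          intro v hv
          have e1' : (MulAut.conjNormal (x * y) : MulAut F) ⟨v, hv⟩ =
              (MulAut.conjNormal (y * x) : MulAut F) ⟨v, hv⟩ := by
            rw [map_mul, map_mul, MulAut.mul_apply, MulAut.mul_apply]
            have hi' : ∀ v : F, (MulAut.conjNormal x : MulAut F) v = v ^ i := hi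
            have hj' : ∀ v : F, (MulAut.conjNormal y : MulAut F) v = v ^ j := hj
            rw [hj', hi', hi', hj', ← zpow_mul, ← zpow_mul, mul_comm]
          have e2' := congrArg Subtype.val e1'
          rw [MulAut.conjNormal_apply, MulAut.conjNormal_apply] at e2'
          simp only at e2'
          have e3' := congrArg (fun v => (y * x)⁻¹ * v * (x * y)) e2'
          simp only [mul_inv_rev, mul_assoc, inv_mul_cancel_left, inv_mul_cancel, mul_one] at e3'
          simpa [mul_inv_rev, mul_assoc] using e3'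
        rw [e6]
        calc w * ((y * x) * ((y * x)⁻¹ * (x * y)) * (y * x)⁻¹)
            = (y * x) * (((y * x)⁻¹ * w * (y * x)) * ((y * x)⁻¹ * (x * y))) * (y * x)⁻¹ := by group
          _ = (y * x) * (((y * x)⁻¹ * (x * y)) * ((y * x)⁻¹ * w * (y * x))) * (y * x)⁻¹ := by
              rw [e8 _ hwF]
          _ = (y * x) * ((y * x)⁻¹ * (x * y)) * (y * x)⁻¹ * w := by group
      have h1 : QuotientGroup.mk' F (x * y * x⁻¹ * y⁻¹) = 1 := (QuotientGroup.eq_one_iff _).2 hc
      rw [map_mul, map_mul, map_mul, map_inv, map_inv, mul_inv_eq_one, mul_inv_eq_iff_eq_mul] at h1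
      exact h1
    have haF : a ∣ F.index := by
      have h1 : a ∣ Nat.card F * F.index := by
        rw [Subgroup.card_mul_index]; exact had
      exact (ha.dvd_mul.1 h1).resolve_left fun hd => hFA a ha hd haA
    obtain ⟨x, hx⟩ := exists_prime_orderOf_dvd_card' (G := (G ⧸ H) ⧸ F) a haF
    obtain ⟨y, hy⟩ := exists_prime_orderOf_dvd_card' (G := (G ⧸ H) ⧸ F) c hcd
    exact hQF.not_commute ha hc haA hcA hx hy (hab x y)
  have hF1 : F ≠ ⊤ := by
    intro e
    refine hFA a ha ?_ haA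
    rw [e, Subgroup.card_top]
    exact had
  refine ⟨H, K, hHn, hFn.comap f, hKlt, ?_, ?_⟩
  · refine exists_frobenius_of_noMix (h.subgroup K) (H.subgroupOf K) ?_ ?_ hHKc hKi
    · rw [Ne, Subgroup.subgroupOf_eq_bot, disjoint_iff, inf_eq_left.2 hHK]
      exact hH0
    · rw [Ne, Subgroup.subgroupOf_eq_top]
      exact hKlt.not_ge
  · rw [hKF]
    exact exists_frobenius_of_noMix hQ.compl F hF0 hF1 hFA (by rwa [compl_compl])

theorem frobenius_or_twoFrobenius [Finite G] [Group.IsSolvable G] {A : Set ℕ}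
    (h : NoMix A G) {a b : ℕ} (ha : a.Prime) (haA : a ∈ A) (haG : a ∣ Nat.card G) (hb : b.Prime)
    (hbA : b ∉ A) (hbG : b ∣ Nat.card G) :
    (∃ C : Subgroup G, Cfsg.IsFrobeniusComplement C) ∨
    (∃ (H K : Subgroup G) (_ : H.Normal), K.Normal ∧ H < K ∧
      (∃ C : Subgroup ↥K, Cfsg.IsFrobeniusComplement C ∧
        Cfsg.frobeniusKernel C = (H.subgroupOf K : Set ↥K)) ∧
      (∃ C : Subgroup (G ⧸ H), Cfsg.IsFrobeniusComplement C ∧
        Cfsg.frobeniusKernel C = (K.map (QuotientGroup.mk' H) : Set (G ⧸ H)))) := by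
  have : Nontrivial G := (Finite.one_lt_card_iff_nontrivial).1
    (lt_of_lt_of_le ha.one_lt (Nat.le_of_dvd Nat.card_pos haG))
  obtain ⟨p, hp, N, hNn, hN0, hNp⟩ := exists_normal_pGroup_ne_bot G
  have := Fact.mk hp
  by_cases hpA : p ∈ A
  · exact frobenius_or_twoFrobenius_aux h hb hbA hbG hNn hN0 (isPiNum_of_isPGroup hNp hpA)
  · exact frobenius_or_twoFrobenius_aux h.compl ha (not_not.2 haA) haG hNn hN0
      (isPiNum_of_isPGroup hNp hpA)

end Cfsg.Agent.Solvable
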