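import Cfsg.Agent.Lib.Solvable.SylowSystem

/-!
# Carter subgroups of finite solvable groups and system normalizers (owner: helper2)

* `exists_carter`, `carter_conj`, `carter_map`
* `Reduces`, `exists_reduces`, `systemNormalizer_le_of_reduces`
* `carter_le_systemNormalizer` (nilpotent length at most two)
-/

open Pointwise

namespace Cfsg.Agent.Solvable

universe u

variable {G : Type u} [Group G]

theorem isPiHall_normal_of_isNilpotent [Finite G] [Group.IsNilpotent G] {π : Set ℕ} {H : Subgroup G}
    (hH : Cfsg.IsPiHall π H) : H.Normal := by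
  rw [← Subgroup.normalizer_eq_top_iff]
  by_contra hne
  obtain ⟨g, hg, hgH⟩ := Set.exists_of_ssubset
    (Group.normalizerCondition_of_isNilpotent _ (lt_top_iff_ne_top.2 hne))
  refine hgH ?_
  have hle : MulAut.conj g • H ≤ Subgroup.normalizer (H : Set G) :=
    (conj_mono g Subgroup.le_normalizer).trans (mem_normalizer_iff_conj.1 hg).le
  obtain ⟨l, hl, hlH⟩ := exists_conj_of_isPiHall_le hH (isPiHall_conj hH g)
    Subgroup.le_normalizer hle
  exact mem_normalizer_iff_conj.2 (hlH.symm.trans (mem_normalizer_iff_conj.1 hl))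

theorem le_normalizer_of_isPiHallOf [Finite G] {π : Set ℕ} {H L : Subgroup G}
    (hL : Group.IsNilpotent L) (hH : Cfsg.IsPiHallOf π H L) :
    L ≤ Subgroup.normalizer (H : Set G) :=
  (Subgroup.normal_subgroupOf_iff_le_normalizer hH.1).1
    (isPiHall_normal_of_isNilpotent (isPiHall_subgroupOf hH))

theorem eq_top_of_carter [Group.IsNilpotent G] {C : Subgroup G} (hC : Cfsg.IsCarterSubgroup C) :
    C = ⊤ := by
  by_contra hne
  exact (Group.normalizerCondition_of_isNilpotent C (lt_top_iff_ne_top.2 hne)).ne hC.2.symm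

theorem isCarter_subgroupOf {C L : Subgroup G} (hC : Cfsg.IsCarterSubgroup C) (hCL : C ≤ L) :
    Cfsg.IsCarterSubgroup (C.subgroupOf L) := by
  have := hC.1
  exact ⟨Group.nilpotent_of_mulEquiv (Subgroup.subgroupOfEquivOfLe hCL).symm,
    by rw [← Subgroup.subgroupOf_normalizer_eq hCL, hC.2]⟩

theorem eq_of_carter_le {C X : Subgroup G} (hC : Cfsg.IsCarterSubgroup C) (hX : Group.IsNilpotent X)
    (h : C ≤ X) : C = X :=
  le_antisymm h (Subgroup.subgroupOf_eq_top.1 (eq_top_of_carter (isCarter_subgroupOf hC h)))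

theorem isNilpotent_subgroup_map {G' : Type*} [Group G'] (f : G →* G') {H : Subgroup G}
    (hH : Group.IsNilpotent H) : Group.IsNilpotent (H.map f) :=
  Group.nilpotent_of_surjective (f.subgroupMap H) (f.subgroupMap_surjective H)

theorem isCarter_conj {C : Subgroup G} (hC : Cfsg.IsCarterSubgroup C) (g : G) :
    Cfsg.IsCarterSubgroup (MulAut.conj g • C) := by
  rw [conj_eq_map]
  refine ⟨isNilpotent_subgroup_map _ hC.1, ?_⟩
  rw [← Subgroup.map_normalizer_eq_of_bijective _ (MulAut.conj g).bijective, hC.2]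

/-- All Carter subgroups are conjugate. -/
def CarterConj (G : Type u) [Group G] : Prop :=
  ∀ C D : Subgroup G, Cfsg.IsCarterSubgroup C → Cfsg.IsCarterSubgroup D →
    ∃ g : G, MulAut.conj g • C = D

theorem exists_conj_of_carterConj {C D L : Subgroup G} (hyp : CarterConj L)
    (hC : Cfsg.IsCarterSubgroup C) (hD : Cfsg.IsCarterSubgroup D) (hCL : C ≤ L) (hDL : D ≤ L) :
    ∃ l ∈ L, MulAut.conj l • C = D := by
  obtain ⟨l, hl⟩ := hyp _ _ (isCarter_subgroupOf hC hCL) (isCarter_subgroupOf hD hDL)
  refine ⟨l, l.2, ?_⟩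
  have h := congrArg (Subgroup.map L.subtype) hl
  rw [map_conj, Subgroup.map_subgroupOf_eq_of_le hCL, Subgroup.map_subgroupOf_eq_of_le hDL] at h
  exact h

theorem carter_map_of_hyp {G' : Type*} [Group G'] {f : G →* G'} (hf : Function.Surjective f)
    {C : Subgroup G} (hC : Cfsg.IsCarterSubgroup C)
    (hyp : ∀ L : Subgroup G, L ≠ ⊤ → CarterConj L) :
    Cfsg.IsCarterSubgroup (C.map f) := by
  refine ⟨isNilpotent_subgroup_map f hC.1, le_antisymm (fun y hy => ?_) Subgroup.le_normalizer⟩
  obtain ⟨g, rfl⟩ := hf y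
  set L := (C.map f).comap f with hL
  have hCL : C ≤ L := Subgroup.le_comap_map f C
  show g ∈ L
  rcases eq_or_ne L ⊤ with h | h
  · rw [h]; exact Subgroup.mem_top g
  · have hgL : MulAut.conj g • L = L := by
      rw [← mem_normalizer_iff_conj, hL, ← Subgroup.comap_normalizer_eq_of_surjective _ hf]
      exact hy
    obtain ⟨l, hl, hlC⟩ := exists_conj_of_carterConj (hyp L h) hC (isCarter_conj hC g) hCL
      ((conj_mono g hCL).trans hgL.le)
    have h1 : l⁻¹ * g ∈ Subgroup.normalizer (C : Set G) := by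
      rw [mem_normalizer_iff_conj, ← conj_conj, ← hlC, conj_inv_smul]
    rw [hC.2] at h1
    have h2 := L.mul_mem hl (hCL h1)
    rwa [mul_inv_cancel_left] at h2

theorem carter_normalizer_hall [Finite G] [Group.IsSolvable G] {p : ℕ} (hp : p.Prime)
    (N : Subgroup G) [N.Normal] (hN : IsPiNum {p} (Nat.card N))
    (hq : Group.IsNilpotent (G ⧸ N)) {K : Subgroup G} (hK : Cfsg.IsPiHall ({p}ᶜ : Set ℕ) K) :
    N ⊔ Subgroup.normalizer (K : Set G) = ⊤ ∧
      Cfsg.IsCarterSubgroup (Subgroup.normalizer (K : Set G)) := by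
  have hK' := isPiHall_iff.1 hK
  set C0 := Subgroup.normalizer (K : Set G) with hC0
  have hKC : K ≤ C0 := Subgroup.le_normalizer
  have hKn : (K.map (QuotientGroup.mk' N)).Normal :=
    isPiHall_normal_of_isNilpotent (isPiHall_map hK (QuotientGroup.mk'_surjective N))
  have hKN : (K ⊔ N).Normal := by
    have h := hKn.comap (QuotientGroup.mk' N)
    rwa [Subgroup.comap_map_eq, QuotientGroup.ker_mk'] at h
  have hcop : (Nat.card K).Coprime (K.relIndex (K ⊔ N)) :=
    hK'.1.coprime ((hK'.2).of_dvd (Subgroup.relIndex_dvd_index_of_le le_sup_left))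
  have hsup : N ⊔ C0 = ⊤ := by
    rw [eq_top_iff, ← sup_normalizer_eq_top_of_hall (L := K ⊔ N) le_sup_left hcop]
    exact sup_le (sup_le (hKC.trans le_sup_right) le_sup_left) le_sup_right
  set φ : C0 →* G ⧸ N := (QuotientGroup.mk' N).comp C0.subtype with hφ
  have hφs : Function.Surjective φ := by
    intro y
    obtain ⟨x, rfl⟩ := QuotientGroup.mk'_surjective N y
    obtain ⟨n, hn, c, hc, rfl⟩ := Subgroup.mem_sup_of_normal_left.1
      (show x ∈ N ⊔ C0 from hsup ▸ Subgroup.mem_top x)
    refine ⟨⟨c, hc⟩, ?_⟩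
    show QuotientGroup.mk' N c = QuotientGroup.mk' N (n * c)
    rw [map_mul, show QuotientGroup.mk' N n = 1 from (QuotientGroup.eq_one_iff n).2 hn, one_mul]
  have hker : φ.ker = N.subgroupOf C0 := by
    ext x
    exact QuotientGroup.eq_one_iff _
  have hkerp : IsPiNum {p} (Nat.card φ.ker) := by
    rw [hker]
    refine hN.of_dvd ?_
    rw [← Subgroup.card_map_of_injective C0.subtype_injective, Subgroup.subgroupOf_map_subtype]
    exact Subgroup.card_dvd_of_le inf_le_left
  set K1 := K.subgroupOf C0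
  have : K1.Normal := (Subgroup.normal_subgroupOf_iff_le_normalizer hKC).2 le_rfl
  have hK1 : Cfsg.IsPiHall ({p}ᶜ : Set ℕ) K1 :=
    isPiHall_subgroupOf ⟨hKC, hK.1, fun q hq hπ hd =>
      hK.2 q hq hπ (hd.trans (Subgroup.relIndex_dvd_index_of_le hKC))⟩
  have hnil : Group.IsNilpotent C0 := by
    have h3 := (Group.isNilpotent_of_finite_tfae (G := C0)).out 0 3
    rw [h3]
    intro r hr P
    have hPn : ((P.mapSurjective hφs : Sylow r (G ⧸ N)) : Subgroup (G ⧸ N)).Normal := inferInstance
    rw [Sylow.coe_mapSurjective] at hPn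
    have hPk : ((P : Subgroup C0) ⊔ φ.ker).Normal := by
      rw [← Subgroup.comap_map_eq]
      exact hPn.comap φ
    have h1 := Sylow.normalizer_sup_eq_top' P (le_sup_left : (P : Subgroup C0) ≤ _ ⊔ φ.ker)
    have hkerN : φ.ker ≤ Subgroup.normalizer ((P : Subgroup C0) : Set C0) := by
      by_cases hrp : r = p
      · subst hrp
        obtain ⟨k, hk⟩ := (isPiNum_singleton_iff Nat.card_pos.ne' hp).1 hkerp
        exact ((IsPGroup.of_card hk).le_sylow_of_normal P).trans
          Subgroup.le_normalizer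
      · have hPc : IsPiNum ({p}ᶜ : Set ℕ) (Nat.card (P : Subgroup C0)) :=
          isPiNum_of_isPGroup P.2 (fun h => hrp (Set.mem_singleton_iff.1 h))
        have hPK : (P : Subgroup C0) ≤ K1 :=
          le_sup_left.trans (eq_of_le_of_isPiNum hK1 le_sup_right
            (isPiNum_card_sup hPc (isPiHall_iff.1 hK1).1)).ge
        have hdis : Disjoint φ.ker K1 :=
          disjoint_iff.2 (inf_eq_bot_of_coprime (hkerp.coprime (isPiHall_iff.1 hK1).1))
        intro n hn
        refine Subgroup.centralizer_le_normalizer _ (Subgroup.mem_centralizer_iff.2 fun x hx => ?_)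
        exact (Subgroup.commute_of_normal_of_disjoint φ.ker K1 inferInstance inferInstance hdis
          n x hn (hPK hx)).eq.symm
    rw [← Subgroup.normalizer_eq_top_iff, eq_top_iff, ← h1]
    exact sup_le le_rfl (sup_le Subgroup.le_normalizer hkerN)
  refine ⟨hsup, hnil, le_antisymm (fun g hg => ?_) Subgroup.le_normalizer⟩
  obtain ⟨l, hl, hlK⟩ := exists_conj_of_isPiHall_le hK (isPiHall_conj hK g) hKC
    ((conj_mono g hKC).trans (mem_normalizer_iff_conj.1 hg).le)
  rw [hC0, mem_normalizer_iff_conj]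
  exact hlK.symm.trans (mem_normalizer_iff_conj.1 hl)

theorem isNilpotent_quotient_of_sup_eq_top {C N : Subgroup G} [N.Normal]
    (hC : Group.IsNilpotent C) (h : C ⊔ N = ⊤) : Group.IsNilpotent (G ⧸ N) := by
  refine Group.nilpotent_of_surjective ((QuotientGroup.mk' N).comp C.subtype) fun y => ?_
  obtain ⟨x, rfl⟩ := QuotientGroup.mk'_surjective N y
  obtain ⟨c, hc, n, hn, rfl⟩ := Subgroup.mem_sup_of_normal_right.1
    (show x ∈ C ⊔ N from h ▸ Subgroup.mem_top x)
  refine ⟨⟨c, hc⟩, ?_⟩
  show QuotientGroup.mk' N c = QuotientGroup.mk' N (c * n)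
  rw [map_mul, show QuotientGroup.mk' N n = 1 from (QuotientGroup.eq_one_iff n).2 hn, mul_one]

theorem carter_eq_normalizer [Finite G] [Group.IsSolvable G] {p : ℕ} (hp : p.Prime)
    {C N K : Subgroup G} [N.Normal] (hN : IsPiNum {p} (Nat.card N))
    (hC : Cfsg.IsCarterSubgroup C) (h : C ⊔ N = ⊤) (hK : Cfsg.IsPiHall ({p}ᶜ : Set ℕ) K)
    (hKC : K ≤ C) : C = Subgroup.normalizer (K : Set G) :=
  eq_of_carter_le hC
    (carter_normalizer_hall hp N hN (isNilpotent_quotient_of_sup_eq_top hC.1 h) hK).2.1
    (le_normalizer_of_isPiHallOf hC.1 ⟨hKC, hK.1, fun q hq hπ hd =>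
      hK.2 q hq hπ (hd.trans (Subgroup.relIndex_dvd_index_of_le hKC))⟩)

theorem exists_hall_le_of_sup_eq_top [Finite G] [Group.IsSolvable G] {p : ℕ}
    {C N : Subgroup G} [N.Normal] (hN : IsPiNum {p} (Nat.card N)) (h : C ⊔ N = ⊤) :
    ∃ K ≤ C, Cfsg.IsPiHall ({p}ᶜ : Set ℕ) K := by
  obtain ⟨K0, hK0⟩ := exists_piHall_of_solvable (G := C) ({p}ᶜ : Set ℕ)
  refine ⟨K0.map C.subtype, Subgroup.map_subtype_le K0, isPiHall_iff.2 ⟨?_, ?_⟩⟩
  · rw [Subgroup.card_map_of_injective C.subtype_injective]
    exact (isPiHall_iff.1 hK0).1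
  · rw [compl_compl, Subgroup.index_map_subtype]
    refine IsPiNum.mul (by simpa only [compl_compl] using (isPiHall_iff.1 hK0).2) (hN.of_dvd ?_)
    rw [← Subgroup.relIndex_top_right, ← h, relIndex_sup_of_normal]
    exact Subgroup.relIndex_dvd_card _ _

theorem carter_main (n : ℕ) : ∀ (G : Type u) [Group G] [Finite G] [Group.IsSolvable G],
    Nat.card G ≤ n → (∃ C : Subgroup G, Cfsg.IsCarterSubgroup C) ∧ CarterConj G := by
  induction n with
  | zero => intro G _ _ _ h; exact absurd h (not_le.2 Nat.card_pos)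
  | succ n ih =>
    intro G _ _ _ hcard
    rcases subsingleton_or_nontrivial G with hsub | hnt
    · have htop : ∀ C : Subgroup G, C = ⊤ := fun C => Subsingleton.elim _ _
      exact ⟨⟨⊤, inferInstance, htop _⟩, fun C D _ _ => ⟨1, Subsingleton.elim _ _⟩⟩
    obtain ⟨p, hp, N, hNn, hN0, hNp⟩ := exists_normal_pGroup_ne_bot G
    have := Fact.mk hp
    have hNnum : IsPiNum {p} (Nat.card N) := isPiNum_of_isPGroup hNp (Set.mem_singleton p)
    set f := QuotientGroup.mk' N
    have hf : Function.Surjective f := QuotientGroup.mk'_surjective N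
    have hsubg : ∀ L : Subgroup G, L ≠ ⊤ →
        (∃ C : Subgroup L, Cfsg.IsCarterSubgroup C) ∧ CarterConj L := fun L hL =>
      ih L (by have := card_lt_of_ne_top hL; omega)
    obtain ⟨⟨Q, hQ⟩, hQconj⟩ := ih (G ⧸ N) (by have := card_quotient_lt hN0; omega)
    have hmap : ∀ C : Subgroup G, Cfsg.IsCarterSubgroup C → Cfsg.IsCarterSubgroup (C.map f) :=
      fun C hC => carter_map_of_hyp hf hC fun L hL => (hsubg L hL).2
    constructor
    · set L := Q.comap f with hL
      rcases eq_or_ne L ⊤ with h | h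
      · have hQtop : Q = ⊤ := by
          rw [← Subgroup.map_comap_eq_self_of_surjective hf Q, ← hL, h,
            Subgroup.map_top_of_surjective f hf]
        have hq : Group.IsNilpotent (G ⧸ N) := by
          have := hQ.1
          subst hQtop
          exact Group.nilpotent_of_mulEquiv Subgroup.topEquiv
        obtain ⟨K, hK⟩ := exists_piHall_of_solvable (G := G) ({p}ᶜ : Set ℕ)
        exact ⟨_, (carter_normalizer_hall hp N hNnum hq hK).2⟩
      · obtain ⟨⟨C', hC'⟩, -⟩ := hsubg L h
        set C := C'.map L.subtype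
        refine ⟨C, isNilpotent_subgroup_map _ hC'.1, le_antisymm ?_ Subgroup.le_normalizer⟩
        let φ : L →* Q :=
          (f.comp L.subtype).codRestrict Q fun x => x.2
        have hφ : Function.Surjective φ := fun y => by
          obtain ⟨x, hx⟩ := hf y
          exact ⟨⟨x, show f x ∈ Q by rw [hx]; exact y.2⟩, Subtype.ext hx⟩
        have hQn := hQ.1
        have hcov : C'.map φ = ⊤ := eq_top_of_carter (carter_map_of_hyp hφ hC' fun M hM =>
          (ih M (by
            have := card_lt_of_ne_top h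
            have := Subgroup.card_dvd_of_le (le_top : M ≤ (⊤ : Subgroup L))
            have := Nat.le_of_dvd Nat.card_pos this
            rw [Subgroup.card_top] at this
            omega)).2)
        have hCQ : C.map f = Q := by
          have h1 := congrArg (Subgroup.map Q.subtype) hcov
          rw [Subgroup.map_map, show Q.subtype.comp φ = f.comp L.subtype from rfl, ← MonoidHom.range_eq_map,
            Subgroup.range_subtype, ← Subgroup.map_map] at h1
          exact h1
        intro g hg
        have hgL : g ∈ L := by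
          show f g ∈ Q
          rw [← hQ.2, ← hCQ]
          exact Subgroup.le_normalizer_map f ⟨g, hg, rfl⟩
        have h2 : (⟨g, hgL⟩ : L) ∈ (Subgroup.normalizer (C : Set G)).subgroupOf L := hg
        have hC'' : C.subgroupOf L = C' := Subgroup.comap_map_eq_self_of_injective L.subtype_injective C'
        rw [Subgroup.subgroupOf_normalizer_eq (Subgroup.map_subtype_le C'), hC'', hC'.2] at h2
        exact ⟨⟨g, hgL⟩, h2, rfl⟩
    · intro C D hC hD
      obtain ⟨gb, hgb⟩ := hQconj _ _ (hmap C hC) (hmap D hD)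
      obtain ⟨g, rfl⟩ := hf gb
      rw [← map_conj] at hgb
      have h2 := sup_eq_sup_of_map_eq hgb
      suffices h3 : ∃ a : G, MulAut.conj a • MulAut.conj g • C = D by
        obtain ⟨a, ha⟩ := h3
        exact ⟨a * g, by rw [← conj_conj, ha]⟩
      have hC2 := isCarter_conj hC g
      revert h2 hC2
      generalize MulAut.conj g • C = C2
      intro h2 hC2
      rcases eq_or_ne (C2 ⊔ N) ⊤ with h | h
      · obtain ⟨K1, hK1, hK1'⟩ := exists_hall_le_of_sup_eq_top hNnum h
        obtain ⟨K2, hK2, hK2'⟩ := exists_hall_le_of_sup_eq_top hNnum (h2.symm.trans h)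
        obtain ⟨a, ha⟩ := piHall_conj_of_solvable hK1' hK2'
        refine ⟨a, ?_⟩
        rw [carter_eq_normalizer hp hNnum hC2 h hK1' hK1,
          carter_eq_normalizer hp hNnum hD (h2.symm.trans h) hK2' hK2, ← ha, conj_eq_map,
          conj_eq_map, Subgroup.map_normalizer_eq_of_bijective _ (MulAut.conj a).bijective]
      · obtain ⟨l, -, hl⟩ := exists_conj_of_carterConj (hsubg _ h).2 hC2 hD le_sup_left
          (le_sup_left.trans h2.ge)
        exact ⟨l, hl⟩

variable [Finite G] [Group.IsSolvable G]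

theorem exists_carter : ∃ C : Subgroup G, Cfsg.IsCarterSubgroup C :=
  (carter_main (Nat.card G) G le_rfl).1

theorem carter_conj : CarterConj G := (carter_main (Nat.card G) G le_rfl).2

theorem carter_map {G' : Type*} [Group G'] {f : G →* G'} (hf : Function.Surjective f)
    {C : Subgroup G} (hC : Cfsg.IsCarterSubgroup C) : Cfsg.IsCarterSubgroup (C.map f) :=
  carter_map_of_hyp hf hC fun _ _ => carter_conj

theorem carter_sup_eq_top_of_nilpotent_quotient {C F : Subgroup G} [F.Normal]
    (hC : Cfsg.IsCarterSubgroup C) (hF : Group.IsNilpotent (G ⧸ F)) : C ⊔ F = ⊤ := by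
  have h := eq_top_of_carter (carter_map (QuotientGroup.mk'_surjective F) hC)
  have h2 := congrArg (Subgroup.comap (QuotientGroup.mk' F)) h
  rwa [Subgroup.comap_map_eq, QuotientGroup.ker_mk', Subgroup.comap_top] at h2

/-- A complement system reduces into `C` if each member meets `C` in a Hall subgroup of `C`. -/
def Reduces (K : Nat.Primes → Subgroup G) (C : Subgroup G) : Prop :=
  ∀ p : Nat.Primes, IsPiNum {(p : ℕ)} ((K p).relIndex C)

theorem exists_reduces (C : Subgroup G) :
    ∃ K : Nat.Primes → Subgroup G, Cfsg.IsComplementSystem K ∧ Reduces K C := by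
  obtain ⟨M, hM⟩ := exists_complementSystem (G := C)
  have h : ∀ p : Nat.Primes, ∃ H : Subgroup G,
      Cfsg.IsPiHall ({(p : ℕ)}ᶜ : Set ℕ) H ∧ (M p).map C.subtype ≤ H := fun p => by
    refine exists_piHall_ge_of_solvable ?_
    rw [Subgroup.card_map_of_injective C.subtype_injective]
    exact (isPiHall_iff.1 (isPiHall_of_complementSystem hM p)).1
  choose K hK hle using h
  refine ⟨K, fun p => (isPiHall_compl_singleton_iff p.2).1 (hK p), fun p => ?_⟩
  refine IsPiNum.of_dvd ?_ (Subgroup.relIndex_dvd_of_le_left C (hle p))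
  rw [Subgroup.relIndex, Subgroup.subgroupOf,
    Subgroup.comap_map_eq_self_of_injective C.subtype_injective, hM p]
  exact isPiNum_pow p.2 (Set.mem_singleton _) _

theorem systemNormalizer_le_aux (n : ℕ) : ∀ (G : Type u) [Group G] [Finite G] [Group.IsSolvable G],
    Nat.card G ≤ n → ∀ (K : Nat.Primes → Subgroup G) (C : Subgroup G),
      Cfsg.IsComplementSystem K → Cfsg.IsCarterSubgroup C → Reduces K C →
      Cfsg.systemNormalizer K ≤ C := by
  induction n with
  | zero => intro G _ _ _ h; exact absurd h (not_le.2 Nat.card_pos)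
  | succ n ih =>
    intro G _ _ _ hcard K C hK hC hred
    rcases subsingleton_or_nontrivial G with hsub | hnt
    · exact (Subsingleton.elim _ _ : Cfsg.systemNormalizer K = C).le
    obtain ⟨p, hp, N, hNn, hN0, hNp⟩ := exists_normal_pGroup_ne_bot G
    have := Fact.mk hp
    have hNnum : IsPiNum {p} (Nat.card N) := isPiNum_of_isPGroup hNp (Set.mem_singleton p)
    set f := QuotientGroup.mk' N
    have hf : Function.Surjective f := QuotientGroup.mk'_surjective N
    have hker : f.ker = N := QuotientGroup.ker_mk' N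
    have hred' : Reduces (fun q => (K q).map f) (C.map f) := fun q => by
      refine (hred q).of_dvd ?_
      rw [← Subgroup.relIndex_comap]
      exact Subgroup.relIndex_dvd_of_le_left C (Subgroup.le_comap_map f (K q))
    have hDL : Cfsg.systemNormalizer K ≤ C ⊔ N := by
      have h1 := ih (G ⧸ N) (by have := card_quotient_lt hN0; omega) _ _
        (isComplementSystem_map hK N) (carter_map hf hC) hred'
      rw [systemNormalizer_map hK N, Subgroup.map_le_iff_le_comap, Subgroup.comap_map_eq, hker] at h1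
      exact h1
    have hinf : IsPiNum {p} ((K ⟨p, hp⟩).relIndex (C ⊔ N)) := by
      refine IsPiNum.of_dvd ?_ (Subgroup.relIndex_dvd_of_le_left _
        (inf_le_left : K ⟨p, hp⟩ ⊓ C ≤ K ⟨p, hp⟩))
      rw [← Subgroup.relIndex_mul_relIndex _ C (C ⊔ N) inf_le_right le_sup_left,
        Subgroup.inf_relIndex_right, relIndex_sup_of_normal]
      exact (hred ⟨p, hp⟩).mul (hNnum.of_dvd (Subgroup.relIndex_dvd_card _ _))
    rcases eq_or_ne (C ⊔ N) ⊤ with h | h
    · have hKp := isPiHall_of_complementSystem hK ⟨p, hp⟩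
      have hKC : K ⟨p, hp⟩ ≤ C := by
        have h1 : Cfsg.IsPiHall ({p}ᶜ : Set ℕ) (K ⟨p, hp⟩ ⊓ C) := by
          refine isPiHall_iff.2 ⟨(isPiHall_iff.1 hKp).1.of_dvd
            (Subgroup.card_dvd_of_le inf_le_left), ?_⟩
          rw [compl_compl, ← Subgroup.relIndex_mul_index (inf_le_right : _ ≤ C),
            Subgroup.inf_relIndex_right, ← Subgroup.relIndex_top_right C, ← h,
            relIndex_sup_of_normal]
          exact (hred ⟨p, hp⟩).mul (hNnum.of_dvd (Subgroup.relIndex_dvd_card _ _))
        have h2 := eq_of_le_of_isPiNum h1 inf_le_left (isPiHall_iff.1 hKp).1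
        exact inf_eq_left.1 h2
      rw [carter_eq_normalizer hp hNnum hC h hKp hKC]
      exact systemNormalizer_le K _
    · set L := C ⊔ N
      have hred2 : ∀ q : Nat.Primes, IsPiNum {(q : ℕ)} ((K q).relIndex L) := fun q => by
        by_cases hq : (q : ℕ) = p
        · obtain rfl : q = ⟨p, hp⟩ := Subtype.ext hq
          exact hinf
        · have hNK : N ≤ K q := le_of_isPiHall_of_normal (isPiHall_of_complementSystem hK q)
            (hNnum.mono fun r hr => by
              rw [Set.mem_singleton_iff] at hr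
              exact fun h => hq ((Set.mem_singleton_iff.1 h).symm.trans hr))
          have e1 : (K q).relIndex L = ((K q).map f).relIndex (C.map f) := by
            rw [Subgroup.relIndex_map_map, hker, sup_eq_left.2 hNK]
          have e2 : ((K q).map f).relIndex (C.map f) = (K q).relIndex C := by
            rw [← Subgroup.relIndex_comap, Subgroup.comap_map_eq, hker, sup_eq_left.2 hNK]
          rw [e1, e2]; exact hred q
      have hK2 : Cfsg.IsComplementSystem fun q => (K q).subgroupOf L := fun q =>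
        (isPiHall_compl_singleton_iff q.2).1 (isPiHall_iff.2 ⟨by
          rw [← Subgroup.card_map_of_injective L.subtype_injective, Subgroup.subgroupOf_map_subtype]
          exact (isPiHall_iff.1 (isPiHall_of_complementSystem hK q)).1.of_dvd
            (Subgroup.card_dvd_of_le inf_le_left), by rw [compl_compl]; exact hred2 q⟩)
      have h1 := ih L (by have := card_lt_of_ne_top h; omega) _ (C.subgroupOf L) hK2
        (isCarter_subgroupOf hC le_sup_left) (fun q => by
          rw [Subgroup.relIndex_subgroupOf le_sup_left]; exact hred q)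
      intro d hd
      refine h1 (x := (⟨d, hDL hd⟩ : L)) ?_
      rw [mem_systemNormalizer_iff] at hd ⊢
      intro q
      rw [← mem_normalizer_iff_conj]
      refine Subgroup.mem_normalizer_iff.2 fun y => ?_
      exact Subgroup.mem_normalizer_iff.1 (mem_normalizer_iff_conj.2 (hd q)) (y : G)

theorem systemNormalizer_le_of_reduces {K : Nat.Primes → Subgroup G} {C : Subgroup G}
    (hK : Cfsg.IsComplementSystem K) (hC : Cfsg.IsCarterSubgroup C) (hred : Reduces K C) :
    Cfsg.systemNormalizer K ≤ C :=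
  systemNormalizer_le_aux (Nat.card G) G le_rfl K C hK hC hred

theorem systemNormalizer_conj (K : Nat.Primes → Subgroup G) (g : G) :
    Cfsg.systemNormalizer (fun p => MulAut.conj g • K p) =
      MulAut.conj g • Cfsg.systemNormalizer K := by
  ext x
  rw [mem_conj_iff, mem_systemNormalizer_iff, mem_systemNormalizer_iff]
  refine forall_congr' fun p => ?_
  rw [conj_conj]
  constructor
  · intro h
    rw [mul_assoc, ← conj_conj g⁻¹ (x * g), h, conj_inv_smul]
  · intro h
    have h' := congrArg (MulAut.conj g • ·) h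
    simp only [conj_conj, ← mul_assoc, mul_inv_cancel, one_mul] at h' ⊢
    exact h'

theorem exists_carter_systemNormalizer_le {K : Nat.Primes → Subgroup G}
    (hK : Cfsg.IsComplementSystem K) :
    ∃ C : Subgroup G, Cfsg.IsCarterSubgroup C ∧ Cfsg.systemNormalizer K ≤ C := by
  obtain ⟨C, hC⟩ := exists_carter (G := G)
  obtain ⟨K0, hK0, hred⟩ := exists_reduces C
  obtain ⟨g, hg⟩ := complementSystem_conj hK0 hK
  refine ⟨_, isCarter_conj hC g, ?_⟩
  rw [← funext hg, systemNormalizer_conj]
  exact conj_mono g (systemNormalizer_le_of_reduces hK0 hC hred)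

theorem carter_le_systemNormalizer {F : Subgroup G} [hFn : F.Normal] (hF : Group.IsNilpotent F)
    (hGF : Group.IsNilpotent (G ⧸ F)) {K : Nat.Primes → Subgroup G} {C : Subgroup G}
    (hK : Cfsg.IsComplementSystem K) (hC : Cfsg.IsCarterSubgroup C) (hred : Reduces K C) :
    C ≤ Cfsg.systemNormalizer K := by
  refine le_iInf fun p => ?_
  have hKp := isPiHall_of_complementSystem hK p
  have hCF := carter_sup_eq_top_of_nilpotent_quotient hC hGF
  have hMHall : Cfsg.IsPiHallOf ({(p : ℕ)}ᶜ : Set ℕ) (K p ⊓ F) F := isPiHall_inf_normal hKp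
  set M := K p ⊓ F with hM
  set J := K p ⊓ C with hJdef
  have hJ : Cfsg.IsPiHallOf ({(p : ℕ)}ᶜ : Set ℕ) J C :=
    ⟨inf_le_right, fun q hq hd => hKp.1 q hq (hd.trans (Subgroup.card_dvd_of_le inf_le_left)),
      fun q hq hπ hd => by
        rw [hJdef, Subgroup.inf_relIndex_right] at hd
        exact hπ (hred p q hq hd)⟩
  have hMn : M.Normal := ⟨fun x hx g => by
    have h2 : MulAut.conj g • M = M := by
      have hle : MulAut.conj g • M ≤ F := conj_normal g F ▸ conj_mono g inf_le_right
      have hnorm := isPiHall_normal_of_isNilpotent (isPiHall_subgroupOf hMHall)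
      have h3 : Cfsg.IsPiHallOf ({(p : ℕ)}ᶜ : Set ℕ) (MulAut.conj g • M) F :=
        ⟨hle, by rw [card_conj]; exact hMHall.2.1, fun q hq hπ hd => by
          refine hMHall.2.2 q hq hπ ?_
          rwa [← conj_normal g F, conj_eq_map, conj_eq_map,
            Subgroup.relIndex_map_map_of_injective _ _ (MulAut.conj g).injective] at hd⟩
      have h4 := le_of_isPiHall_of_normal (isPiHall_subgroupOf h3)
        (isPiHall_iff.1 (isPiHall_subgroupOf hMHall)).1 (N := M.subgroupOf F)
      have h5 : M ≤ MulAut.conj g • M := fun y hy => h4 (x := ⟨y, hy.2⟩) hy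
      exact (Subgroup.eq_of_le_of_card_ge h5 (card_conj g M).le).symm
    rw [← h2, mem_conj_iff]
    simpa [mul_assoc] using hx⟩
  have hS : J ⊔ M = K p := by
    have hKnum := (isPiHall_iff.1 hKp).1
    have hle : J ⊔ M ≤ K p := sup_le inf_le_left inf_le_left
    refine eq_of_le_of_isPiNum (isPiHall_iff.2 ⟨hKnum.of_dvd (Subgroup.card_dvd_of_le hle), ?_⟩)
      hle hKnum
    have hle2 : J ⊔ M ≤ C ⊔ M := sup_le (inf_le_right.trans le_sup_left) le_sup_right
    rw [compl_compl, ← Subgroup.relIndex_mul_index hle2]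
    refine IsPiNum.mul ?_ ?_
    · refine IsPiNum.of_dvd ?_ (Subgroup.relIndex_dvd_of_le_left (C ⊔ M)
        (le_refl (J ⊔ M)))
      rw [show C ⊔ M = C ⊔ (J ⊔ M) by rw [← sup_assoc, sup_eq_left.2 (inf_le_right : J ≤ C)]]
      have : (J ⊔ M).relIndex (C ⊔ (J ⊔ M)) ∣ J.relIndex C := by
        have e : C ⊔ (J ⊔ M) = C ⊔ M := by rw [← sup_assoc, sup_eq_left.2 (inf_le_right : J ≤ C)]
        rw [e]
        have e2 := Subgroup.relIndex_map_map (QuotientGroup.mk' M) (J ⊔ M) C
        rw [QuotientGroup.ker_mk', sup_assoc, sup_idem] at e2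
        rw [← e2, ← Subgroup.relIndex_comap, Subgroup.comap_map_eq, QuotientGroup.ker_mk',
          sup_assoc, sup_idem]
        exact Subgroup.relIndex_dvd_of_le_left C le_sup_left
      refine IsPiNum.of_dvd ?_ this
      rw [hJdef, Subgroup.inf_relIndex_right]
      exact hred p
    · rw [← Subgroup.relIndex_top_right, ← hCF,
        show C ⊔ F = C ⊔ M ⊔ F by rw [sup_assoc, sup_eq_right.2 (inf_le_right : M ≤ F)],
        relIndex_sup_of_normal]
      refine IsPiNum.of_dvd (fun q hq hd => ?_)
        (Subgroup.relIndex_dvd_of_le_left F (le_sup_right : M ≤ C ⊔ M))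
      by_contra hne
      exact hMHall.2.2 q hq hne hd
  intro x hx
  have hxJ : MulAut.conj x • J = J := mem_normalizer_iff_conj.1
    (le_normalizer_of_isPiHallOf hC.1 hJ hx)
  rw [mem_normalizer_iff_conj, ← hS, Subgroup.smul_sup, hxJ, conj_normal]

end Cfsg.Agent.Solvable
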