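import Cfsg.Agent.Lib.Solvable.Hall

/-!
# Solvable groups with cyclic Sylow subgroups: subgroups of equal order are conjugate (owner: helper2)
-/

open Pointwise

namespace Cfsg.Agent.Solvable

universe u

variable {G : Type u} [Group G]

theorem eq_of_card_eq_of_isCyclic [Finite G] {A B P : Subgroup G} [IsCyclic P] (hA : A ≤ P)
    (hB : B ≤ P) (h : Nat.card A = Nat.card B) : A = B := by
  have hS : IsCyclic ↥(A ⊔ B) := Subgroup.isCyclic_of_le (sup_le hA hB)
  have hexp : Monoid.exponent ↥(A ⊔ B) ∣ Nat.card A := by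
    rw [Monoid.exponent_dvd_iff_forall_pow_eq_one]
    intro z
    refine Subtype.ext ?_
    rw [SubmonoidClass.coe_pow, OneMemClass.coe_one]
    have hz : ∀ z ∈ A ⊔ B, z ∈ P ∧ z ^ Nat.card A = 1 := by
      intro z hz
      refine ⟨sup_le hA hB hz, ?_⟩
      rw [Subgroup.sup_eq_closure] at hz
      induction hz using Subgroup.closure_induction with
      | mem x hx =>
        rcases hx with hx | hx
        · exact Subgroup.orderOf_dvd_natCard A hx |> orderOf_dvd_iff_pow_eq_one.1
        · rw [h]; exact Subgroup.orderOf_dvd_natCard B hx |> orderOf_dvd_iff_pow_eq_one.1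
      | one => exact one_pow _
      | mul x y hx hy ihx ihy =>
        have hsub : Subgroup.closure ((A : Set G) ∪ B) ≤ P := by
          rw [← Subgroup.sup_eq_closure]; exact sup_le hA hB
        have hc : Commute x y := by
          let _ : CommGroup P := IsCyclic.commGroup
          exact congrArg Subtype.val (mul_comm (⟨x, hsub hx⟩ : P) ⟨y, hsub hy⟩)
        rw [hc.mul_pow, ihx, ihy, one_mul]
      | inv x hx ihx => rw [inv_pow, ihx, inv_one]
    exact (hz z z.2).2
  rw [IsCyclic.exponent_eq_card] at hexp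
  have hle := Nat.le_of_dvd Nat.card_pos hexp
  have h1 := Subgroup.eq_of_le_of_card_ge (le_sup_left : A ≤ A ⊔ B) hle
  have h2 := Subgroup.eq_of_le_of_card_ge (le_sup_right : B ≤ A ⊔ B) (by omega)
  exact h1.trans h2.symm

/-- All `q`-subgroups are cyclic. -/
def CyclicPSubgroups (q : ℕ) (G : Type u) [Group G] : Prop :=
  ∀ P : Subgroup G, IsPGroup q P → IsCyclic P

theorem CyclicPSubgroups.subgroup {q : ℕ} (h : CyclicPSubgroups q G) (L : Subgroup G) :
    CyclicPSubgroups q L := fun P hP => by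
  have := h (P.map L.subtype) (hP.map _)
  exact (P.equivMapOfInjective L.subtype L.subtype_injective).isCyclic.2 this

theorem exists_pGroup_lift [Finite G] {q : ℕ} [hq : Fact q.Prime] (N : Subgroup G) [N.Normal]
    {Q : Subgroup (G ⧸ N)} (hQ : IsPGroup q Q) :
    ∃ P : Subgroup G, IsPGroup q P ∧ P.map (QuotientGroup.mk' N) = Q ∧
      Nat.card P = q ^ (Nat.card Q * Nat.card N).factorization q := by
  set f := QuotientGroup.mk' N
  set L := Q.comap f
  have hmapL : L.map f = Q := Subgroup.map_comap_eq_self_of_surjective (QuotientGroup.mk'_surjective N) Q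
  have hcardL : Nat.card L = Nat.card Q * Nat.card N := by
    rw [card_eq_card_map_mul f L, hmapL, QuotientGroup.ker_mk',
      inf_eq_right.2 (QuotientGroup.le_comap_mk' N Q)]
  obtain ⟨S⟩ := (inferInstance : Nonempty (Sylow q L))
  set P := (S : Subgroup L).map L.subtype
  have hcardP : Nat.card P = q ^ (Nat.card Q * Nat.card N).factorization q := by
    rw [Subgroup.card_map_of_injective L.subtype_injective, S.card_eq_multiplicity, hcardL]
  refine ⟨P, S.2.map _, ?_, hcardP⟩
  refine Subgroup.eq_of_le_of_card_ge (hmapL ▸ Subgroup.map_mono (Subgroup.map_subtype_le _)) ?_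
  have h1 := card_eq_card_map_mul f P
  rw [QuotientGroup.ker_mk', hcardP] at h1
  obtain ⟨a, ha⟩ := IsPGroup.iff_card.1 hQ
  obtain ⟨b, hb⟩ := IsPGroup.iff_card.1 ((S.2.map L.subtype).to_le
    (inf_le_left : P ⊓ N ≤ P))
  have hbN : b ≤ (Nat.card N).factorization q :=
    (hq.out.pow_dvd_iff_le_factorization Nat.card_pos.ne').1
      (hb ▸ Subgroup.card_dvd_of_le inf_le_right)
  rw [hb, ha, Nat.factorization_mul (pow_pos hq.out.pos a).ne' Nat.card_pos.ne',
    Finsupp.add_apply, hq.out.factorization_pow, Finsupp.single_eq_same] at h1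
  rw [ha]
  by_contra hlt
  have h2 : q ^ a * q ^ b ≤ q ^ (a + (Nat.card N).factorization q) := by
    rw [← pow_add]; exact Nat.pow_le_pow_right hq.out.pos (by omega)
  rw [h1] at h2
  have := (Nat.mul_lt_mul_right (pow_pos hq.out.pos b)).2 (not_le.1 hlt)
  omega

theorem CyclicPSubgroups.quotient [Finite G] {q : ℕ} [Fact q.Prime] (h : CyclicPSubgroups q G)
    (N : Subgroup G) [N.Normal] : CyclicPSubgroups q (G ⧸ N) := fun Q hQ => by
  obtain ⟨P, hP, rfl, -⟩ := exists_pGroup_lift N hQ
  have := h P hP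
  exact isCyclic_of_surjective _ ((QuotientGroup.mk' N).subgroupMap_surjective P)

/-- If `q` divides the order of `H` and `q`-subgroups are cyclic, a minimal normal `q`-subgroup lies
in `H`. -/
theorem le_of_cyclicPSubgroups [Finite G] {q : ℕ} [hq : Fact q.Prime] (h : CyclicPSubgroups q G)
    {N : Subgroup G} [N.Normal] (hNp : IsPGroup q N) (hN0 : N ≠ ⊥) (hexp : ∀ x ∈ N, x ^ q = 1)
    {H : Subgroup G} (hH : q ∣ Nat.card H) : N ≤ H := by
  obtain ⟨x, hx⟩ := exists_prime_orderOf_dvd_card' q hH
  set X := Subgroup.zpowers (x : G)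
  have hXH : X ≤ H := Subgroup.zpowers_le.2 x.2
  have hcX : Nat.card X = q := by rw [Nat.card_zpowers, Subgroup.orderOf_coe, hx]
  have hXp : IsPGroup q X := IsPGroup.of_card (n := 1) (by rw [hcX, pow_one])
  have := h _ (hXp.to_sup_of_normal_right hNp)
  have := h _ hNp
  have hcN : Nat.card N = q := by
    have h1 : Monoid.exponent N ∣ q := Monoid.exponent_dvd_iff_forall_pow_eq_one.2 fun z =>
      Subtype.ext (hexp z z.2)
    rw [IsCyclic.exponent_eq_card] at h1
    rcases (Nat.dvd_prime hq.out).1 h1 with h2 | h2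
    · exact absurd (Subgroup.eq_bot_of_card_eq N h2) hN0
    · exact h2
  exact (eq_of_card_eq_of_isCyclic (le_sup_right : N ≤ X ⊔ N) le_sup_left
    (hcN.trans hcX.symm)).le.trans hXH

theorem exists_conj_of_map_eq_conj [Finite G] {N H K : Subgroup G} [N.Normal] {g : G}
    (h : MulAut.conj (QuotientGroup.mk' N g) • H.map (QuotientGroup.mk' N) =
      K.map (QuotientGroup.mk' N)) :
    (MulAut.conj g • H) ⊔ N = K ⊔ N := by
  rw [← map_conj] at h
  exact sup_eq_sup_of_map_eq h

theorem card_map_eq_of_le [Finite G] {N H K : Subgroup G} [N.Normal] (hH : N ≤ H) (hK : N ≤ K)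
    (h : Nat.card H = Nat.card K) :
    Nat.card (H.map (QuotientGroup.mk' N)) = Nat.card (K.map (QuotientGroup.mk' N)) := by
  rw [card_eq_card_map_mul (QuotientGroup.mk' N) H, card_eq_card_map_mul (QuotientGroup.mk' N) K,
    QuotientGroup.ker_mk', inf_eq_right.2 hH, inf_eq_right.2 hK] at h
  exact Nat.eq_of_mul_eq_mul_right Nat.card_pos h

theorem conj_of_cyclic_aux (n : ℕ) : ∀ (G : Type u) [Group G] [Finite G] [Group.IsSolvable G],
    Nat.card G ≤ n → ∀ H K : Subgroup G, Nat.card H = Nat.card K →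
      (∀ q : ℕ, q.Prime → q ∣ Nat.card H → CyclicPSubgroups q G) →
        ∃ g : G, MulAut.conj g • H = K := by
  induction n with
  | zero => intro G _ _ _ h; exact absurd h (not_le.2 Nat.card_pos)
  | succ n ih =>
    intro G _ _ _ hn H K hHK hcyc
    rcases subsingleton_or_nontrivial G with hsub | hnt
    · exact ⟨1, Subsingleton.elim _ _⟩
    obtain ⟨p, hp, N, hNn, hN0, -, -, hNp, hexp, -⟩ :=
      exists_minimal_normal_pGroup (N := (⊤ : Subgroup G)) top_ne_bot
    have := Fact.mk hp
    have hlt : Nat.card (G ⧸ N) ≤ n := by have := card_quotient_lt hN0; omega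
    have key : Nat.card (H.map (QuotientGroup.mk' N)) = Nat.card (K.map (QuotientGroup.mk' N)) →
        ∃ g : G, (MulAut.conj g • H) ⊔ N = K ⊔ N := fun he => by
      obtain ⟨gb, hg⟩ := ih (G ⧸ N) hlt _ _ he fun q hq hd => by
        have := Fact.mk hq
        exact (hcyc q hq (hd.trans (Subgroup.card_map_dvd H _))).quotient N
      obtain ⟨g, rfl⟩ := QuotientGroup.mk'_surjective N gb
      exact ⟨g, exists_conj_of_map_eq_conj hg⟩
    by_cases hpd : p ∣ Nat.card H
    · have hNH := le_of_cyclicPSubgroups (hcyc p hp hpd) hNp hN0 hexp hpd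
      have hNK := le_of_cyclicPSubgroups (hcyc p hp hpd) hNp hN0 hexp (hHK ▸ hpd)
      obtain ⟨g, hg⟩ := key (card_map_eq_of_le hNH hNK hHK)
      rw [sup_eq_left.2 hNK, sup_eq_left.2 (by rw [← conj_normal g N]; exact conj_mono g hNH)] at hg
      exact ⟨g, hg⟩
    · have hcop : ∀ X : Subgroup G, Nat.card X = Nat.card H →
          (Nat.card X).Coprime (Nat.card N) := fun X hX => by
        obtain ⟨k, hk⟩ := IsPGroup.iff_card.1 hNp
        rw [hX, hk]
        exact Nat.Coprime.pow_right _ ((Nat.Prime.coprime_iff_not_dvd hp).2 hpd).symm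
      obtain ⟨g, hg⟩ := key (by
        rw [card_map_of_disjoint _ H (by rw [QuotientGroup.ker_mk']; exact inf_eq_bot_of_coprime (hcop H rfl)),
          card_map_of_disjoint _ K (by rw [QuotientGroup.ker_mk']; exact inf_eq_bot_of_coprime (hcop K hHK.symm)),
          hHK])
      have hNs : Group.IsSolvable N := inferInstance
      obtain ⟨m, -, hm⟩ := exists_conj_of_sup_eq (Or.inl hNs) hg (hcop _ (card_conj g H))
        (hcop K hHK.symm)
      exact ⟨m * g, by rw [← conj_conj, hm]⟩

/-- Conjugacy of `p`-subgroups of equal order, for every prime `p`. -/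
def PConj (G : Type u) [Group G] : Prop :=
  ∀ q : ℕ, q.Prime → ∀ H K : Subgroup G, IsPGroup q H → IsPGroup q K → Nat.card H = Nat.card K →
    ∃ g : G, MulAut.conj g • H = K

theorem pConj_quotient [Finite G] (h : PConj G) (N : Subgroup G) [N.Normal] : PConj (G ⧸ N) := by
  intro q hq H K hH hK he
  have := Fact.mk hq
  obtain ⟨P, hP, hPm, hPc⟩ := exists_pGroup_lift N hH
  obtain ⟨R, hR, hRm, hRc⟩ := exists_pGroup_lift N hK
  obtain ⟨g, hg⟩ := h q hq P R hP hR (by rw [hPc, hRc, he])
  exact ⟨QuotientGroup.mk' N g, by rw [← hPm, ← hRm, ← hg, map_conj]⟩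

/-- The unique-subgroup consequence of `PConj` for a normal `p`-subgroup. -/
theorem le_of_pow_le_card [Finite G] (h : PConj G) {r : ℕ} [hr : Fact r.Prime] {N : Subgroup G}
    [N.Normal] (hNp : IsPGroup r N) {H : Subgroup G} (hd : Nat.card N ∣ Nat.card H) : N ≤ H := by
  obtain ⟨k, hk⟩ := IsPGroup.iff_card.1 hNp
  obtain ⟨Q, hQ⟩ := Sylow.exists_subgroup_card_pow_prime r (hk ▸ hd)
  obtain ⟨g, hg⟩ := h r hr.out N (Q.map H.subtype) hNp ((IsPGroup.of_card hQ).map _)
    (by rw [Subgroup.card_map_of_injective H.subtype_injective, hQ, hk])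
  rw [conj_normal] at hg
  exact hg.le.trans (Subgroup.map_subtype_le Q)

theorem subgroup_le_of_pow_lt_card [Finite G] (h : PConj G) {r : ℕ} [hr : Fact r.Prime]
    {N : Subgroup G} [N.Normal] (hNp : IsPGroup r N) {P : Subgroup G} (hP : IsPGroup r P)
    (hd : Nat.card P ∣ Nat.card N) : P ≤ N := by
  obtain ⟨k, hk⟩ := IsPGroup.iff_card.1 hP
  obtain ⟨Q, hQ⟩ := Sylow.exists_subgroup_card_pow_prime r (hk ▸ hd)
  obtain ⟨g, hg⟩ := h r hr.out (Q.map N.subtype) P ((IsPGroup.of_card hQ).map _) hP
    (by rw [Subgroup.card_map_of_injective N.subtype_injective, hQ, hk])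
  exact hg ▸ (conj_mono g (Subgroup.map_subtype_le Q)).trans (conj_normal g N).le

theorem conj_of_pConj_aux (r : ℕ) (n : ℕ) :
    ∀ (G : Type u) [Group G] [Finite G] [Group.IsSolvable G],
    Nat.card G ≤ n → PConj G → (∀ q : ℕ, q.Prime → q ≠ r → CyclicPSubgroups q G) →
      ∀ H K : Subgroup G, Nat.card H = Nat.card K → ∃ g : G, MulAut.conj g • H = K := by
  induction n with
  | zero => intro G _ _ _ h; exact absurd h (not_le.2 Nat.card_pos)
  | succ n ih =>
    intro G _ _ _ hn hconj hcyc H K hHK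
    rcases subsingleton_or_nontrivial G with hsub | hnt
    · exact ⟨1, Subsingleton.elim _ _⟩
    obtain ⟨p, hp, N, hNn, hN0, -, -, hNp, hexp, -⟩ :=
      exists_minimal_normal_pGroup (N := (⊤ : Subgroup G)) top_ne_bot
    have := Fact.mk hp
    have hlt : Nat.card (G ⧸ N) ≤ n := by have := card_quotient_lt hN0; omega
    have key : Nat.card (H.map (QuotientGroup.mk' N)) = Nat.card (K.map (QuotientGroup.mk' N)) →
        ∃ g : G, (MulAut.conj g • H) ⊔ N = K ⊔ N := fun he => by
      obtain ⟨gb, hg⟩ := ih (G ⧸ N) hlt (pConj_quotient hconj N) (fun q hq hqr => by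
        have := Fact.mk hq
        exact (hcyc q hq hqr).quotient N) _ _ he
      obtain ⟨g, rfl⟩ := QuotientGroup.mk'_surjective N gb
      exact ⟨g, exists_conj_of_map_eq_conj hg⟩
    have hNs : Group.IsSolvable N := inferInstance
    by_cases hbig : Nat.card N ∣ Nat.card H
    · have hNH := le_of_pow_le_card hconj hNp hbig
      have hNK := le_of_pow_le_card hconj hNp (hHK ▸ hbig)
      obtain ⟨g, hg⟩ := key (card_map_eq_of_le hNH hNK hHK)
      rw [sup_eq_left.2 hNK, sup_eq_left.2 (by rw [← conj_normal g N]; exact conj_mono g hNH)] at hg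
      exact ⟨g, hg⟩
    by_cases hpd : p ∣ Nat.card H
    swap
    · have hcop : ∀ X : Subgroup G, Nat.card X = Nat.card H →
          (Nat.card X).Coprime (Nat.card N) := fun X hX => by
        obtain ⟨k, hk⟩ := IsPGroup.iff_card.1 hNp
        rw [hX, hk]
        exact Nat.Coprime.pow_right _ ((Nat.Prime.coprime_iff_not_dvd hp).2 hpd).symm
      obtain ⟨g, hg⟩ := key (by
        rw [card_map_of_disjoint _ H (by rw [QuotientGroup.ker_mk']; exact inf_eq_bot_of_coprime (hcop H rfl)),
          card_map_of_disjoint _ K (by rw [QuotientGroup.ker_mk']; exact inf_eq_bot_of_coprime (hcop K hHK.symm)),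
          hHK])
      obtain ⟨m, -, hm⟩ := exists_conj_of_sup_eq (Or.inl hNs) hg (hcop _ (card_conj g H))
        (hcop K hHK.symm)
      exact ⟨m * g, by rw [← conj_conj, hm]⟩
    obtain ⟨k, hk⟩ := IsPGroup.iff_card.1 hNp
    set j := (Nat.card H).factorization p
    have hjk : j < k := by
      by_contra hle
      exact hbig (hk ▸ (pow_dvd_pow p (not_lt.1 hle)).trans (Nat.ordProj_dvd _ _))
    have hdec : ∀ X : Subgroup G, Nat.card X = Nat.card H →
        ∃ A T : Subgroup G, A ≤ X ∧ A ≤ N ∧ T ≤ X ∧ Nat.card A = p ^ j ∧ IsPGroup p A ∧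
          Nat.card T = Nat.card H / p ^ j ∧ A ⊔ T = X ∧ X ≤ Subgroup.normalizer (A : Set G) := by
      intro X hX
      obtain ⟨S⟩ := (inferInstance : Nonempty (Sylow p X))
      have hSc : Nat.card ((S : Subgroup X).map X.subtype) = p ^ j := by
        rw [Subgroup.card_map_of_injective X.subtype_injective, S.card_eq_multiplicity, hX]
      have hSN := subgroup_le_of_pow_lt_card hconj hNp (S.2.map X.subtype)
        (by rw [hSc, hk]; exact pow_dvd_pow p hjk.le)
      have hAeq : (S : Subgroup X).map X.subtype = X ⊓ N := by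
        refine Subgroup.eq_of_le_of_card_ge (le_inf (Subgroup.map_subtype_le _) hSN) ?_
        obtain ⟨b, hb⟩ := IsPGroup.iff_card.1 (hNp.to_le (inf_le_right : X ⊓ N ≤ N))
        rw [hSc, hb]
        refine Nat.pow_le_pow_right hp.pos ?_
        exact (hp.pow_dvd_iff_le_factorization Nat.card_pos.ne').1
          (hb ▸ hX ▸ Subgroup.card_dvd_of_le inf_le_left)
      have hcop : (p ^ j).Coprime (Nat.card H / p ^ j) :=
        Nat.Coprime.pow_left _ (Nat.coprime_ordCompl hp Nat.card_pos.ne')
      obtain ⟨T0, hT0⟩ := exists_card_eq_of_solvable (G := X) (m := Nat.card H / p ^ j) (n := p ^ j)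
        (by rw [hX, mul_comm]; exact (Nat.ordProj_mul_ordCompl_eq_self _ _).symm) hcop.symm
      refine ⟨X ⊓ N, T0.map X.subtype, inf_le_left, inf_le_right, Subgroup.map_subtype_le _,
        hAeq ▸ hSc, hNp.to_le inf_le_right, ?_, ?_, ?_⟩
      · rw [Subgroup.card_map_of_injective X.subtype_injective, hT0]
      · refine Subgroup.eq_of_le_of_card_ge (sup_le inf_le_left (Subgroup.map_subtype_le _)) ?_
        refine Nat.le_of_dvd Nat.card_pos ?_
        rw [hX, ← Nat.ordProj_mul_ordCompl_eq_self (Nat.card H) p]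
        refine hcop.mul_dvd_of_dvd_of_dvd ?_ ?_
        · exact (show p ^ j = Nat.card ↥(X ⊓ N) from (hAeq ▸ hSc).symm) ▸
            Subgroup.card_dvd_of_le le_sup_left
        · exact (show Nat.card H / p ^ j = Nat.card ↥(T0.map X.subtype) from by
            rw [Subgroup.card_map_of_injective X.subtype_injective, hT0]) ▸
            Subgroup.card_dvd_of_le le_sup_right
      · intro x hx
        rw [mem_normalizer_iff_conj, Subgroup.smul_inf, conj_eq_self hx, conj_normal]
    obtain ⟨A, T, hAH, -, hTH, hAc, hAp, hTc, hH, hHn⟩ := hdec H rfl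
    obtain ⟨B, U, hBK, -, hUK, hBc, hBp, hUc, hK, hKn⟩ := hdec K hHK.symm
    obtain ⟨g, hg⟩ := hconj p hp A B hAp hBp (hAc.trans hBc.symm)
    set M := Subgroup.normalizer (B : Set G)
    have hTM : MulAut.conj g • T ≤ M := by
      intro y hy
      rw [mem_conj_iff] at hy
      rw [mem_normalizer_iff_conj, ← hg, conj_conj]
      have h1 := mem_normalizer_iff_conj.1 (hHn (hTH hy))
      conv_rhs => rw [← h1, conj_conj, ← mul_assoc, ← mul_assoc, mul_inv_cancel, one_mul]
    have hUM : U ≤ M := hUK.trans hKn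
    have hpT : ¬ p ∣ Nat.card H / p ^ j := Nat.not_dvd_ordCompl hp Nat.card_pos.ne'
    have hcyc' : ∀ q : ℕ, q.Prime → q ∣ Nat.card H / p ^ j → CyclicPSubgroups q G := by
      intro q hq hd
      refine hcyc q hq fun hqr => ?_
      by_cases hpr : p = r
      · exact hpT ((hpr.trans hqr.symm) ▸ hd)
      · have := hcyc p hp hpr N hNp
        have hN1 : Monoid.exponent N ∣ p := Monoid.exponent_dvd_iff_forall_pow_eq_one.2 fun z =>
          Subtype.ext (hexp z z.2)
        rw [IsCyclic.exponent_eq_card, hk] at hN1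
        have hk1 : k ≤ 1 := (Nat.pow_dvd_pow_iff_le_right hp.one_lt).1 (by rwa [pow_one])
        have hj : 0 < j := hp.factorization_pos_of_dvd Nat.card_pos.ne' hpd
        omega
    obtain ⟨h, hh⟩ := conj_of_cyclic_aux (Nat.card M) M le_rfl
      ((MulAut.conj g • T).subgroupOf M) (U.subgroupOf M)
      (by rw [Nat.card_congr (Subgroup.subgroupOfEquivOfLe hTM).toEquiv,
        Nat.card_congr (Subgroup.subgroupOfEquivOfLe hUM).toEquiv, card_conj, hTc, hUc])
      (fun q hq hd => by
        rw [Nat.card_congr (Subgroup.subgroupOfEquivOfLe hTM).toEquiv, card_conj, hTc] at hd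
        exact (hcyc' q hq hd).subgroup M)
    have hh' := congrArg (Subgroup.map M.subtype) hh
    rw [map_conj, Subgroup.map_subgroupOf_eq_of_le hTM, Subgroup.map_subgroupOf_eq_of_le hUM] at hh'
    refine ⟨(h : G) * g, ?_⟩
    rw [← conj_conj, ← hH, ← hK, Subgroup.smul_sup, Subgroup.smul_sup, hg,
      mem_normalizer_iff_conj.1 h.2]
    exact congrArg (B ⊔ ·) hh'

end Cfsg.Agent.Solvable
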