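/-
Groups in which abelian subgroups of equal order are conjugate (owner: helper2).

* `BA`: the property;
* `sylow_of_nonabelian`: a nonabelian p-subgroup with commutators in the unique subgroup of order p
  is a Sylow 2-subgroup (solvable case);
* `BA.of_surjective`: the property passes to quotients of solvable groups.
-/
import Cfsg.Agent.Lib.Solvable.Hall
import Cfsg.Agent.Lib.Solvable.Fitting

set_option autoImplicit false

open Pointwise

namespace Cfsg.Agent.Solvable

universe u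

variable {G : Type*} [Group G]

/-- Any two abelian subgroups of the same order are conjugate. -/
def BA (G : Type*) [Group G] : Prop :=
  ∀ A B : Subgroup G, IsMulCommutative A → IsMulCommutative B → Nat.card A = Nat.card B →
    ∃ g : G, MulAut.conj g • A = B

theorem BA.conj_zpowers (hB : BA G) {x y : G} (h : orderOf x = orderOf y) :
    ∃ g : G, MulAut.conj g • Subgroup.zpowers x = Subgroup.zpowers y :=
  hB _ _ inferInstance inferInstance (by rw [Nat.card_zpowers, Nat.card_zpowers, h])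

theorem mul_pow_of_central {y u c : G} (hcy : Commute c y) (hcu : Commute c u)
    (h : u * y = c * (y * u)) (n : ℕ) : (y * u) ^ n = c ^ n.choose 2 * (y ^ n * u ^ n) := by
  have key : ∀ m : ℕ, u ^ m * y = c ^ m * (y * u ^ m) := by
    intro m
    induction m with
    | zero => simp
    | succ m ih =>
      calc u ^ (m + 1) * y = u ^ m * (u * y) := by rw [pow_succ, mul_assoc]
        _ = (u ^ m * c) * (y * u) := by rw [h, mul_assoc]
        _ = c * ((u ^ m * y) * u) := by rw [(hcu.pow_right m).symm.eq, mul_assoc, mul_assoc]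
        _ = c ^ (m + 1) * (y * u ^ (m + 1)) := by
            rw [ih, pow_succ' c, pow_succ u]; simp only [mul_assoc]
  induction n with
  | zero => simp
  | succ n ih =>
    rw [pow_succ, ih, Nat.choose_succ_succ', Nat.choose_one_right, add_comm, pow_add]
    calc c ^ n.choose 2 * (y ^ n * u ^ n) * (y * u)
        = c ^ n.choose 2 * (y ^ n * (u ^ n * y) * u) := by simp only [mul_assoc]
      _ = c ^ n.choose 2 * ((y ^ n * c ^ n) * (y * u ^ n * u)) := by rw [key]; simp only [mul_assoc]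
      _ = c ^ n.choose 2 * c ^ n * (y ^ (n + 1) * u ^ (n + 1)) := by
          rw [← ((hcy.pow_left n).pow_right n).eq, pow_succ y, pow_succ u]; simp only [mul_assoc]

variable [Finite G] {p : ℕ} [hp : Fact p.Prime] {N : Subgroup G}

/-- Two commuting `p`-elements: the one of smaller order is a power of the other. -/
theorem mem_zpowers_of_orderOf_dvd (hN : ∀ x : G, orderOf x = p → x ∈ N) (hNc : Nat.card N = p)
    (k : ℕ) : ∀ (u v : G) (m : ℕ), orderOf v = p ^ k → orderOf u = p ^ m → k ≤ m → Commute u v →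
      v ∈ Subgroup.zpowers u := by
  induction k with
  | zero =>
    intro u v m hv _ _ _
    rw [pow_zero, orderOf_eq_one_iff] at hv
    rw [hv]; exact one_mem _
  | succ k ih =>
    intro u v m hv hu hkm hc
    obtain ⟨m, rfl⟩ : ∃ m', m = m' + 1 := ⟨m - 1, by omega⟩
    have hvp : orderOf (v ^ p) = p ^ k := by
      rw [orderOf_pow_of_dvd hp.out.ne_zero (hv ▸ dvd_pow_self p (by omega)), hv, pow_succ,
        Nat.mul_div_cancel _ hp.out.pos]
    have hup : orderOf (u ^ p) = p ^ m := by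
      rw [orderOf_pow_of_dvd hp.out.ne_zero (hu ▸ dvd_pow_self p (by omega)), hu, pow_succ,
        Nat.mul_div_cancel _ hp.out.pos]
    obtain ⟨j, hj⟩ := Subgroup.mem_zpowers_iff.1
      (ih (u ^ p) (v ^ p) m hvp hup (by omega) (hc.pow_pow p p))
    have hNu : N ≤ Subgroup.zpowers u := by
      have ho : orderOf (u ^ p ^ m) = p := by
        rw [orderOf_pow_of_dvd (pow_ne_zero _ hp.out.ne_zero) (hu ▸ pow_dvd_pow p (Nat.le_succ m)), hu,
          pow_succ, Nat.mul_div_cancel_left _ (pow_pos hp.out.pos _)]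
      have hle : Subgroup.zpowers (u ^ p ^ m) ≤ N := Subgroup.zpowers_le.2 (hN _ ho)
      rw [← Subgroup.eq_of_le_of_card_ge hle (by rw [hNc, Nat.card_zpowers, ho])]
      exact Subgroup.zpowers_le.2 (pow_mem (Subgroup.mem_zpowers u) _)
    have h1 : (v * (u ^ j)⁻¹) ^ p = 1 := by
      rw [((hc.zpow_left j).inv_left.symm).mul_pow, ← hj, inv_pow, ← zpow_natCast (u ^ j), ← zpow_mul,
        ← zpow_natCast u, ← zpow_mul, mul_comm j, mul_inv_cancel]
    have h2 : v * (u ^ j)⁻¹ ∈ Subgroup.zpowers u := by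
      rcases (Nat.dvd_prime hp.out).1 (orderOf_dvd_of_pow_eq_one h1) with h | h
      · rw [orderOf_eq_one_iff.1 h]; exact one_mem _
      · exact hNu (hN _ h)
    have := mul_mem h2 (zpow_mem (Subgroup.mem_zpowers u) j)
    rwa [inv_mul_cancel_right] at this

/-- A normal subgroup of order `p` commutes with all `p`-elements. -/
theorem commute_of_mem_card_prime [hn : N.Normal] (hNc : Nat.card N = p) {x n : G} {k : ℕ}
    (hx : x ^ p ^ k = 1) (hn' : n ∈ N) : Commute x n := by
  rcases eq_or_ne n 1 with rfl | hn1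
  · exact Commute.one_right x
  have hgen : Subgroup.zpowers n = N := by
    haveI : Fact (Nat.card N).Prime := ⟨hNc ▸ hp.out⟩
    refine ((Subgroup.zpowers n).subgroupOf N).eq_bot_or_eq_top_of_prime_card.elim (fun h => ?_)
      (fun h => le_antisymm (Subgroup.zpowers_le.2 hn') (Subgroup.subgroupOf_eq_top.1 h))
    exact absurd (Subgroup.subgroupOf_eq_bot.1 h) fun hd =>
      hn1 (Subgroup.mem_bot.1 (disjoint_iff_inf_le.1 hd ⟨Subgroup.mem_zpowers n, hn'⟩))
  have hon : orderOf n = p := by rw [← Nat.card_zpowers, hgen, hNc]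
  obtain ⟨i, hi⟩ := Subgroup.mem_zpowers_iff.1 (hgen ▸ hn.conj_mem n hn' x : x * n * x⁻¹ ∈ Subgroup.zpowers n)
  have key : ∀ m : ℕ, x ^ m * n * (x ^ m)⁻¹ = n ^ (i ^ m) := by
    intro m
    induction m with
    | zero => simp
    | succ m ih =>
      calc x ^ (m + 1) * n * (x ^ (m + 1))⁻¹ = x * (x ^ m * n * (x ^ m)⁻¹) * x⁻¹ := by
            rw [pow_succ']; group
        _ = n ^ (i ^ (m + 1)) := by rw [ih, ← conj_zpow, ← hi, ← zpow_mul, ← pow_succ']
  have h1 := key (p ^ k)
  rw [hx, one_mul, inv_one, mul_one] at h1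
  have h2 : ((p : ℕ) : ℤ) ∣ i ^ p ^ k - 1 := by
    have : n ^ (i ^ p ^ k - 1) = 1 := by rw [zpow_sub_one, ← h1, mul_inv_cancel]
    have h3 := orderOf_dvd_iff_zpow_eq_one.2 this
    rwa [hon] at h3
  rw [← ZMod.intCast_zmod_eq_zero_iff_dvd, Int.cast_sub, Int.cast_pow, ZMod.pow_card_pow, Int.cast_one,
    ← Int.cast_one, ← Int.cast_sub, ZMod.intCast_zmod_eq_zero_iff_dvd, ← hon,
    orderOf_dvd_iff_zpow_eq_one, zpow_sub_one, mul_inv_eq_one] at h2
  exact mul_inv_eq_iff_eq_mul.1 (hi.symm.trans h2)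

omit hp in
theorem exists_pow_mem_not_mem (P : Subgroup G) {s : G} {k : ℕ} (hs : s ∉ P) (hk : s ^ 2 ^ k = 1) :
    ∃ i, s ^ 2 ^ i ∉ P ∧ (s ^ 2 ^ i) ^ 2 ∈ P := by
  induction k with
  | zero => rw [pow_zero, pow_one] at hk; exact absurd (hk ▸ one_mem P) hs
  | succ k ih =>
    by_cases h : s ^ 2 ^ k = 1
    · exact ih h
    · have hex : ∃ i, s ^ 2 ^ (i + 1) ∈ P := ⟨k, hk ▸ one_mem P⟩
      classical
      refine ⟨Nat.find hex, ?_, by rw [← pow_mul, ← pow_succ]; exact Nat.find_spec hex⟩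
      rcases Nat.eq_zero_or_pos (Nat.find hex) with h0 | h0
      · rw [h0, pow_zero, pow_one]; exact hs
      · have := Nat.find_min hex (m := Nat.find hex - 1) (by omega)
        rwa [Nat.sub_add_cancel h0] at this

/-- A nonabelian `p`-subgroup with commutators in the unique subgroup of order `p` is a Sylow subgroup,
in a solvable group with conjugate abelian subgroups of equal order. -/
theorem sylow_of_nonabelian [Group.IsSolvable G] (hB : BA G) [N.Normal] (hN : ∀ x : G, orderOf x = p → x ∈ N)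
    (hNc : Nat.card N = p) {P : Subgroup G} (hP : IsPGroup p P)
    (hc : ∀ a ∈ P, ∀ b ∈ P, a * b * a⁻¹ * b⁻¹ ∈ N) (hna : ¬ ∀ a ∈ P, ∀ b ∈ P, Commute a b) :
    Nat.card P = p ^ (Nat.card G).factorization p := by
  classical
  have hord : ∀ {a : G}, a ∈ P → ∃ k, orderOf a = p ^ k := fun {a} ha => by
    obtain ⟨k, hk⟩ := IsPGroup.iff_orderOf.1 hP ⟨a, ha⟩
    exact ⟨k, by rwa [Subgroup.orderOf_mk] at hk⟩
  have hcent : ∀ {n a : G}, n ∈ N → a ∈ P → Commute a n := fun {n a} hn ha => by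
    obtain ⟨k, hk⟩ := hord ha
    exact commute_of_mem_card_prime hNc (k := k) (by rw [← hk, pow_orderOf_eq_one]) hn
  have hNp : ∀ {n : G}, n ∈ N → n ^ p = 1 := fun {n} hn => by
    have := pow_card_eq_one' (G := N) (x := ⟨n, hn⟩)
    rw [hNc] at this
    exact congrArg Subtype.val this
  -- a pair of noncommuting elements
  obtain ⟨a, ha, b, hb, hab⟩ : ∃ a ∈ P, ∃ b ∈ P, ¬ Commute a b := by
    by_contra h
    push Not at h
    exact hna h
  obtain ⟨x, hx, y, hy, hxy, hle⟩ : ∃ x ∈ P, ∃ y ∈ P, ¬ Commute x y ∧ orderOf y ≤ orderOf x := by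
    rcases le_total (orderOf b) (orderOf a) with h | h
    · exact ⟨a, ha, b, hb, hab, h⟩
    · exact ⟨b, hb, a, ha, fun h' => hab h'.symm, h⟩
  obtain ⟨kx, hkx⟩ := hord hx
  obtain ⟨ky, hky⟩ := hord hy
  have hkk : ky ≤ kx := (Nat.pow_le_pow_iff_right hp.out.one_lt).1 (by rw [← hkx, ← hky]; exact hle)
  set c := x * y * x⁻¹ * y⁻¹ with hcdef
  have hcN : c ∈ N := hc x hx y hy
  have hcyx : x * y * x⁻¹ = c * y := by rw [hcdef]; group
  have hxyp : Commute x (y ^ p) := by
    have : x * y ^ p * x⁻¹ = y ^ p := by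
      rw [← conj_pow, hcyx, ((hcent hcN hy).symm).mul_pow, hNp hcN, one_mul]
    exact mul_inv_eq_iff_eq_mul.1 this
  have hky1 : 1 ≤ ky := by
    by_contra h
    rw [show ky = 0 by omega, pow_zero, orderOf_eq_one_iff] at hky
    exact hxy (hky ▸ Commute.one_right x)
  obtain ⟨j, hj⟩ := Subgroup.mem_zpowers_iff.1 (mem_zpowers_of_orderOf_dvd hN hNc (ky - 1) (x ^ p) (y ^ p)
    (kx - 1)
    (by
      obtain ⟨t, rfl⟩ : ∃ t, ky = t + 1 := ⟨ky - 1, by omega⟩
      rw [orderOf_pow_of_dvd hp.out.ne_zero (hky ▸ dvd_pow_self p (by omega)), hky, pow_succ,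
        Nat.mul_div_cancel _ hp.out.pos, Nat.add_sub_cancel])
    (by
      obtain ⟨t, rfl⟩ : ∃ t, kx = t + 1 := ⟨kx - 1, by omega⟩
      rw [orderOf_pow_of_dvd hp.out.ne_zero (hkx ▸ dvd_pow_self p (by omega)), hkx, pow_succ,
        Nat.mul_div_cancel _ hp.out.pos, Nat.add_sub_cancel])
    (by omega) (hxyp.pow_left p))
  set u := x ^ (-j) with hu
  have huP : u ∈ P := zpow_mem hx _
  set c' := u * y * u⁻¹ * y⁻¹ with hc'def
  have hc'N : c' ∈ N := hc u huP y hy
  have hpow : (y * u) ^ p = c' ^ p.choose 2 := by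
    rw [mul_pow_of_central (hcent hc'N hy).symm (hcent hc'N huP).symm (by rw [hc'def]; group) p]
    have : y ^ p * u ^ p = 1 := by
      rw [← hj, hu, ← zpow_natCast (x ^ (-j)), ← zpow_mul, ← zpow_natCast x, ← zpow_mul, ← zpow_add]
      rw [show (p : ℤ) * j + -j * p = 0 by ring, zpow_zero]
    rw [this, mul_one]
  have hconj : x * (y * u) * x⁻¹ = c * (y * u) := by
    have : Commute x u := (Commute.refl x).zpow_right _
    calc x * (y * u) * x⁻¹ = (x * y * x⁻¹) * (x * u * x⁻¹) := by group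
      _ = c * (y * u) := by rw [hcyx, this.eq, mul_inv_cancel_right, mul_assoc]
  have hc1 : c ≠ 1 := fun h => hxy (mul_inv_eq_iff_eq_mul.1 (by rw [hcyx, h, one_mul]))
  have hyuN : y * u ∉ N := fun h => hc1 (by
    have := hconj
    rw [(hcent h hx).eq, mul_inv_cancel_right] at this
    exact mul_right_cancel (b := y * u) (by rw [one_mul]; exact this.symm))
  have hyu1 : y * u ≠ 1 := fun h => hyuN (h ▸ one_mem N)
  -- p = 2
  obtain rfl : p = 2 := by
    by_contra hp2
    have hd : p ∣ p.choose 2 := hp.out.dvd_choose_self two_ne_zero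
      (lt_of_le_of_ne hp.out.two_le (Ne.symm hp2))
    obtain ⟨e, he⟩ := hd
    rw [he, pow_mul, hNp hc'N, one_pow] at hpow
    rcases (Nat.dvd_prime hp.out).1 (orderOf_dvd_of_pow_eq_one hpow) with h | h
    · exact hyu1 (orderOf_eq_one_iff.1 h)
    · exact hyuN (hN _ h)
  rw [show Nat.choose 2 2 = 1 from rfl, pow_one] at hpow
  have hz : ∀ n ∈ N, n ≠ 1 → ∀ m ∈ N, m ≠ 1 → n = m := by
    intro n hn hn1 m hm hm1
    obtain ⟨e, -, huniv⟩ := (Nat.card_eq_two_iff' (1 : N)).1 hNc
    exact congrArg Subtype.val ((huniv ⟨n, hn⟩ fun h => hn1 (congrArg Subtype.val h)).trans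
      (huniv ⟨m, hm⟩ fun h => hm1 (congrArg Subtype.val h)).symm)
  have h4 : ∀ {r : G}, r ^ 4 = 1 → r ∉ N → orderOf r = 4 := fun {r} hr hrN => by
    obtain ⟨i, hi, hie⟩ := (Nat.dvd_prime_pow (m := 2) Nat.prime_two).1 (orderOf_dvd_of_pow_eq_one hr)
    interval_cases i
    · exact absurd (orderOf_eq_one_iff.1 hie ▸ one_mem N) hrN
    · exact absurd (hN r (by rw [hie, pow_one])) hrN
    · exact hie
  have hy4' : (y * u) ^ 4 = 1 := by rw [show 4 = 2 * 2 from rfl, pow_mul, hpow, hNp hc'N]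
  have hyu4 := h4 hy4' hyuN
  have hc'1 : c' ≠ 1 := fun h => by
    rw [h] at hpow
    have := orderOf_dvd_of_pow_eq_one hpow
    rw [hyu4] at this
    omega
  have hcube : x * (y * u) * x⁻¹ = (y * u) ^ 3 := by
    rw [hconj, pow_succ, hpow, hz c hcN hc1 c' hc'N hc'1]
  set Y := y * u with hY
  have hYP : Y ∈ P := mul_mem hy huP
  have hncXY : ¬ Commute x Y := fun h => by
    have : c * Y = Y := by rw [← hconj, h.eq, mul_inv_cancel_right]
    exact hc1 (mul_eq_right.1 this)
  have hP4 : ∀ r ∈ P, r ^ 4 = 1 := by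
    intro r hr
    obtain ⟨k, hk⟩ := hord hr
    by_cases hk2 : k ≤ 2
    · exact orderOf_dvd_iff_pow_eq_one.1 (hk ▸ pow_dvd_pow (n := 2) 2 hk2)
    exfalso
    obtain ⟨t, rfl⟩ : ∃ t, k = t + 1 := ⟨k - 1, by omega⟩
    have hr2 : orderOf (r ^ 2) = 2 ^ t := by
      rw [orderOf_pow_of_dvd two_ne_zero (hk ▸ dvd_pow_self 2 (by omega)), hk, pow_succ,
        Nat.mul_div_cancel _ two_pos]
    have hsq : ∀ s ∈ P, Commute (r ^ 2) s := by
      intro s hs
      have hd : r * s * r⁻¹ * s⁻¹ ∈ N := hc r hr s hs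
      have : s * r ^ 2 * s⁻¹ = r ^ 2 := by
        have h1 : s * r * s⁻¹ = (r * s * r⁻¹ * s⁻¹)⁻¹ * r := by group
        rw [← conj_pow, h1, ((hcent (inv_mem hd) hr).symm).mul_pow, inv_pow, hNp hd, inv_one, one_mul]
      exact (mul_inv_eq_iff_eq_mul.1 this).symm
    obtain ⟨i, hi⟩ := Subgroup.mem_zpowers_iff.1 (mem_zpowers_of_orderOf_dvd hN hNc 2 (r ^ 2) Y t
      (by rw [hyu4]; rfl) hr2 (by omega) (hsq Y hYP))
    exact hncXY (hi ▸ (hsq x hx).zpow_left i).symm
  have hx4 : orderOf x = 4 := h4 (hP4 x hx) fun h => hncXY (hcent h hYP).symm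
  -- the Sylow subgroup and the core
  obtain ⟨S, hPS⟩ := hP.exists_le_sylow
  set O := Cfsg.pPrimeCore 2 G
  haveI : O.Normal := Cores.pPrimeCore_normal 2 G
  set q := QuotientGroup.mk' O with hq
  have hOco : (Nat.card O).Coprime 2 := Cores.coprime_card_pPrimeCore 2
  have hordS : ∀ {r : G}, r ∈ (S : Subgroup G) → ∃ k, orderOf r = 2 ^ k := fun {r} hr => by
    obtain ⟨k, hk⟩ := IsPGroup.iff_orderOf.1 S.2 ⟨r, hr⟩
    exact ⟨k, by rwa [Subgroup.orderOf_mk] at hk⟩
  have hinj : ∀ {r r' : G}, r ∈ (S : Subgroup G) → r' ∈ (S : Subgroup G) → q r = q r' → r = r' := by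
    intro r r' hr hr' he
    have hmem : r⁻¹ * r' ∈ O := QuotientGroup.eq.1 he
    obtain ⟨k, hk⟩ := hordS (mul_mem (inv_mem hr) hr')
    refine inv_mul_eq_one.1 (orderOf_eq_one_iff.1 (Nat.eq_one_of_dvd_coprimes (hOco.pow_right k) ?_ ?_))
    · rw [← Subgroup.orderOf_mk _ hmem]; exact orderOf_dvd_natCard _
    · rw [hk]
  set R := Cfsg.pCore 2 (G ⧸ O)
  haveI hRn : R.Normal := Cores.pCore_normal 2 _
  haveI : Group.IsSolvable (G ⧸ O) := Group.isSolvable_of_surjective (QuotientGroup.mk'_surjective O)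
  have hCR : Subgroup.centralizer (R : Set (G ⧸ O)) ≤ R :=
    centralizer_pCore_le_of_isSolvable (Cores.pPrimeCore_quotient_self 2)
  have hlift : ∀ {r : G ⧸ O}, r ∈ R → ∃ g : G, g ∈ S ∧ q g = r := by
    intro r hr
    let Sb : Sylow 2 (G ⧸ O) := S.mapSurjective (QuotientGroup.mk'_surjective O)
    have hle : R ≤ (Sb : Subgroup (G ⧸ O)) := by
      rw [← Sb.is_maximal' (IsPGroup.to_sup_of_normal_right Sb.2 (Cores.isPGroup_pCore 2 (G ⧸ O)))
        le_sup_left]
      exact le_sup_right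
    obtain ⟨g, hg, he⟩ := hle hr
    exact ⟨g, hg, he⟩
  have hxS := hPS hx
  have hYS := hPS hYP
  -- some element of order 4 in R
  obtain ⟨e, heS, heR, he4⟩ : ∃ e : G, e ∈ S ∧ q e ∈ R ∧ orderOf e = 4 := by
    by_contra hcon
    push Not at hcon
    have hsmall : ∀ g : G, g ∈ S → q g ∈ R → g ∈ N := by
      intro g hg hgR
      obtain ⟨k, hk⟩ := hordS hg
      rcases k with _ | _ | k
      · rw [pow_zero, orderOf_eq_one_iff] at hk; rw [hk]; exact one_mem N
      · exact hN g (by rw [hk, zero_add, pow_one])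
      · refine absurd ?_ (hcon (g ^ 2 ^ k) (pow_mem hg _) (by rw [map_pow]; exact pow_mem hgR _))
        rw [orderOf_pow_of_dvd (pow_ne_zero _ two_ne_zero) (hk ▸ pow_dvd_pow 2 (by omega)), hk,
          Nat.pow_div (by omega) two_pos, show k + 1 + 1 - k = 2 by omega]
        rfl
    have hmem : q Y ∈ R := hCR (Subgroup.mem_centralizer_iff.2 fun r hr => by
      obtain ⟨g, hg, rfl⟩ := hlift hr
      exact (((hcent (hsmall g hg hr) hYP).symm).map q).eq)
    exact hyuN (hsmall Y hYS hmem)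
  have hall4 : ∀ r : G, r ∈ S → orderOf r = 4 → q r ∈ R := by
    intro r _ hr
    obtain ⟨g, hg⟩ := hB.conj_zpowers (he4.trans hr.symm)
    obtain ⟨_, hi, rfl⟩ : r ∈ MulAut.conj g • Subgroup.zpowers e := hg ▸ Subgroup.mem_zpowers r
    obtain ⟨i, rfl⟩ := Subgroup.mem_zpowers_iff.1 hi
    show q (g * e ^ i * g⁻¹) ∈ R
    rw [map_mul, map_mul, map_inv, map_zpow]
    exact hRn.conj_mem _ (zpow_mem heR i) _
  -- a cyclic subgroup of order 4 normal in R
  obtain ⟨e0, he0S, he0R, he04, he0n⟩ : ∃ e0 : G, e0 ∈ S ∧ q e0 ∈ R ∧ orderOf e0 = 4 ∧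
      ∀ r : G, r ∈ S → q r ∈ R → r * e0 * r⁻¹ ∈ Subgroup.zpowers e0 := by
    set RS := (S : Subgroup G) ⊓ R.comap q
    set NR := N.subgroupOf RS
    have hRSp : IsPGroup 2 RS := S.2.to_le inf_le_left
    have hQp : IsPGroup 2 (RS ⧸ NR) := hRSp.to_quotient NR
    haveI : Nontrivial (RS ⧸ NR) := by
      rw [QuotientGroup.nontrivial_iff]
      intro h
      have h1 : e ∈ N := Subgroup.subgroupOf_eq_top.1 h (Subgroup.mem_inf.2 ⟨heS, heR⟩)
      have h2 := orderOf_dvd_of_pow_eq_one (hNp h1)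
      rw [he4] at h2
      omega
    haveI := hQp.center_nontrivial
    obtain ⟨cz, hcz⟩ := exists_prime_orderOf_dvd_card' (G := Subgroup.center (RS ⧸ NR)) 2 (by
      obtain ⟨m, hm⟩ := IsPGroup.iff_card.1 (hQp.to_subgroup (Subgroup.center (RS ⧸ NR)))
      rw [hm]
      refine dvd_pow_self 2 fun h0 => ?_
      rw [h0, pow_zero] at hm
      exact absurd hm Finite.one_lt_card.ne')
    obtain ⟨w, hw⟩ := QuotientGroup.mk_surjective (cz : RS ⧸ NR)
    have hwN : (w : G) ∉ N := fun h => by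
      have : cz = 1 := Subtype.ext (hw ▸ (QuotientGroup.eq_one_iff w).2 h)
      rw [this, orderOf_one] at hcz
      omega
    have hw2 : (w : G) ^ 2 ∈ N := by
      have h1 : (QuotientGroup.mk (w ^ 2) : RS ⧸ NR) = 1 := by
        rw [QuotientGroup.mk_pow, hw, ← SubmonoidClass.coe_pow, ← hcz, pow_orderOf_eq_one]; rfl
      have h3 := (QuotientGroup.eq_one_iff _).1 h1
      exact h3
    have hw4 : orderOf (w : G) = 4 := h4 (by rw [show 4 = 2 * 2 from rfl, pow_mul, hNp hw2]) hwN
    refine ⟨w, (Subgroup.mem_inf.1 w.2).1, (Subgroup.mem_inf.1 w.2).2, hw4, fun r hr hrR => ?_⟩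
    have hcm := Subgroup.mem_center_iff.1 (cz.2) (QuotientGroup.mk (⟨r, Subgroup.mem_inf.2 ⟨hr, hrR⟩⟩ : RS))
    rw [← hw, ← QuotientGroup.mk_mul, ← QuotientGroup.mk_mul, eq_comm, QuotientGroup.eq] at hcm
    have hm : (w : G)⁻¹ * (r * w * r⁻¹) ∈ N := by
      have h1 : ((w : G) * r)⁻¹ * (r * w) ∈ N := hcm
      have h2 := (inferInstance : N.Normal).conj_mem _ h1 r
      convert h2 using 1
      group
    have : r * (w : G) * r⁻¹ = w * ((w : G)⁻¹ * (r * w * r⁻¹)) := by group
    rw [this]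
    refine mul_mem (Subgroup.mem_zpowers _) ?_
    rcases eq_or_ne ((w : G)⁻¹ * (r * w * r⁻¹)) 1 with h | h
    · rw [h]; exact one_mem _
    · rw [hz _ hm h _ hw2 fun h2 => by
        have := orderOf_dvd_of_pow_eq_one h2
        rw [hw4] at this; omega]
      exact pow_mem (Subgroup.mem_zpowers _) 2
  have hnormal : ∀ {r s : G}, r ∈ (S : Subgroup G) → s ∈ (S : Subgroup G) → q r ∈ R → orderOf s = 4 →
      r * s * r⁻¹ ∈ Subgroup.zpowers s := by
    intro r s hr hs hrR hs4
    obtain ⟨g, hg⟩ := hB.conj_zpowers (he04.trans hs4.symm)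
    have hrg : (q g)⁻¹ * q r * q g ∈ R := by simpa using hRn.conj_mem _ hrR (q g)⁻¹
    obtain ⟨r', hr'S, hr'⟩ := hlift hrg
    have hsmem : g⁻¹ * s * g ∈ Subgroup.zpowers e0 := by
      rw [← mem_conj_iff, hg]; exact Subgroup.mem_zpowers s
    obtain ⟨i, hi⟩ := Subgroup.mem_zpowers_iff.1 hsmem
    obtain ⟨l, hl⟩ := Subgroup.mem_zpowers_iff.1 (he0n r' hr'S (by rw [hr']; exact hrg))
    have hse : s = g * e0 ^ i * g⁻¹ := by rw [hi]; group
    have hgs : MulAut.conj g • Subgroup.zpowers e0 = Subgroup.zpowers s := hg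
    have hmem : g * e0 ^ (l * i) * g⁻¹ ∈ Subgroup.zpowers s := by
      rw [← hgs, mem_conj_iff]
      simpa [mul_assoc] using zpow_mem (Subgroup.mem_zpowers e0) (l * i)
    have heq : r * s * r⁻¹ = g * e0 ^ (l * i) * g⁻¹ := by
      refine hinj (mul_mem (mul_mem hr hs) (inv_mem hr))
        ((Subgroup.zpowers_le.2 hs : Subgroup.zpowers s ≤ S) hmem) ?_
      have h1 : q r' * q e0 ^ i * (q r')⁻¹ = q e0 ^ (l * i) := by
        rw [← conj_zpow, ← map_inv, ← map_mul, ← map_mul, ← hl, map_zpow, ← zpow_mul]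
      rw [hr'] at h1
      rw [hse]
      simp only [map_mul, map_inv, map_zpow]
      rw [← h1]
      group
    rwa [heq]
  have hcases : ∀ {w v : G}, orderOf w = 4 → orderOf v = 4 → v ∈ Subgroup.zpowers w → v = w ∨ v = w ^ 3 := by
    intro w v hw hv hmem
    obtain ⟨i, hi, rfl⟩ : ∃ i < 4, w ^ i = v := by
      classical
      obtain ⟨i, hi, he⟩ := Finset.mem_image.1
        ((isOfFinOrder_of_finite w).mem_zpowers_iff_mem_range_orderOf.1 hmem)
      exact ⟨i, hw ▸ Finset.mem_range.1 hi, he⟩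
    interval_cases i
    · rw [pow_zero, orderOf_one] at hv; omega
    · left; rw [pow_one]
    · rw [orderOf_pow, hw] at hv; simp at hv
    · exact Or.inr rfl
  have hcentr : ∀ {w v r : G}, w ∈ (S : Subgroup G) → v ∈ (S : Subgroup G) → r ∈ (S : Subgroup G) →
      orderOf w = 4 → orderOf v = 4 → ¬ Commute w v → q r ∈ R → Commute w r → r ∈ Subgroup.zpowers w := by
    intro w v r hw hv hr hw4 hv4 hwv hrR hwr
    obtain ⟨k, hk⟩ := hordS hr
    by_cases hk2 : k ≤ 2
    · exact mem_zpowers_of_orderOf_dvd hN hNc k w r 2 hk (by rw [hw4]; rfl) hk2 hwr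
    · exfalso
      obtain ⟨t, rfl⟩ : ∃ t, k = t + 1 := ⟨k - 1, by omega⟩
      have hr2 : orderOf (r ^ 2) = 2 ^ t := by
        rw [orderOf_pow_of_dvd two_ne_zero (hk ▸ dvd_pow_self 2 (by omega)), hk, pow_succ,
          Nat.mul_div_cancel _ two_pos]
      have hwmem := mem_zpowers_of_orderOf_dvd hN hNc 2 (r ^ 2) w t (by rw [hw4]; rfl) hr2 (by omega)
        ((hwr.pow_right 2).symm)
      have hvr : Commute (r ^ 2) v := by
        have h1 : orderOf (r * v * r⁻¹) = 4 := by rw [← hv4]; exact (MulAut.conj r).orderOf_eq v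
        have h2 : r ^ 2 * v * (r ^ 2)⁻¹ = v := by
          have he : r ^ 2 * v * (r ^ 2)⁻¹ = r * (r * v * r⁻¹) * r⁻¹ := by rw [pow_two]; group
          rcases hcases hv4 h1 (hnormal hr hv hrR hv4) with h | h
          · rw [he, h, h]
          · rw [he, h, ← conj_pow, h, ← pow_mul, show 3 * 3 = 4 * 2 + 1 from rfl, pow_succ, pow_mul, ← hv4,
              pow_orderOf_eq_one, one_pow, one_mul]
        exact mul_inv_eq_iff_eq_mul.1 h2
      obtain ⟨i, rfl⟩ := Subgroup.mem_zpowers_iff.1 hwmem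
      exact hwv (hvr.zpow_left i)
  have hdecomp : ∀ {w v r : G}, w ∈ (S : Subgroup G) → v ∈ (S : Subgroup G) → r ∈ (S : Subgroup G) →
      orderOf w = 4 → orderOf v = 4 → ¬ Commute w v → q r ∈ R →
      r ∈ Subgroup.zpowers w ∨ v⁻¹ * r ∈ Subgroup.zpowers w := by
    intro w v r hw hv hr hw4 hv4 hwv hrR
    have ho : ∀ t : G, orderOf (t * w * t⁻¹) = 4 := fun t => by rw [← hw4]; exact (MulAut.conj t).orderOf_eq w
    rcases hcases hw4 (ho r) (hnormal hr hw hrR hw4) with h | h
    · exact Or.inl (hcentr hw hv hr hw4 hv4 hwv hrR (mul_inv_eq_iff_eq_mul.1 h).symm)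
    · refine Or.inr (hcentr hw hv (mul_mem (inv_mem hv) hr) hw4 hv4 hwv ?_ ?_)
      · rw [map_mul, map_inv]; exact mul_mem (inv_mem (hall4 v hv hv4)) hrR
      · have hvw : v * w * v⁻¹ = w ^ 3 := by
          rcases hcases hw4 (ho v) (hnormal hv hw (hall4 v hv hv4) hw4) with h' | h'
          · exact absurd (mul_inv_eq_iff_eq_mul.1 h').symm hwv
          · exact h'
        have : v⁻¹ * r * w * (v⁻¹ * r)⁻¹ = w := by
          calc v⁻¹ * r * w * (v⁻¹ * r)⁻¹ = v⁻¹ * (r * w * r⁻¹) * v := by group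
            _ = v⁻¹ * (v * w * v⁻¹) * v := by rw [h, hvw]
            _ = w := by group
        exact (mul_inv_eq_iff_eq_mul.1 this).symm
  have hRP : ∀ {r : G}, r ∈ (S : Subgroup G) → q r ∈ R → r ∈ P := by
    intro r hr hrR
    rcases hdecomp hYS hxS hr hyu4 hx4 (fun h => hncXY h.symm) hrR with h | h
    · exact Subgroup.zpowers_le.2 hYP h
    · have := mul_mem hx (Subgroup.zpowers_le.2 hYP h)
      rwa [mul_inv_cancel_left] at this
  have hNP : ∀ n ∈ N, n ∈ P := fun n hn => by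
    rcases eq_or_ne n 1 with h | h
    · exact h ▸ one_mem P
    · exact hz c hcN hc1 n hn h ▸ mul_mem (mul_mem (mul_mem hx hy) (inv_mem hx)) (inv_mem hy)
  have h4P : ∀ r ∈ (S : Subgroup G), r ^ 4 = 1 → r ∈ P := fun r hr hr4 => by
    by_cases hrN : r ∈ N
    · exact hNP r hrN
    · exact hRP hr (hall4 r hr (h4 hr4 hrN))
  have hSP : (S : Subgroup G) ≤ P := by
    intro s hs
    by_contra hsP
    obtain ⟨k, hk⟩ := hordS hs
    obtain ⟨i, hi1, hi2⟩ := exists_pow_mem_not_mem P hsP (hk ▸ pow_orderOf_eq_one s)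
    set t := s ^ 2 ^ i
    have htS : t ∈ (S : Subgroup G) := pow_mem hs _
    have ht4 : t ^ 4 ≠ 1 := fun h => hi1 (h4P t htS h)
    set w := t ^ 2 with hwdef
    have hwS : w ∈ (S : Subgroup G) := hPS hi2
    have hwN : w ∉ N := fun h => ht4 (by rw [show 4 = 2 * 2 from rfl, pow_mul, ← hwdef, hNp h])
    have hw4 : orderOf w = 4 := h4 (hP4 w hi2) hwN
    obtain ⟨j, hjP, hj4, hwj⟩ : ∃ j ∈ P, orderOf j = 4 ∧ ¬ Commute w j := by
      by_contra hcon
      push Not at hcon
      have h1 := hcon Y hYP hyu4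
      have h2 := hcon x hx hx4
      have hmem := hcentr hYS hxS hwS hyu4 hx4 (fun h => hncXY h.symm) (hall4 w hwS hw4) h1.symm
      rcases hcases hyu4 hw4 hmem with h | h
      · exact hncXY (h ▸ h2).symm
      · refine hncXY ?_
        have h3 : Commute (w ^ 3) x := h2.pow_left 3
        rw [h, ← pow_mul, show 3 * 3 = 4 * 2 + 1 from rfl, pow_succ, pow_mul, hy4', one_pow, one_mul] at h3
        exact h3.symm
    have hjS := hPS hjP
    set j' := t⁻¹ * j * t with hj'
    have hj'4 : orderOf j' = 4 := by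
      rw [← hj4, hj']
      simpa using (MulAut.conj t⁻¹).orderOf_eq j
    have hj'S : j' ∈ (S : Subgroup G) := mul_mem (mul_mem (inv_mem htS) hjS) htS
    have htw : Commute t w := (Commute.refl t).pow_right 2
    rcases hdecomp hwS hjS hj'S hw4 hj4 hwj (hall4 j' hj'S hj'4) with h | h
    · obtain ⟨l, hl⟩ := Subgroup.mem_zpowers_iff.1 h
      have hje : j = t * w ^ l * t⁻¹ := by rw [hl, hj']; group
      refine hwj ?_
      rw [hje, (htw.zpow_right l).eq, mul_inv_cancel_right]
      exact (Commute.refl w).zpow_right l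
    · obtain ⟨l, hl, hle⟩ : ∃ l < 4, w ^ l = j⁻¹ * j' := by
        obtain ⟨l, hl, he⟩ := Finset.mem_image.1
          ((isOfFinOrder_of_finite w).mem_zpowers_iff_mem_range_orderOf.1 h)
        exact ⟨l, hw4 ▸ Finset.mem_range.1 hl, he⟩
      have hjj : j' = j * w ^ l := by rw [hle, mul_inv_cancel_left]
      have hj2 : j * j ∈ N := by
        rw [← pow_two]
        exact hN _ (by rw [orderOf_pow, hj4]; rfl)
      have hwjw : j⁻¹ * w * j = w ^ 3 := by
        have ho : orderOf (j⁻¹ * w * j) = 4 := by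
          rw [← hw4]; simpa using (MulAut.conj j⁻¹).orderOf_eq w
        have hm : j⁻¹ * w * j ∈ Subgroup.zpowers w := by
          have := hnormal (inv_mem hjS) hwS (by rw [map_inv]; exact inv_mem (hall4 j hjS hj4)) hw4
          simpa using this
        rcases hcases hw4 ho hm with h' | h'
        · exact absurd (by rw [mul_assoc, inv_mul_eq_iff_eq_mul] at h'; exact h') hwj
        · exact h'
      have hodd : ∀ e : ℕ, e = 1 ∨ e = 3 → j' = j * w ^ e → False := by
        intro e he hje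
        have hsq : (t * j) ^ 2 = w ^ (1 + 3 * e) * (j * j) := by
          have e1 : (t * j) ^ 2 = w * j' * j := by rw [hwdef, hj', pow_two, pow_two]; group
          have e2 : j⁻¹ * w ^ e * j = w ^ (3 * e) := by
            rw [pow_mul, ← hwjw]
            simpa using (conj_pow (a := j⁻¹) (b := w) (i := e)).symm
          have e3 : Commute (w ^ (3 * e)) (j * j) := (hcent hj2 (pow_mem hi2 _))
          rw [e1, hje]
          calc w * (j * w ^ e) * j = w * ((j * j) * (j⁻¹ * w ^ e * j)) := by group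
            _ = w * (w ^ (3 * e) * (j * j)) := by rw [e2, e3.eq]
            _ = w ^ (1 + 3 * e) * (j * j) := by rw [pow_add, pow_one, mul_assoc]
        have hw2N : w ^ 2 ∈ N := hN _ (by rw [orderOf_pow, hw4]; rfl)
        have hmemN : (t * j) ^ 2 ∈ N := by
          rw [hsq]
          refine mul_mem ?_ hj2
          rcases he with rfl | rfl
          · rw [show 1 + 3 * 1 = 2 * 2 from rfl, pow_mul]; exact pow_mem hw2N 2
          · rw [show 1 + 3 * 3 = 2 * 5 from rfl, pow_mul]; exact pow_mem hw2N 5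
        have := h4P (t * j) (mul_mem htS hjS) (by rw [show 4 = 2 * 2 from rfl, pow_mul, hNp hmemN])
        exact hi1 (by simpa using mul_mem this (inv_mem hjP))
      have hjw : Commute j w → False := fun h' => hwj h'.symm
      interval_cases l
      · refine hjw ?_
        rw [pow_zero, mul_one, hj', mul_assoc, inv_mul_eq_iff_eq_mul] at hjj
        exact (show Commute j t from hjj).pow_right 2
      · exact hodd 1 (Or.inl rfl) hjj
      · refine hjw ?_
        have e1 : t⁻¹ * j' * t = j := by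
          have e2 : t⁻¹ * (j * w ^ 2) * t = j' * w ^ 2 := by
            rw [hj']
            calc t⁻¹ * (j * w ^ 2) * t = t⁻¹ * j * (w ^ 2 * t) := by simp only [mul_assoc]
              _ = t⁻¹ * j * t * w ^ 2 := by rw [← (htw.pow_right 2).eq]; simp only [mul_assoc]
          rw [hjj, e2, hjj, mul_assoc, ← pow_add, show 2 + 2 = orderOf w by rw [hw4], pow_orderOf_eq_one,
            mul_one]
        rw [hj', show t⁻¹ * (t⁻¹ * j * t) * t = w⁻¹ * j * w by rw [hwdef, pow_two]; group, mul_assoc,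
          inv_mul_eq_iff_eq_mul] at e1
        exact e1
      · exact hodd 3 (Or.inr rfl) hjj
  rw [le_antisymm hPS hSP]
  exact S.card_eq_multiplicity

/-- Lifting an abelian section with kernel of coprime order to an abelian subgroup. -/
theorem exists_lift_abelian {G : Type*} [Group G] [Finite G] {N A : Subgroup G} [N.Normal] (hNA : N ≤ A)
    (h : (Nat.card N).Coprime (N.relIndex A)) (hc : ∀ a ∈ A, ∀ b ∈ A, a * b * a⁻¹ * b⁻¹ ∈ N) :
    ∃ U ≤ A, IsMulCommutative U ∧ Nat.card U = N.relIndex A ∧ U ⊔ N = A := by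
  obtain ⟨U, hUA, hUc, hUN⟩ := exists_lift_of_coprime hNA h
  refine ⟨U, hUA, ⟨⟨fun a b => Subtype.ext ?_⟩⟩, hUc, hUN⟩
  have hb : N ⊓ U = ⊥ := inf_eq_bot_of_coprime (hUc ▸ h)
  have h1 := mul_mem (mul_mem (mul_mem a.2 b.2) (inv_mem a.2)) (inv_mem b.2)
  have := Subgroup.mem_bot.1 (hb ▸ Subgroup.mem_inf.2 ⟨hc _ (hUA a.2) _ (hUA b.2), h1⟩)
  exact mul_inv_eq_iff_eq_mul.1 (mul_inv_eq_one.1 this)

omit hp in
theorem conj_sup {G : Type*} [Group G] (g : G) (H K : Subgroup G) :
    MulAut.conj g • (H ⊔ K) = MulAut.conj g • H ⊔ MulAut.conj g • K :=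
  Subgroup.smul_sup _ _ _

/-- The structure of the preimage of an abelian section over the unique subgroup of order `p`. -/
theorem exists_decomp {G : Type*} [Group G] [Finite G] {p : ℕ} [hp : Fact p.Prime] {N : Subgroup G}
    [N.Normal] (hN : ∀ x : G, orderOf x = p → x ∈ N) (hNc : Nat.card N = p) {A : Subgroup G} (hNA : N ≤ A)
    (hd : p ∣ N.relIndex A) (hc : ∀ a ∈ A, ∀ b ∈ A, a * b * a⁻¹ * b⁻¹ ∈ N) :
    ∃ P U : Subgroup G, IsPGroup p P ∧ P ≤ A ∧ Nat.card P = p ^ (Nat.card A).factorization p ∧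
      IsMulCommutative U ∧ Nat.card U * Nat.card P = Nat.card A ∧ U ⊔ P = A ∧
      P ≤ Subgroup.centralizer (U : Set G) ∧ ¬ p ∣ Nat.card U := by
  let P' : Sylow p A := default
  set P := (P' : Subgroup A).map A.subtype with hPdef
  have hPp : IsPGroup p P := P'.2.map _
  have hPA : P ≤ A := Subgroup.map_subtype_le _
  have hPc : Nat.card P = p ^ (Nat.card A).factorization p := by
    rw [hPdef, Subgroup.card_map_of_injective A.subtype_injective, P'.card_eq_multiplicity]
  haveI : (N.subgroupOf A).Normal := Subgroup.normal_subgroupOf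
  have hNP' : N.subgroupOf A ≤ (P' : Subgroup A) := by
    have h1 : IsPGroup p (N.subgroupOf A) :=
      IsPGroup.of_card (n := 1) (by rw [pow_one, Nat.card_congr (Subgroup.subgroupOfEquivOfLe hNA).toEquiv, hNc])
    rw [← P'.is_maximal' (IsPGroup.to_sup_of_normal_right P'.2 h1) le_sup_left]
    exact le_sup_right
  haveI hP'n : (P' : Subgroup A).Normal := ⟨fun n hn g => by
    have h1 : g * n * g⁻¹ * n⁻¹ ∈ (P' : Subgroup A) :=
      hNP' (Subgroup.mem_subgroupOf.2 (hc _ g.2 _ n.2))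
    simpa using mul_mem h1 hn⟩
  obtain ⟨U', hU'⟩ := Subgroup.exists_right_complement'_of_coprime (N := (P' : Subgroup A))
    P'.card_coprime_index
  set U := U'.map A.subtype with hUdef
  have hU'c : Nat.card U' = (P' : Subgroup A).index := hU'.symm.index_eq_card.symm
  have hUp : ¬ p ∣ Nat.card U := by
    rw [hUdef, Subgroup.card_map_of_injective A.subtype_injective, hU'c]
    exact P'.not_dvd_index
  have hcardP : Nat.card P = Nat.card (P' : Subgroup A) :=
    Subgroup.card_map_of_injective A.subtype_injective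
  have hUA : U ≤ A := Subgroup.map_subtype_le _
  have hNp : ∀ {n : G}, n ∈ N → n ^ p = 1 := fun {n} hn => by
    have := pow_card_eq_one' (G := N) (x := ⟨n, hn⟩)
    rw [hNc] at this
    exact congrArg Subtype.val this
  obtain ⟨y, hyP, hyN⟩ : ∃ y ∈ P, y ∉ N := by
    by_contra hcon
    push Not at hcon
    have h1 : Nat.card P ≤ p := hNc ▸ Nat.le_of_dvd Nat.card_pos (Subgroup.card_dvd_of_le hcon)
    have h2 := N.relIndex_mul_relIndex A ⊤ hNA le_top
    have h3 : Nat.card A = Nat.card N * N.relIndex A := by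
      rw [← Nat.card_congr (Subgroup.subgroupOfEquivOfLe hNA).toEquiv]
      exact (Subgroup.card_mul_index _).symm
    have h4 : p ^ 2 ∣ Nat.card A := by rw [h3, hNc, pow_two]; exact Nat.mul_dvd_mul_left p hd
    have h5 := (hp.out.pow_dvd_iff_le_factorization Nat.card_pos.ne').1 h4
    rw [hPc] at h1
    have h6 := Nat.pow_le_pow_right hp.out.pos h5
    nlinarith [hp.out.two_le]
  obtain ⟨k, hk⟩ := IsPGroup.iff_orderOf.1 hPp ⟨y, hyP⟩
  rw [Subgroup.orderOf_mk] at hk
  have hk2 : 2 ≤ k := by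
    by_contra h
    interval_cases k
    · exact hyN (orderOf_eq_one_iff.1 (by rw [hk, pow_zero]) ▸ one_mem N)
    · exact hyN (hN y (by rw [hk, pow_one]))
  have hz : orderOf (y ^ p ^ (k - 1)) = p := by
    rw [orderOf_pow_of_dvd (pow_ne_zero _ hp.out.ne_zero) (hk ▸ pow_dvd_pow p (by omega)), hk,
      Nat.pow_div (by omega) hp.out.pos, show k - (k - 1) = 1 by omega, pow_one]
  have hNgen : Subgroup.zpowers (y ^ p ^ (k - 1)) = N :=
    Subgroup.eq_of_le_of_card_ge (Subgroup.zpowers_le.2 (hN _ hz)) (by rw [hNc, Nat.card_zpowers, hz])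
  have hcy : ∀ {n : G}, n ∈ N → Commute y n := fun {n} hn =>
    commute_of_mem_card_prime hNc (k := k) (by rw [← hk, pow_orderOf_eq_one]) hn
  have hUN : ∀ {a n : G}, a ∈ U → n ∈ N → Commute a n := by
    intro a n ha hn
    have hd' : a * y * a⁻¹ * y⁻¹ ∈ N := hc _ (hUA ha) _ (hPA hyP)
    have h1 : a * y ^ p * a⁻¹ = y ^ p := by
      have e : a * y * a⁻¹ = (a * y * a⁻¹ * y⁻¹) * y := by group
      rw [← conj_pow, e, ((hcy hd').symm).mul_pow, hNp hd', one_mul]
    have h2 : Commute a (y ^ p ^ (k - 1)) := by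
      have h3 : Commute a (y ^ p) := mul_inv_eq_iff_eq_mul.1 h1
      obtain ⟨t, ht⟩ : ∃ t, k - 1 = t + 1 := ⟨k - 2, by omega⟩
      rw [ht, pow_succ', pow_mul]
      exact h3.pow_right _
    obtain ⟨i, rfl⟩ := Subgroup.mem_zpowers_iff.1 (hNgen.symm ▸ hn : n ∈ Subgroup.zpowers (y ^ p ^ (k - 1)))
    exact h2.zpow_right i
  refine ⟨P, U, hPp, hPA, hPc, ⟨⟨fun a b => Subtype.ext ?_⟩⟩, ?_, ?_, fun x hx => ?_, hUp⟩
  · have hd' : (a : G) * b * (a : G)⁻¹ * (b : G)⁻¹ ∈ N := hc _ (hUA a.2) _ (hUA b.2)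
    have hmem : (a : G) * b * (a : G)⁻¹ * (b : G)⁻¹ ∈ U :=
      mul_mem (mul_mem (mul_mem a.2 b.2) (inv_mem a.2)) (inv_mem b.2)
    have hb : N ⊓ U = ⊥ := inf_eq_bot_of_coprime (by
      rw [hNc]; exact hp.out.coprime_iff_not_dvd.2 hUp)
    have := Subgroup.mem_bot.1 (hb ▸ Subgroup.mem_inf.2 ⟨hd', hmem⟩)
    exact mul_inv_eq_iff_eq_mul.1 (mul_inv_eq_one.1 this)
  · rw [hUdef, Subgroup.card_map_of_injective A.subtype_injective, hcardP, hU'c,
      Subgroup.index_mul_card]
  · rw [hUdef, hPdef, ← Subgroup.map_sup, sup_comm, hU'.sup_eq_top, ← MonoidHom.range_eq_map,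
      Subgroup.range_subtype]
  · refine Subgroup.mem_centralizer_iff.2 fun a ha => ?_
    set n := a * x * a⁻¹ * x⁻¹ with hn
    have hnN : n ∈ N := hc _ (hUA ha) _ (hPA hx)
    have key : ∀ m : ℕ, a ^ m * x * (a ^ m)⁻¹ = n ^ m * x := by
      intro m
      induction m with
      | zero => simp
      | succ m ih =>
        calc a ^ (m + 1) * x * (a ^ (m + 1))⁻¹ = a * (a ^ m * x * (a ^ m)⁻¹) * a⁻¹ := by
              rw [pow_succ']; group
          _ = (a * n ^ m) * x * a⁻¹ := by rw [ih]; group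
          _ = n ^ (m + 1) * x := by
              rw [((hUN ha hnN).pow_right m).eq, pow_succ, hn]; group
    have h1 := key (Nat.card U)
    have ha1 : a ^ Nat.card U = 1 := congrArg Subtype.val (pow_card_eq_one' (G := U) (x := ⟨a, ha⟩))
    rw [ha1, one_mul, inv_one, mul_one] at h1
    have hn1 : n ^ Nat.card U = 1 := mul_eq_right.1 h1.symm
    have : n = 1 := orderOf_eq_one_iff.1 (Nat.eq_one_of_dvd_coprimes
      (hp.out.coprime_iff_not_dvd.2 hUp) (orderOf_dvd_of_pow_eq_one (hNp hnN))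
      (orderOf_dvd_of_pow_eq_one hn1))
    exact mul_inv_eq_iff_eq_mul.1 (mul_inv_eq_one.1 this)

/-- The property passes to the quotient by a minimal normal subgroup of a solvable group. -/
theorem BA.quotient_minimal {G : Type*} [Group G] [Finite G] [Group.IsSolvable G] (hB : BA G) {p : ℕ}
    [hp : Fact p.Prime] (N : Subgroup G) [hNn : N.Normal] (hNp : IsPGroup p N) (hN1 : N ≠ ⊥)
    (hexp : ∀ n ∈ N, n ^ p = 1) (hcomm : IsMulCommutative N) : BA (G ⧸ N) := by
  intro A' B' hA' hB' hcard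
  obtain ⟨A, hNA, rfl⟩ := exists_eq_map_mk' N A'
  obtain ⟨B, hNB, rfl⟩ := exists_eq_map_mk' N B'
  suffices ∃ g : G, MulAut.conj g • A = B by
    obtain ⟨g, hg⟩ := this
    exact ⟨QuotientGroup.mk' N g, by rw [← map_conj, hg]⟩
  have hidx : ∀ H : Subgroup G, N.relIndex H = Nat.card (H.map (QuotientGroup.mk' N)) := fun H => by
    rw [← Subgroup.relIndex_ker, QuotientGroup.ker_mk']
  have hc : ∀ H : Subgroup G, IsMulCommutative (H.map (QuotientGroup.mk' N)) →
      ∀ a ∈ H, ∀ b ∈ H, a * b * a⁻¹ * b⁻¹ ∈ N := by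
    intro H hH a ha b hb
    refine (QuotientGroup.eq_one_iff _).1 (show QuotientGroup.mk' N (a * b * a⁻¹ * b⁻¹) = 1 from ?_)
    have := congrArg Subtype.val (hH.1.1 ⟨_, Subgroup.mem_map_of_mem _ ha⟩ ⟨_, Subgroup.mem_map_of_mem _ hb⟩)
    rw [map_mul, map_mul, map_mul, map_inv, map_inv]
    rw [show QuotientGroup.mk' N a * QuotientGroup.mk' N b = QuotientGroup.mk' N b * QuotientGroup.mk' N a from this]
    simp
  have hrel : N.relIndex A = N.relIndex B := by rw [hidx, hidx, hcard]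
  -- the case of a coprime section
  have hcop : (Nat.card N).Coprime (N.relIndex A) → ∃ g : G, MulAut.conj g • A = B := by
    intro h
    obtain ⟨U, -, hUc, hUcard, hUN⟩ := exists_lift_abelian hNA h (hc A hA')
    obtain ⟨V, -, hVc, hVcard, hVN⟩ := exists_lift_abelian hNB (hrel ▸ h) (hc B hB')
    obtain ⟨g, hg⟩ := hB U V hUc hVc (by rw [hUcard, hVcard, hrel])
    exact ⟨g, by rw [← hUN, ← hVN, conj_sup, hg, conj_normal]⟩
  obtain ⟨d, hd⟩ := IsPGroup.iff_card.1 hNp
  by_cases hpd : p ∣ N.relIndex A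
  swap
  · exact hcop (by rw [hd]; exact (hp.out.coprime_iff_not_dvd.2 hpd).pow_left d)
  obtain ⟨n0, hn0, hn0p⟩ : ∃ n0 ∈ N, orderOf n0 = p := by
    haveI := (Subgroup.nontrivial_iff_ne_bot N).2 hN1
    obtain ⟨⟨n, hn⟩, hne⟩ := exists_ne (1 : N)
    exact ⟨n, hn, orderOf_eq_prime (hexp n hn) fun h => hne (Subtype.ext h)⟩
  have hN : ∀ x : G, orderOf x = p → x ∈ N := by
    intro x hx
    obtain ⟨g, hg⟩ := hB.conj_zpowers (hn0p.trans hx.symm)
    have hle := conj_mono g (Subgroup.zpowers_le.2 hn0)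
    rw [hg, conj_normal] at hle
    exact hle (Subgroup.mem_zpowers x)
  have hd0 : d ≠ 0 := fun h => hN1 (Subgroup.card_eq_one.1 (by rw [hd, h, pow_zero]))
  obtain rfl : d = 1 := by
    by_contra hd1
    have hnop2 : ∀ y : G, orderOf y ≠ p ^ 2 := by
      intro y hy
      obtain ⟨E, hE⟩ := Sylow.exists_subgroup_card_pow_prime (G := N) p (n := 2)
        (by rw [hd]; exact pow_dvd_pow p (by omega))
      have hEc : IsMulCommutative (E.map N.subtype) := by
        refine ⟨⟨?_⟩⟩
        rintro ⟨_, a, _, rfl⟩ ⟨_, b, _, rfl⟩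
        exact Subtype.ext (congrArg N.subtype (hcomm.1.1 a b) :)
      obtain ⟨g, hg⟩ := hB (Subgroup.zpowers y) (E.map N.subtype) inferInstance hEc
        (by rw [Nat.card_zpowers, hy, Subgroup.card_map_of_injective N.subtype_injective, hE])
      obtain ⟨e, -, he⟩ : g * y * g⁻¹ ∈ E.map N.subtype := by
        rw [← hg, mem_conj_iff]
        simpa [mul_assoc] using Subgroup.mem_zpowers y
      have h2 : g * y * g⁻¹ ∈ N := he ▸ e.2
      have h3 : orderOf (g * y * g⁻¹) ∣ p := orderOf_dvd_of_pow_eq_one (hexp _ h2)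
      rw [show orderOf (g * y * g⁻¹) = orderOf y from (MulAut.conj g).orderOf_eq y, hy] at h3
      have := Nat.le_of_dvd hp.out.pos h3
      nlinarith [hp.out.two_le]
    obtain ⟨S, hNS⟩ := hNp.exists_le_sylow
    have hSN : (S : Subgroup G) ≤ N := by
      intro x hx
      obtain ⟨k, hk⟩ := IsPGroup.iff_orderOf.1 S.2 ⟨x, hx⟩
      rw [Subgroup.orderOf_mk] at hk
      rcases k with _ | _ | k
      · rw [pow_zero, orderOf_eq_one_iff] at hk; rw [hk]; exact one_mem N
      · exact hN x (by rw [hk, zero_add, pow_one])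
      · exfalso
        refine hnop2 (x ^ p ^ k) ?_
        rw [orderOf_pow_of_dvd (pow_ne_zero _ hp.out.ne_zero) (hk ▸ pow_dvd_pow p (by omega)), hk,
          Nat.pow_div (by omega) hp.out.pos, show k + 1 + 1 - k = 2 by omega]
    have hndvd : ¬ p ∣ N.index := by rw [le_antisymm hNS hSN]; exact S.not_dvd_index
    exact hndvd (hpd.trans (Subgroup.relIndex_dvd_index_of_normal N A))
  rw [pow_one] at hd
  obtain ⟨P, U, hP, hPA, hPc, hUc, hUcard, hUP, hPU, hUp⟩ := exists_decomp hN hd hNA hpd (hc A hA')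
  obtain ⟨Q, V, hQ, hQB, hQc, hVc, hVcard, hVQ, hQV, hVp⟩ :=
    exists_decomp hN hd hNB (hrel ▸ hpd) (hc B hB')
  have hAB : Nat.card A = Nat.card B := by
    have h1 : ∀ H : Subgroup G, N ≤ H → Nat.card H = Nat.card N * N.relIndex H := fun H h => by
      rw [← Nat.card_congr (Subgroup.subgroupOfEquivOfLe h).toEquiv]
      exact (Subgroup.card_mul_index _).symm
    rw [h1 A hNA, h1 B hNB, hrel]
  have hPQ : Nat.card P = Nat.card Q := by rw [hPc, hQc, hAB]
  have hab : ∀ (H R T : Subgroup G), R ⊔ T = H → IsMulCommutative R →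
      (∀ a ∈ T, ∀ b ∈ T, Commute a b) → T ≤ Subgroup.centralizer (R : Set G) → IsMulCommutative H := by
    intro H R T hH hR hT hTR
    have hgen : Subgroup.closure ((R : Set G) ∪ T) = H := by
      rw [Subgroup.closure_union, Subgroup.closure_eq, Subgroup.closure_eq, hH]
    rw [← hgen]
    refine Subgroup.isMulCommutative_closure fun a ha b hb => ?_
    rcases ha with ha | ha <;> rcases hb with hb | hb
    · exact congrArg Subtype.val (hR.1.1 ⟨a, ha⟩ ⟨b, hb⟩)
    · exact Subgroup.mem_centralizer_iff.1 (hTR hb) a ha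
    · exact (Subgroup.mem_centralizer_iff.1 (hTR ha) b hb).symm
    · exact hT a ha b hb
  by_cases hboth : (∀ a ∈ P, ∀ b ∈ P, Commute a b) ∧ ∀ a ∈ Q, ∀ b ∈ Q, Commute a b
  · exact hB A B (hab A U P hUP hUc hboth.1 hPU) (hab B V Q hVQ hVc hboth.2 hQV) hAB
  · have hfull : Nat.card P = p ^ (Nat.card G).factorization p := by
      rw [not_and_or] at hboth
      rcases hboth with h | h
      · exact sylow_of_nonabelian hB hN hd hP (fun a ha b hb => hc A hA' a (hPA ha) b (hPA hb)) h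
      · exact hPQ.trans
          (sylow_of_nonabelian hB hN hd hQ (fun a ha b hb => hc B hB' a (hQB ha) b (hQB hb)) h)
    have hUV : Nat.card U = Nat.card V := by
      have := hUcard.trans (hAB.trans hVcard.symm)
      rw [← hPQ] at this
      exact Nat.eq_of_mul_eq_mul_right Nat.card_pos this
    obtain ⟨g, hg⟩ := hB U V hUc hVc hUV
    set P1 := MulAut.conj g • P
    have hP1 : IsPGroup p P1 := hP.map _
    have hP1V : P1 ≤ Subgroup.centralizer (V : Set G) := by
      intro x hx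
      rw [mem_conj_iff] at hx
      refine Subgroup.mem_centralizer_iff.2 fun v hv => ?_
      have hv' : g⁻¹ * v * g ∈ U := by
        rw [← mem_conj_iff, hg]; exact hv
      have := Subgroup.mem_centralizer_iff.1 (hPU hx) _ hv'
      simpa [mul_assoc] using congrArg (fun t => g * t * g⁻¹) this
    have hmax : ∀ R : Subgroup G, IsPGroup p R → Nat.card R = p ^ (Nat.card G).factorization p →
        R ≤ Subgroup.centralizer (V : Set G) → ¬ p ∣ R.relIndex (Subgroup.centralizer (V : Set G)) := by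
      intro R hR hRc hRV hdv
      have h1 : p ∣ R.index := hdv.trans (Subgroup.relIndex_dvd_index_of_le hRV)
      have h2 : Nat.card R * p ∣ Nat.card G := R.card_mul_index ▸ Nat.mul_dvd_mul_left _ h1
      rw [hRc, ← pow_succ] at h2
      have := (hp.out.pow_dvd_iff_le_factorization Nat.card_pos.ne').1 h2
      omega
    obtain ⟨c, hcT, hcc⟩ := exists_conj_of_pGroup hP1 hQ hP1V hQV
      (hmax P1 hP1 (by rw [card_conj]; exact hfull) hP1V) (hmax Q hQ (hPQ ▸ hfull) hQV)
    refine ⟨c * g, ?_⟩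
    rw [← hUP, ← hVQ, conj_sup, ← conj_conj, ← conj_conj, hg, hcc]
    congr 1
    ext v
    rw [mem_conj_iff]
    constructor
    · intro hv
      have h1 := Subgroup.mem_centralizer_iff.1 hcT _ hv
      have h2 : v = c⁻¹ * v * c := by
        calc v = c * (c⁻¹ * v * c) * c⁻¹ := by group
          _ = _ := by rw [← h1, mul_inv_cancel_right]
      exact h2 ▸ hv
    · intro hv
      rw [mul_assoc, Subgroup.mem_centralizer_iff.1 hcT v hv, inv_mul_cancel_left]
      exact hv

/-- The property passes to every quotient of a finite solvable group. -/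
theorem BA.of_surjective (n : ℕ) : ∀ (G : Type u) [Group G] [Finite G], Nat.card G = n → Group.IsSolvable G →
    BA G → ∀ (K : Type u) [Group K] (f : G →* K), Function.Surjective f → BA K := by
  induction n using Nat.strong_induction_on with
  | _ n ih =>
    intro G _ _ hn hs hB K _ f hf
    by_cases hker : f.ker = ⊥
    · intro A B hA hB' hcard
      have hinj := (MonoidHom.ker_eq_bot_iff f).1 hker
      have hcomm : ∀ H : Subgroup K, IsMulCommutative H → IsMulCommutative (H.comap f) := by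
        intro H hH
        refine ⟨⟨fun a b => Subtype.ext (hinj ?_)⟩⟩
        rw [Subgroup.coe_mul, Subgroup.coe_mul, map_mul, map_mul]
        exact congrArg Subtype.val (hH.1.1 ⟨f a, a.2⟩ ⟨f b, b.2⟩)
      have hc : ∀ H : Subgroup K, Nat.card (H.comap f) = Nat.card H := fun H => by
        conv_rhs => rw [← Subgroup.map_comap_eq_self_of_surjective hf H]
        rw [Subgroup.card_map_of_injective hinj]
      obtain ⟨g, hg⟩ := hB (A.comap f) (B.comap f) (hcomm A hA) (hcomm B hB') (by rw [hc, hc, hcard])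
      exact ⟨f g, by rw [← Subgroup.map_comap_eq_self_of_surjective hf A, ← map_conj, hg,
        Subgroup.map_comap_eq_self_of_surjective hf B]⟩
    · haveI : Group.IsSolvable G := hs
      obtain ⟨M, hMn, hM0, hMle, hMmin⟩ := exists_minimal_normal hker
      obtain ⟨hMc, p, hp, hMp, hMexp⟩ := elementaryAbelian_of_minimal_normal M hM0 hMmin
      haveI : Fact p.Prime := ⟨hp⟩
      exact ih _ (hn ▸ card_quotient_lt hM0) (G ⧸ M) rfl
        (Group.isSolvable_of_surjective (QuotientGroup.mk'_surjective M))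
        (hB.quotient_minimal M hMp hM0 hMexp hMc) K (QuotientGroup.lift M f hMle)
        (QuotientGroup.lift_surjective_of_surjective M f hf hMle)

end Cfsg.Agent.Solvable
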