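/-
Sylow subgroups of solvable groups with conjugate abelian subgroups of equal order (owner: helper2).

* `covering_false`: a group acting faithfully on an elementary abelian q-group, transitively on its
  subgroups of order q, has no normal non-cyclic elementary abelian r-subgroup, r ≠ q;
* `sylow_type`: a Sylow subgroup is normal elementary abelian, or cyclic, or quaternion of order 8.
-/
import Cfsg.Agent.Lib.Solvable.EqualOrderAbelian

set_option autoImplicit false

open Pointwise

namespace Cfsg.Agent.Solvable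

universe u

variable {G : Type*} [Group G]

theorem covering_false {L A : Type*} [Group L] [CommGroup A] [Finite L] [Nontrivial A] (φ : L →* MulAut A)
    (hφ : Function.Injective φ) {q r : ℕ} (hq : q.Prime) (hr : r.Prime) (hqr : q ≠ r) (hA : ∀ x : A, x ^ q = 1)
    (hT : ∀ v w : A, v ≠ 1 → w ≠ 1 → ∃ g : L, ∃ i : ℤ, φ g (v ^ i) = w)
    (E : Subgroup L) [hEn : E.Normal] (hEc : IsMulCommutative E) (hEexp : ∀ e ∈ E, e ^ r = 1)
    (hnc : ¬ IsCyclic E) : False := by
  classical
  have hEcomm : ∀ e ∈ E, ∀ f ∈ E, Commute e f := fun e he f hf =>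
    congrArg Subtype.val (hEc.1.1 ⟨e, he⟩ ⟨f, hf⟩)
  have hφmul : ∀ (g h : L) (x : A), φ (g * h) x = φ g (φ h x) := fun g h x => by
    rw [map_mul]; rfl
  have hfixpow : ∀ (g : L) (x : A), φ g x = x → ∀ i : ℕ, φ (g ^ i) x = x := by
    intro g x h i
    induction i with
    | zero => simp
    | succ i ih => rw [pow_succ, hφmul, h, ih]
  let Nm : L → A → A := fun e x => ∏ i ∈ Finset.range r, φ (e ^ i) x
  have hNm_mul : ∀ e x y, Nm e (x * y) = Nm e x * Nm e y := fun e x y => by
    simp only [Nm, map_mul, Finset.prod_mul_distrib]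
  have hrcop : ∀ x : A, x ^ r = 1 → x = 1 := fun x hx => by
    have h := pow_gcd_eq_one.2 ⟨hA x, hx⟩; rwa [(Nat.coprime_primes hq hr).2 hqr, pow_one] at h
  have hNm_fixed : ∀ e ∈ E, ∀ x : A, φ e (Nm e x) = Nm e x := by
    intro e he x
    rw [map_prod]
    have h1 : ∀ i, φ e (φ (e ^ i) x) = φ (e ^ (i + 1)) x := fun i => by rw [← hφmul, pow_succ']
    simp only [h1]
    have h2 := Finset.prod_range_succ' (fun i => φ (e ^ i) x) r
    rw [Finset.prod_range_succ, hEexp e he, pow_zero] at h2
    exact (mul_right_cancel h2).symm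
  -- some element of `E` fixes a nontrivial vector
  obtain ⟨e, he, he1, v, hv1, hev⟩ : ∃ e ∈ E, e ≠ 1 ∧ ∃ v : A, v ≠ 1 ∧ φ e v = v := by
    by_contra hcon
    push Not at hcon
    obtain ⟨⟨a, ha⟩, b, hab⟩ : ∃ a b : E, a ≠ 1 ∧ b ∉ Subgroup.zpowers a := by
      by_contra h
      push Not at h
      refine hnc ?_
      by_cases h1 : ∃ a : E, a ≠ 1
      · obtain ⟨a, ha⟩ := h1
        exact ⟨⟨a, fun b => Subgroup.mem_zpowers_iff.1 (h a b ha)⟩⟩
      · push Not at h1
        exact ⟨⟨1, fun b => ⟨0, by rw [h1 b]; simp⟩⟩⟩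
    obtain ⟨ha1, hab⟩ := hab
    obtain ⟨b, hb⟩ := b
    have ha1' : a ≠ 1 := fun h => ha1 (Subtype.ext h)
    have hne : ∀ s t : ℕ, a ^ s * b ^ t = 1 → r ∣ t := by
      intro s t h
      by_contra hd
      apply hab
      have hbt : b ^ t ∈ Subgroup.zpowers a := by
        rw [show b ^ t = (a ^ s)⁻¹ from eq_inv_of_mul_eq_one_right h]
        exact inv_mem (pow_mem (Subgroup.mem_zpowers a) s)
      have hb' : b ∈ Subgroup.zpowers a := by
        obtain ⟨l, hl⟩ := exists_pow_eq_self_of_coprime (x := b) (n := t)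
          (((hr.coprime_iff_not_dvd.2 hd).symm).coprime_dvd_right (orderOf_dvd_of_pow_eq_one (hEexp b hb)))
        exact hl ▸ pow_mem hbt l
      obtain ⟨i, hi⟩ := Subgroup.mem_zpowers_iff.1 hb'
      exact Subgroup.mem_zpowers_iff.2 ⟨i, Subtype.ext (by simpa using hi)⟩
    have hNm1 : ∀ f ∈ E, f ≠ 1 → ∀ x, Nm f x = 1 := fun f hf hf1 x => by
      by_contra h
      exact hcon f hf hf1 _ h (hNm_fixed f hf x)
    obtain ⟨v, hv1⟩ : ∃ v : A, v ≠ 1 := exists_ne 1
    have key : ∀ t ∈ Finset.range r, t ≠ 0 →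
        ∏ s ∈ Finset.range r, φ ((a ^ s * b) ^ t) v = 1 := by
      intro t ht ht0
      have htr : ¬ r ∣ t := fun h => by
        have := Nat.le_of_dvd (Nat.pos_of_ne_zero ht0) h
        have := Finset.mem_range.1 ht
        omega
      have e1 : ∀ s, φ ((a ^ s * b) ^ t) v = φ (a ^ (s * t % r)) (φ (b ^ t) v) := fun s => by
        rw [← hφmul, (hEcomm _ (pow_mem ha s) _ hb).mul_pow, ← pow_mul,
          pow_eq_pow_mod (s * t) (hEexp a ha)]
      simp only [e1]
      rw [← hNm1 a ha ha1' (φ (b ^ t) v)]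
      have hinj : Set.InjOn (fun s => s * t % r) (Finset.range r) := by
        intro s hs s' hs' h
        have hco : Nat.gcd r t = 1 := (hr.coprime_iff_not_dvd.2 htr)
        exact Nat.ModEq.eq_of_lt_of_lt (Nat.ModEq.cancel_right_of_coprime hco h)
          (Finset.mem_range.1 hs) (Finset.mem_range.1 hs')
      have himg : (Finset.range r).image (fun s => s * t % r) = Finset.range r :=
        Finset.eq_of_subset_of_card_le
          (Finset.image_subset_iff.2 fun s _ => Finset.mem_range.2 (Nat.mod_lt _ hr.pos))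
          (Finset.card_image_of_injOn hinj).ge
      conv_rhs => rw [show Nm a (φ (b ^ t) v) = ∏ i ∈ Finset.range r, φ (a ^ i) (φ (b ^ t) v) from rfl,
        ← himg, Finset.prod_image hinj]
    have htot : ∀ s ∈ Finset.range r, ∏ t ∈ Finset.range r, φ ((a ^ s * b) ^ t) v = 1 := fun s _ => by
      refine hNm1 _ (mul_mem (pow_mem ha s) hb) (fun h => ?_) v
      have := hne s 1 (by rwa [pow_one])
      exact hr.ne_one (Nat.dvd_one.1 this)
    have h1 := Finset.prod_congr rfl htot
    rw [Finset.prod_const_one, Finset.prod_comm, Finset.prod_eq_single 0 key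
      (fun h => absurd (Finset.mem_range.2 hr.pos) h)] at h1
    simp only [pow_zero, map_one, MulAut.one_apply, Finset.prod_const, Finset.card_range] at h1
    exact hv1 (hrcop v h1)
  -- stabilisers
  let S : A → Subgroup L := fun x =>
    { carrier := {f | f ∈ E ∧ φ f x = x}
      one_mem' := ⟨one_mem E, by simp⟩
      mul_mem' := fun {f g} hf hg => ⟨mul_mem hf.1 hg.1, by rw [hφmul, hg.2, hf.2]⟩
      inv_mem' := fun {f} hf => ⟨inv_mem hf.1, by
        conv_lhs => rw [← hf.2]
        rw [← hφmul, inv_mul_cancel, map_one]; rfl⟩ }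
  have hS : ∀ (x : A) (f : L), f ∈ S x ↔ f ∈ E ∧ φ f x = x := fun x f => Iff.rfl
  have hScard : ∀ x y : A, x ≠ 1 → y ≠ 1 → Nat.card (S x) ≤ Nat.card (S y) := by
    intro x y hx hy
    obtain ⟨g, i, hg⟩ := hT x y hx hy
    refine Nat.card_le_card_of_injective (fun f => (⟨g * f * g⁻¹, hEn.conj_mem _ f.2.1 g, ?_⟩ : S y))
      fun f f' h => ?_
    · rw [← hg, ← hφmul, inv_mul_cancel_right, hφmul, map_zpow, f.2.2]
    · exact Subtype.ext (mul_left_cancel (mul_right_cancel (congrArg Subtype.val h :)))
  obtain ⟨u, hu⟩ : ∃ u : A, φ e u ≠ u := by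
    by_contra hcon
    push Not at hcon
    exact he1 (hφ (by rw [map_one]; exact MulEquiv.ext hcon))
  set w := φ e u * u⁻¹ with hw
  have hw1 : w ≠ 1 := fun h => hu (mul_inv_eq_one.1 h)
  have hNw : Nm e w = 1 := by
    have h3 : Nm e (φ e u) = Nm e u := by
      have h4 : ∀ i, φ (e ^ i) (φ e u) = φ e (φ (e ^ i) u) := fun i => by
        rw [← hφmul, ← hφmul, ← pow_succ, ← pow_succ']
      calc Nm e (φ e u) = φ e (Nm e u) := by simp only [Nm, h4, map_prod]
        _ = _ := hNm_fixed e he u
    have hinv : Nm e u * Nm e u⁻¹ = 1 := by rw [← hNm_mul, mul_inv_cancel]; simp [Nm]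
    rw [hw, hNm_mul, h3, hinv]
  have hew : φ e w ≠ w := fun h => by
    refine hw1 (hrcop w ?_)
    have : ∀ i : ℕ, φ (e ^ i) w = w := fun i => hfixpow e w h i
    rw [← hNw]
    simp only [Nm, this, Finset.prod_const, Finset.card_range]
  have hNv : Nm e v = v ^ r := by
    have : ∀ i : ℕ, φ (e ^ i) v = v := fun i => hfixpow e v hev i
    simp only [Nm, this, Finset.prod_const, Finset.card_range]
  have hvw : v * w ≠ 1 := fun h => hew (by rw [eq_inv_of_mul_eq_one_right h, map_inv, hev])
  have hsub : ∀ f, f ∈ S (v * w) → f ∈ S v ∧ f ∈ S w := by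
    intro f hf
    obtain ⟨hfE, hffix⟩ := (hS _ f).1 hf
    have h1 : φ f (v ^ r) = v ^ r := by
      have h5 : ∀ x, φ f (Nm e x) = Nm e (φ f x) := fun x => by
        simp only [Nm, map_prod]
        refine Finset.prod_congr rfl fun i _ => ?_
        rw [← hφmul, ← hφmul, (hEcomm f hfE _ (pow_mem he i)).eq]
      have h6 := h5 (v * w)
      rwa [hffix, hNm_mul, hNv, hNw, mul_one] at h6
    have h2 : φ f v = v := by
      obtain ⟨l, hl⟩ := exists_pow_eq_self_of_coprime (x := v) (n := r)
        (((Nat.coprime_primes hr hq).2 hqr.symm).coprime_dvd_right (orderOf_dvd_of_pow_eq_one (hA v)))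
      conv_rhs => rw [← hl]
      conv_lhs => rw [← hl]
      rw [map_pow, h1]
    refine ⟨(hS v f).2 ⟨hfE, h2⟩, (hS w f).2 ⟨hfE, ?_⟩⟩
    rw [map_mul, h2] at hffix
    exact mul_left_cancel hffix
  have h1 : S (v * w) = S v := Subgroup.eq_of_le_of_card_ge (fun f hf => (hsub f hf).1) (hScard v (v * w) hv1 hvw)
  have h2 : e ∈ S v := (hS v e).2 ⟨he, hev⟩
  rw [← h1] at h2
  exact hew ((hS w e).1 (hsub e h2).2).2

/-- Quaternion of order eight, described inside the ambient group. -/
def QType (r : ℕ) (P : Subgroup G) : Prop :=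
  r = 2 ∧ Nat.card P = 8 ∧ ¬ (∀ a ∈ P, ∀ b ∈ P, Commute a b) ∧
    ∀ a ∈ P, ∀ b ∈ P, orderOf a = 2 → orderOf b = 2 → a = b

/-- Normal elementary abelian and not cyclic. -/
def ElemType (r : ℕ) (P : Subgroup G) : Prop :=
  P.Normal ∧ ¬ IsCyclic P ∧ (∀ a ∈ P, a ^ r = 1) ∧ IsMulCommutative P

theorem QType.facts [Finite G] {P : Subgroup G} (h : QType 2 P) :
    ∃ z ∈ P, orderOf z = 2 ∧ (∀ a ∈ P, Commute a z) ∧ (∀ a ∈ P, a ^ 4 = 1) ∧
      (∀ a ∈ P, a ≠ 1 → a ≠ z → a ^ 2 = z) ∧
      ∀ a ∈ P, ∀ b ∈ P, ¬ Commute a b → a * b * a⁻¹ = b⁻¹ ∧ a * b * a⁻¹ * b⁻¹ = z := by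
  obtain ⟨-, hc, hna, huniq⟩ := h
  haveI : Fact (Nat.Prime 2) := ⟨Nat.prime_two⟩
  obtain ⟨⟨z, hz⟩, hzo⟩ := exists_prime_orderOf_dvd_card' (G := P) 2 (by rw [hc]; norm_num)
  rw [Subgroup.orderOf_mk] at hzo
  have hzc : ∀ a ∈ P, Commute a z := fun a ha => mul_inv_eq_iff_eq_mul.1
    (huniq (a * z * a⁻¹) (mul_mem (mul_mem ha hz) (inv_mem ha)) z hz
      (((MulAut.conj a).orderOf_eq z).trans hzo) hzo)
  have h4 : ∀ a ∈ P, a ^ 4 = 1 := by
    intro a ha
    have hd : orderOf (⟨a, ha⟩ : P) ∣ 2 ^ 3 := by
      rw [show (2 : ℕ) ^ 3 = Nat.card P by rw [hc]; rfl]; exact orderOf_dvd_natCard _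
    obtain ⟨i, hi, hie⟩ := (Nat.dvd_prime_pow Nat.prime_two).1 hd
    rw [Subgroup.orderOf_mk] at hie
    interval_cases i
    · exact orderOf_dvd_iff_pow_eq_one.1 (by rw [hie]; decide)
    · exact orderOf_dvd_iff_pow_eq_one.1 (by rw [hie]; decide)
    · exact orderOf_dvd_iff_pow_eq_one.1 (by rw [hie]; decide)
    · exfalso
      have hcyc : IsCyclic P := isCyclic_of_orderOf_eq_card (⟨a, ha⟩ : P)
        (by rw [Subgroup.orderOf_mk, hie, hc]; rfl)
      refine hna fun b hb c hc' => ?_
      letI := hcyc.commGroup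
      exact congrArg Subtype.val (mul_comm (⟨b, hb⟩ : P) ⟨c, hc'⟩)
  have hsq : ∀ a ∈ P, a ≠ 1 → a ≠ z → a ^ 2 = z := by
    intro a ha h1 hz'
    by_cases h2 : a ^ 2 = 1
    · exact absurd (huniq a ha z hz (orderOf_eq_prime h2 h1) hzo) hz'
    · exact huniq _ (pow_mem ha 2) z hz
        (orderOf_eq_prime (by rw [← pow_mul]; exact h4 a ha) h2) hzo
  refine ⟨z, hz, hzo, hzc, h4, hsq, fun a ha b hb hab => ?_⟩
  have hne : ∀ c ∈ P, ∀ d ∈ P, ¬ Commute c d → c ≠ 1 ∧ c ≠ z := fun c _ d hd hcd =>
    ⟨fun h => hcd (h ▸ Commute.one_left d), fun h => hcd (h ▸ (hzc d hd).symm)⟩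
  have ea := hsq a ha (hne a ha b hb hab).1 (hne a ha b hb hab).2
  have eb := hsq b hb (hne b hb a ha fun h => hab h.symm).1 (hne b hb a ha fun h => hab h.symm).2
  have hab' : ¬ Commute (a * b) b := fun h => hab (by
    have := h.mul_left (Commute.refl b).inv_left
    rwa [mul_inv_cancel_right] at this)
  have eab := hsq _ (mul_mem ha hb) (hne _ (mul_mem ha hb) b hb hab').1 (hne _ (mul_mem ha hb) b hb hab').2
  have hz2 : z⁻¹ = z := inv_eq_of_mul_eq_one_right (by rw [← pow_two, ← hzo, pow_orderOf_eq_one])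
  have e1 : a * b * a⁻¹ = b⁻¹ := by
    calc a * b * a⁻¹ = (a * b) ^ 2 * b⁻¹ * (a ^ 2)⁻¹ := by rw [pow_two, pow_two]; group
      _ = z * b⁻¹ * z⁻¹ := by rw [eab, ea]
      _ = b⁻¹ := by rw [(hzc b hb).symm.inv_right.eq, mul_inv_cancel_right]
  refine ⟨e1, ?_⟩
  rw [e1, ← mul_inv_rev, ← pow_two, eb, hz2]

theorem isCyclic_of_abelian_unique [Finite G] {p : ℕ} [Fact p.Prime] {N : Subgroup G}
    (hN : ∀ x : G, orderOf x = p → x ∈ N) (hNc : Nat.card N = p) {P : Subgroup G} (hP : IsPGroup p P)
    (hc : ∀ a ∈ P, ∀ b ∈ P, Commute a b) : IsCyclic P := by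
  obtain ⟨g, hg⟩ := Finite.exists_max (fun x : P => orderOf x)
  obtain ⟨m, hm⟩ := IsPGroup.iff_orderOf.1 hP g
  refine ⟨⟨g, fun x => ?_⟩⟩
  obtain ⟨k, hk⟩ := IsPGroup.iff_orderOf.1 hP x
  have hkm : k ≤ m := (Nat.pow_le_pow_iff_right (Fact.out : p.Prime).one_lt).1 (by rw [← hk, ← hm]; exact hg x)
  obtain ⟨i, hi⟩ := Subgroup.mem_zpowers_iff.1 (mem_zpowers_of_orderOf_dvd hN hNc k (g : G) (x : G) m
    (by rw [Subgroup.orderOf_coe, hk]) (by rw [Subgroup.orderOf_coe, hm]) hkm (hc _ g.2 _ x.2))
  exact ⟨i, Subtype.ext (by simpa using hi)⟩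

/-- A non-abelian group of exponent dividing `p²` over the unique subgroup of order `p`, with squares
inside it, is quaternion of order 8. -/
theorem qType_of_elementary_quotient [Finite G] {p : ℕ} [hp : Fact p.Prime] {N : Subgroup G} [N.Normal]
    (hN : ∀ x : G, orderOf x = p → x ∈ N) (hNc : Nat.card N = p) {P : Subgroup G} (hP : IsPGroup p P)
    (hpow : ∀ a ∈ P, a ^ p ∈ N) (hcom : ∀ a ∈ P, ∀ b ∈ P, a * b * a⁻¹ * b⁻¹ ∈ N)
    (hna : ¬ ∀ a ∈ P, ∀ b ∈ P, Commute a b) : QType p P := by
  have hcent : ∀ {n a : G}, n ∈ N → a ∈ P → Commute a n := fun {n a} hn ha => by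
    obtain ⟨k, hk⟩ := hP ⟨a, ha⟩
    exact commute_of_mem_card_prime hNc (k := k) (congrArg Subtype.val hk) hn
  have hNp : ∀ {n : G}, n ∈ N → n ^ p = 1 := fun {n} hn => by
    have := pow_card_eq_one' (G := N) (x := ⟨n, hn⟩)
    rw [hNc] at this
    exact congrArg Subtype.val this
  have hgen : ∀ a ∈ P, a ∉ N → Subgroup.zpowers (a ^ p) = N := by
    intro a ha haN
    have hle : Subgroup.zpowers (a ^ p) ≤ N := Subgroup.zpowers_le.2 (hpow a ha)
    haveI : Fact (Nat.card N).Prime := ⟨hNc ▸ hp.out⟩
    rcases ((Subgroup.zpowers (a ^ p)).subgroupOf N).eq_bot_or_eq_top_of_prime_card with h | h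
    · exfalso
      have h1 : a ^ p = 1 := by
        have h2 : (⟨a ^ p, hle (Subgroup.mem_zpowers _)⟩ : N) ∈ (Subgroup.zpowers (a ^ p)).subgroupOf N :=
          Subgroup.mem_subgroupOf.2 (Subgroup.mem_zpowers _)
        rw [h, Subgroup.mem_bot] at h2
        exact congrArg Subtype.val h2
      rcases (Nat.dvd_prime hp.out).1 (orderOf_dvd_of_pow_eq_one h1) with h | h
      · exact haN (orderOf_eq_one_iff.1 h ▸ one_mem N)
      · exact haN (hN a h)
    · exact le_antisymm hle (Subgroup.subgroupOf_eq_top.1 h)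
  obtain ⟨x, hx, y, hy, hxy⟩ : ∃ x ∈ P, ∃ y ∈ P, ¬ Commute x y := by
    by_contra h
    push Not at h
    exact hna h
  have hxN : x ∉ N := fun h => hxy (hcent h hy).symm
  have hyN : y ∉ N := fun h => hxy (hcent h hx)
  obtain ⟨j, hj⟩ := Subgroup.mem_zpowers_iff.1 (show y ^ p ∈ Subgroup.zpowers (x ^ p) by
    rw [hgen x hx hxN]; exact hpow y hy)
  set u := x ^ (-j) with hu
  set c := u * y * u⁻¹ * y⁻¹ with hcdef
  have huP : u ∈ P := zpow_mem hx _
  have hcN : c ∈ N := hcom u huP y hy
  have hyu : (y * u) ^ p = c ^ p.choose 2 := by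
    rw [mul_pow_of_central (hcent hcN hy).symm (hcent hcN huP).symm (by rw [hcdef]; group) p]
    have : y ^ p * u ^ p = 1 := by
      rw [← hj, hu, ← zpow_natCast (x ^ (-j)), ← zpow_mul, ← zpow_natCast x, ← zpow_mul, ← zpow_add,
        show (p : ℤ) * j + -j * p = 0 by ring, zpow_zero]
    rw [this, mul_one]
  have hyuN : y * u ∉ N := fun h => hxy (by
    have h1 := (hcent h hx).mul_right ((Commute.refl x).zpow_right j)
    rwa [hu, zpow_neg, inv_mul_cancel_right] at h1)
  have hyu_ne : (y * u) ^ p ≠ 1 := fun h => by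
    rcases (Nat.dvd_prime hp.out).1 (orderOf_dvd_of_pow_eq_one h) with h' | h'
    · exact hyuN (orderOf_eq_one_iff.1 h' ▸ one_mem N)
    · exact hyuN (hN _ h')
  obtain rfl : p = 2 := by
    by_contra hp2
    obtain ⟨e, he⟩ := hp.out.dvd_choose_self two_ne_zero (lt_of_le_of_ne hp.out.two_le (Ne.symm hp2))
    exact hyu_ne (by rw [hyu, he, pow_mul, hNp hcN, one_pow])
  have h4 : ∀ a ∈ P, a ^ 4 = 1 := fun a ha => by
    rw [show 4 = 2 * 2 from rfl, pow_mul]; exact hNp (hpow a ha)
  have ho4 : ∀ a ∈ P, a ∉ N → orderOf a = 2 ^ 2 := fun a ha haN => by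
    obtain ⟨i, hi, hie⟩ := (Nat.dvd_prime_pow (m := 2) Nat.prime_two).1 (orderOf_dvd_of_pow_eq_one (h4 a ha))
    interval_cases i
    · exact absurd (orderOf_eq_one_iff.1 hie ▸ one_mem N) haN
    · exact absurd (hN a (by rw [hie, pow_one])) haN
    · exact hie
  refine ⟨rfl, ?_, hna, ?_⟩
  · have hcw : ∀ a ∈ P, Commute a y → a ∈ Subgroup.zpowers y := by
      intro a ha hay
      obtain ⟨k, hk⟩ := IsPGroup.iff_orderOf.1 hP ⟨a, ha⟩
      rw [Subgroup.orderOf_mk] at hk
      exact mem_zpowers_of_orderOf_dvd hN hNc k y a 2 hk (ho4 y hy hyN)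
        ((Nat.pow_dvd_pow_iff_le_right (le_refl 2)).1 (hk ▸ orderOf_dvd_of_pow_eq_one (h4 a ha))) hay.symm
    have hN2 : ∀ n ∈ N, ∀ n' ∈ N, n ≠ 1 → n' ≠ 1 → n = n' := by
      intro n hn n' hn' h1 h1'
      obtain ⟨e, -, huniv⟩ := (Nat.card_eq_two_iff' (1 : N)).1 hNc
      exact congrArg Subtype.val ((huniv ⟨n, hn⟩ fun h => h1 (congrArg Subtype.val h)).trans
        (huniv ⟨n', hn'⟩ fun h => h1' (congrArg Subtype.val h)).symm)
    have hcov : ∀ a ∈ P, a ∈ Subgroup.zpowers y ∨ x⁻¹ * a ∈ Subgroup.zpowers y := by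
      intro a ha
      by_cases hay : Commute a y
      · exact Or.inl (hcw a ha hay)
      · refine Or.inr (hcw _ (mul_mem (inv_mem hx) ha) ?_)
        have h1 : ∀ b ∈ P, ¬ Commute b y → b * y * b⁻¹ * y⁻¹ ≠ 1 := fun b _ hb h =>
          hb (mul_inv_eq_iff_eq_mul.1 (mul_inv_eq_one.1 h))
        have h2 := mul_right_cancel
          (hN2 _ (hcom a ha y hy) _ (hcom x hx y hy) (h1 a ha hay) (h1 x hx hxy))
        have h3 : x⁻¹ * a * y * (x⁻¹ * a)⁻¹ = y := by
          calc x⁻¹ * a * y * (x⁻¹ * a)⁻¹ = x⁻¹ * (a * y * a⁻¹) * x := by group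
            _ = y := by rw [h2]; group
        exact mul_inv_eq_iff_eq_mul.1 h3
    obtain ⟨k, hk⟩ := IsPGroup.iff_card.1 hP
    have hle : Nat.card P ≤ 8 := by
      have hcy : Nat.card (Subgroup.zpowers y) = 4 := by rw [Nat.card_zpowers, ho4 y hy hyN]; rfl
      let f : Bool × Subgroup.zpowers y → P := fun bs =>
        ⟨(if bs.1 then x else 1) * bs.2, mul_mem (by split_ifs; exacts [hx, one_mem P])
          (Subgroup.zpowers_le.2 hy bs.2.2)⟩
      have hf : Function.Surjective f := by
        rintro ⟨a, ha⟩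
        rcases hcov a ha with h | h
        · exact ⟨(false, ⟨a, h⟩), Subtype.ext (by simp [f])⟩
        · exact ⟨(true, ⟨x⁻¹ * a, h⟩), Subtype.ext (by simp [f])⟩
      have := Nat.card_le_card_of_surjective f hf
      rw [Nat.card_prod, hcy] at this
      simpa using this
    have hk3 : k = 3 := by
      have h3 : k ≤ 3 := (Nat.pow_le_pow_iff_right (le_refl 2)).1 (by rw [← hk]; exact hle)
      by_contra hne
      have hk2 : k ≤ 2 := by omega
      refine hna fun a ha b hb => ?_
      have hcyc : Nat.card (Subgroup.zpowers y) = 4 := by rw [Nat.card_zpowers, ho4 y hy hyN]; rfl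
      have hPy : Subgroup.zpowers y = P := Subgroup.eq_of_le_of_card_ge (Subgroup.zpowers_le.2 hy)
        (by rw [hcyc, hk]; exact Nat.pow_le_pow_right two_pos hk2)
      obtain ⟨i, rfl⟩ := Subgroup.mem_zpowers_iff.1 (hPy ▸ ha)
      obtain ⟨l, rfl⟩ := Subgroup.mem_zpowers_iff.1 (hPy ▸ hb)
      exact ((Commute.refl y).zpow_left i).zpow_right l
    rw [hk, hk3]; rfl
  · intro a _ b _ ha2 hb2
    obtain ⟨e, -, huniv⟩ := (Nat.card_eq_two_iff' (1 : N)).1 hNc
    have hne : ∀ {c : G}, orderOf c = 2 → c ≠ 1 := fun hc h => by rw [h, orderOf_one] at hc; omega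
    exact congrArg Subtype.val ((huniv ⟨a, hN a ha2⟩ fun h => hne ha2 (congrArg Subtype.val h)).trans
      (huniv ⟨b, hN b hb2⟩ fun h => hne hb2 (congrArg Subtype.val h)).symm)

/-- The trichotomy for Sylow subgroups. -/
theorem sylow_type (n : ℕ) : ∀ (G : Type u) [Group G] [Finite G], Nat.card G = n → Group.IsSolvable G →
    BA G → ∀ (r : ℕ) [Fact r.Prime] (P : Sylow r G),
      ElemType r (P : Subgroup G) ∨ IsCyclic (P : Subgroup G) ∨ QType r (P : Subgroup G) := by
  induction n using Nat.strong_induction_on with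
  | _ n ih =>
    intro G _ _ hn hs hB r hr P
    haveI : Group.IsSolvable G := hs
    by_cases hPc : IsCyclic (P : Subgroup G)
    · exact Or.inr (Or.inl hPc)
    have hG1 : (⊤ : Subgroup G) ≠ ⊥ := fun h => hPc (by
      haveI : Subsingleton G := Subgroup.subsingleton_iff.1 (subsingleton_of_bot_eq_top h.symm)
      exact isCyclic_of_subsingleton)
    obtain ⟨M, hMn, hM0, -, hMmin⟩ := exists_minimal_normal hG1
    obtain ⟨hMc, q, hq, hMq, hMexp⟩ := elementaryAbelian_of_minimal_normal M hM0 hMmin
    haveI := Fact.mk hq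
    set f := QuotientGroup.mk' M with hf
    have hsurj : Function.Surjective f := QuotientGroup.mk'_surjective M
    have hIH := ih _ (hn ▸ card_quotient_lt hM0) (G ⧸ M) rfl (Group.isSolvable_of_surjective hsurj)
      (hB.quotient_minimal M hMq hM0 hMexp hMc) r (P.mapSurjective hsurj)
    rw [Sylow.coe_mapSurjective] at hIH
    have hord : ∀ x : G, orderOf x = q → x ∈ M := by
      intro x hx
      haveI := (Subgroup.nontrivial_iff_ne_bot M).2 hM0
      obtain ⟨⟨m, hm⟩, hm1⟩ := exists_ne (1 : M)
      have hmo : orderOf m = q := orderOf_eq_prime (hMexp m hm) fun h => hm1 (Subtype.ext h)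
      obtain ⟨g, hg⟩ := hB.conj_zpowers (hmo.trans hx.symm)
      have hle := conj_mono g (Subgroup.zpowers_le.2 hm)
      rw [hg, conj_normal] at hle
      exact hle (Subgroup.mem_zpowers x)
    have hmem : ∀ a ∈ (P : Subgroup G), f a ∈ (P : Subgroup G).map f := fun a ha =>
      Subgroup.mem_map_of_mem f ha
    by_cases hqr : q = r
    · subst hqr
      obtain ⟨d, hd⟩ := IsPGroup.iff_card.1 hMq
      have hMP : M ≤ (P : Subgroup G) := by
        rw [← P.is_maximal' (IsPGroup.to_sup_of_normal_right P.2 hMq) le_sup_left]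
        exact le_sup_right
      by_cases hd1 : 2 ≤ d
      · -- M is the Sylow subgroup
        have hPM : (P : Subgroup G) = M := by
          refine le_antisymm (fun x hx => ?_) hMP
          obtain ⟨k, hk⟩ := IsPGroup.iff_orderOf.1 P.2 ⟨x, hx⟩
          rw [Subgroup.orderOf_mk] at hk
          rcases k with _ | _ | k
          · rw [pow_zero, orderOf_eq_one_iff] at hk; rw [hk]; exact one_mem M
          · exact hord x (by rw [hk, zero_add, pow_one])
          · exfalso
            have hy : orderOf (x ^ q ^ k) = q ^ 2 := by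
              rw [orderOf_pow_of_dvd (pow_ne_zero _ hq.ne_zero) (hk ▸ pow_dvd_pow q (by omega)), hk,
                Nat.pow_div (by omega) hq.pos, show k + 1 + 1 - k = 2 by omega]
            obtain ⟨E, hE⟩ := Sylow.exists_subgroup_card_pow_prime (G := M) q (n := 2)
              (by rw [hd]; exact pow_dvd_pow q hd1)
            have hEc : IsMulCommutative (E.map M.subtype) := by
              refine ⟨⟨?_⟩⟩
              rintro ⟨_, a, _, rfl⟩ ⟨_, b, _, rfl⟩
              exact Subtype.ext (congrArg M.subtype (hMc.1.1 a b) :)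
            obtain ⟨g, hg⟩ := hB (Subgroup.zpowers (x ^ q ^ k)) (E.map M.subtype) inferInstance hEc
              (by rw [Nat.card_zpowers, hy, Subgroup.card_map_of_injective M.subtype_injective, hE])
            obtain ⟨e, -, he⟩ : g * x ^ q ^ k * g⁻¹ ∈ E.map M.subtype := by
              rw [← hg, mem_conj_iff]
              simp [mul_assoc]
            have h2 : g * x ^ q ^ k * g⁻¹ ∈ M := he ▸ e.2
            have h3 : orderOf (g * x ^ q ^ k * g⁻¹) ∣ q := orderOf_dvd_of_pow_eq_one (hMexp _ h2)
            rw [show orderOf (g * x ^ q ^ k * g⁻¹) = orderOf (x ^ q ^ k) from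
              (MulAut.conj g).orderOf_eq _, hy] at h3
            have := Nat.le_of_dvd hq.pos h3
            nlinarith [hq.two_le]
        refine Or.inl ⟨by rw [hPM]; exact hMn, hPc, by rw [hPM]; exact hMexp, by rw [hPM]; exact hMc⟩
      · have hd' : d = 1 := by
          rcases d with _ | _ | d
          · exact absurd (Subgroup.card_eq_one.1 (by rw [hd, pow_zero])) hM0
          · rfl
          · omega
        have hMc' : Nat.card M = q := by rw [hd, hd', pow_one]
        have hna : ¬ ∀ a ∈ (P : Subgroup G), ∀ b ∈ (P : Subgroup G), Commute a b := fun h =>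
          hPc (isCyclic_of_abelian_unique hord hMc' P.2 h)
        have hcent : ∀ {m a : G}, m ∈ M → a ∈ (P : Subgroup G) → Commute a m := fun {m a} hm ha => by
          obtain ⟨k, hk⟩ := P.2 ⟨a, ha⟩
          exact commute_of_mem_card_prime hMc' (k := k) (congrArg Subtype.val hk) hm
        rcases hIH with ⟨-, -, hexp, hcomm⟩ | hcyc | hQ
        · refine Or.inr (Or.inr (qType_of_elementary_quotient hord hMc' P.2 (fun a ha => ?_)
            (fun a ha b hb => ?_) hna))
          · refine (QuotientGroup.eq_one_iff _).1 (show f (a ^ q) = 1 from ?_)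
            rw [map_pow]; exact hexp _ (hmem a ha)
          · refine (QuotientGroup.eq_one_iff _).1 (show f (a * b * a⁻¹ * b⁻¹) = 1 from ?_)
            have : f a * f b = f b * f a :=
              congrArg Subtype.val (hcomm.1.1 ⟨_, hmem a ha⟩ ⟨_, hmem b hb⟩)
            rw [map_mul, map_mul, map_mul, map_inv, map_inv, this]
            simp
        · exfalso
          refine hna fun a ha b hb => ?_
          obtain ⟨⟨g, hg⟩⟩ := hcyc
          obtain ⟨g0, hg0, hgf⟩ := g.2
          have key : ∀ c ∈ (P : Subgroup G), ∃ i : ℤ, ∃ m ∈ M, c = g0 ^ i * m := by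
            intro c hc
            obtain ⟨i, hi⟩ := hg ⟨f c, hmem c hc⟩
            refine ⟨i, (g0 ^ i)⁻¹ * c, QuotientGroup.eq.1 (show f (g0 ^ i) = f c from ?_), by group⟩
            rw [map_zpow, hgf]
            simpa using congrArg Subtype.val hi
          obtain ⟨i, m, hm, rfl⟩ := key a ha
          obtain ⟨l, m', hm', rfl⟩ := key b hb
          have c1 : Commute (g0 ^ i) m' := hcent hm' (zpow_mem hg0 i)
          have c2 : Commute (g0 ^ l) m := hcent hm (zpow_mem hg0 l)
          have c3 : Commute m m' := hcent hm' (hMP hm)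
          exact ((((Commute.refl g0).zpow_left i).zpow_right l).mul_right c1).mul_left
            (c2.symm.mul_right c3)
        · exfalso
          obtain rfl : q = 2 := hQ.1
          obtain ⟨z, -, hzo, -, -, hzsq, hzc⟩ := hQ.facts
          obtain ⟨_, ⟨x, hx, rfl⟩, _, ⟨y, hy, rfl⟩, hxy⟩ : ∃ a ∈ (P : Subgroup G).map f,
              ∃ b ∈ (P : Subgroup G).map f, ¬ Commute a b := by
            by_contra h
            push Not at h
            exact hQ.2.2.1 h
          have hne : ∀ a ∈ (P : Subgroup G), ∀ b ∈ (P : Subgroup G), ¬ Commute (f a) (f b) → f (a ^ 2) = z := by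
            intro a ha b hb hab
            rw [map_pow]
            refine hzsq _ (hmem a ha) (fun h => hab (h ▸ Commute.one_left _)) fun h => hab ?_
            rw [h]
            obtain ⟨-, -, hn', huniq⟩ := hQ
            refine (show Commute (f b) z from mul_inv_eq_iff_eq_mul.1 ?_).symm
            have hz : z ∈ (P : Subgroup G).map f := h ▸ hmem a ha
            exact huniq _ (mul_mem (mul_mem (hmem b hb) hz) (inv_mem (hmem b hb))) z hz
              (((MulAut.conj (f b)).orderOf_eq z).trans hzo) hzo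
          have hcz := (hzc _ (hmem x hx) _ (hmem y hy) hxy).2
          set w := x ^ 2 with hw
          have hfw : f w = z := hne x hx y hy hxy
          have hwP : w ∈ (P : Subgroup G) := pow_mem hx 2
          have hwM : w ∉ M := fun h => by
            have : f w = 1 := (QuotientGroup.eq_one_iff w).2 h
            rw [hfw] at this
            rw [this, orderOf_one] at hzo
            omega
          have hM2 : ∀ m ∈ M, m ^ 2 = 1 := hMexp
          have hw2 : w ^ 2 ∈ M := by
            refine (QuotientGroup.eq_one_iff _).1 (show f (w ^ 2) = 1 from ?_)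
            rw [map_pow, hfw, ← hzo, pow_orderOf_eq_one]
          have hw4 : orderOf w = 2 ^ 2 := by
            refine orderOf_eq_prime_pow (fun h => hwM ?_) (by rw [show 2 ^ (1 + 1) = 2 * 2 from rfl, pow_mul]; exact hM2 _ hw2)
            rw [pow_one] at h
            rcases (Nat.dvd_prime Nat.prime_two).1 (orderOf_dvd_of_pow_eq_one h) with h' | h'
            · exact orderOf_eq_one_iff.1 h' ▸ one_mem M
            · exact hord w h'
          have hMw : M ≤ Subgroup.zpowers w := by
            have h1 : Subgroup.zpowers (w ^ 2) = M := by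
              refine Subgroup.eq_of_le_of_card_ge (Subgroup.zpowers_le.2 hw2) ?_
              rw [hMc', Nat.card_zpowers, orderOf_pow, hw4]
              norm_num
            rw [← h1]
            exact Subgroup.zpowers_le.2 (pow_mem (Subgroup.mem_zpowers w) 2)
          have hmemw : ∀ a : G, f a = z → a ∈ Subgroup.zpowers w := fun a ha => by
            have := mul_mem (Subgroup.mem_zpowers w) (hMw (QuotientGroup.eq.1 (hfw.trans ha.symm) :
              w⁻¹ * a ∈ M))
            rwa [mul_inv_cancel_left] at this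
          have hy2 : y ^ 2 ∈ Subgroup.zpowers w := hmemw _ (hne y hy x hx fun h => hxy h.symm)
          set c := x * y * x⁻¹ * y⁻¹ with hc
          have hfc : f c = z := by
            rw [hc, map_mul, map_mul, map_mul, map_inv, map_inv, hcz]
          have hxw : Commute x w := (Commute.refl x).pow_right 2
          have hyw : Commute y w := by
            have hy2o : orderOf (y ^ 2) = 2 ^ 2 := by
              refine orderOf_eq_prime_pow (fun h => ?_) ?_
              · have h1 : y ^ 2 ∈ M := by
                  rw [pow_one] at h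
                  rcases (Nat.dvd_prime Nat.prime_two).1 (orderOf_dvd_of_pow_eq_one h) with h' | h'
                  · exact orderOf_eq_one_iff.1 h' ▸ one_mem M
                  · exact hord _ h'
                have h2 : f (y ^ 2) = 1 := (QuotientGroup.eq_one_iff _).2 h1
                rw [hne y hy x hx fun h => hxy h.symm] at h2
                rw [h2, orderOf_one] at hzo
                omega
              · obtain ⟨i, hi⟩ := Subgroup.mem_zpowers_iff.1 hy2
                rw [← hi, ← zpow_natCast, ← zpow_mul, mul_comm, zpow_mul, zpow_natCast, show 2 ^ (1 + 1) = 2 ^ 2 from rfl,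
                  ← hw4, pow_orderOf_eq_one, one_zpow]
            have heq : Subgroup.zpowers (y ^ 2) = Subgroup.zpowers w := Subgroup.eq_of_le_of_card_ge
              (Subgroup.zpowers_le.2 hy2) (by rw [Nat.card_zpowers, Nat.card_zpowers, hw4, hy2o])
            obtain ⟨i, hi⟩ := Subgroup.mem_zpowers_iff.1 (heq ▸ Subgroup.mem_zpowers w : w ∈ Subgroup.zpowers (y ^ 2))
            rw [← hi]
            exact ((Commute.refl y).pow_right 2).zpow_right i
          obtain ⟨i, hi⟩ := Subgroup.mem_zpowers_iff.1 (hmemw c hfc)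
          have hyc : Commute c y := by rw [← hi]; exact (hyw.zpow_right i).symm
          have e1 : x * y ^ 2 * x⁻¹ = c ^ 2 * y ^ 2 := by
            rw [← conj_pow, show x * y * x⁻¹ = c * y by rw [hc]; group, hyc.mul_pow]
          obtain ⟨l, hl⟩ := Subgroup.mem_zpowers_iff.1 hy2
          rw [← hl, (hxw.zpow_right l).eq, mul_inv_cancel_right, eq_comm, mul_eq_right] at e1
          have : c ∈ M := by
            rcases (Nat.dvd_prime Nat.prime_two).1 (orderOf_dvd_of_pow_eq_one e1) with h' | h'
            · exact orderOf_eq_one_iff.1 h' ▸ one_mem M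
            · exact hord _ h'
          have : f c = 1 := (QuotientGroup.eq_one_iff c).2 this
          rw [hfc] at this
          rw [this, orderOf_one] at hzo
          omega
    · -- coprime kernel
      obtain ⟨d, hd⟩ := IsPGroup.iff_card.1 hMq
      have hPM : (P : Subgroup G) ⊓ M = ⊥ := by
        obtain ⟨e, he⟩ := IsPGroup.iff_card.1 P.2
        refine inf_eq_bot_of_coprime ?_
        rw [he, hd]
        exact ((Nat.coprime_primes hr.out hq).2 (Ne.symm hqr)).pow e d
      have hinj : ∀ {a b : G}, a ∈ (P : Subgroup G) → b ∈ (P : Subgroup G) → f a = f b → a = b :=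
        fun {a b} ha hb h => inv_mul_eq_one.1 (Subgroup.mem_bot.1 (hPM ▸
          Subgroup.mem_inf.2 ⟨mul_mem (inv_mem ha) hb, QuotientGroup.eq.1 h⟩))
      have hbij : Function.Bijective (f.subgroupMap (P : Subgroup G)) :=
        ⟨fun a b h => Subtype.ext (hinj a.2 b.2 (congrArg Subtype.val h)), f.subgroupMap_surjective _⟩
      let e := MulEquiv.ofBijective _ hbij
      rcases hIH with ⟨hn', hnc, hexp, hcomm⟩ | hcyc | ⟨hr2, hc8, hna, huniq⟩
      · refine Or.inl ?_
        have hexpP : ∀ a ∈ (P : Subgroup G), a ^ r = 1 := fun a ha =>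
          hinj (pow_mem ha r) (one_mem _) (by rw [map_pow, map_one]; exact hexp _ (hmem a ha))
        have hcP : IsMulCommutative (P : Subgroup G) := ⟨⟨fun a b => Subtype.ext (hinj (a * b).2 (b * a).2 (by
          rw [Subgroup.coe_mul, Subgroup.coe_mul, map_mul, map_mul]
          exact congrArg Subtype.val (hcomm.1.1 ⟨_, hmem _ a.2⟩ ⟨_, hmem _ b.2⟩)))⟩⟩
        refine ⟨?_, hPc, hexpP, hcP⟩
        have hPMn : ((P : Subgroup G) ⊔ M).Normal := by
          have : ((P : Subgroup G).map f).comap f = (P : Subgroup G) ⊔ M := by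
            rw [Subgroup.comap_map_eq, QuotientGroup.ker_mk']
          rw [← this]
          exact hn'.comap f
        by_cases hPC : (P : Subgroup G) ≤ Subgroup.centralizer (M : Set G)
        · have hMN : M ≤ Subgroup.normalizer ((P : Subgroup G) : Set G) := by
            refine le_trans ?_ (Subgroup.centralizer_le_normalizer _)
            exact Subgroup.le_centralizer_iff.1 hPC
          refine ⟨fun a ha g => ?_⟩
          have hga : g * a * g⁻¹ ∈ (P : Subgroup G) ⊔ M := hPMn.conj_mem a (Subgroup.mem_sup_left ha) g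
          obtain ⟨k, hk⟩ := P.2 ⟨a, ha⟩
          have hk' : IsPGroup r (Subgroup.zpowers (g * a * g⁻¹)) := by
            have h1 : (g * a * g⁻¹) ^ r ^ k = 1 := by
              rw [conj_pow, show a ^ r ^ k = 1 from congrArg Subtype.val hk, mul_one, mul_inv_cancel]
            obtain ⟨l, -, hl⟩ := (Nat.dvd_prime_pow hr.out).1 (orderOf_dvd_of_pow_eq_one h1)
            exact IsPGroup.of_card (n := l) (by rw [Nat.card_zpowers, hl])
          have hle : g * a * g⁻¹ ∈ Subgroup.normalizer ((P : Subgroup G) : Set G) :=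
            (sup_le Subgroup.le_normalizer hMN) hga
          exact (Subgroup.mem_inf.1 ((hk'.inf_normalizer_sylow P) ▸
            Subgroup.mem_inf.2 ⟨Subgroup.mem_zpowers _, hle⟩)).2
        · exfalso
          set C := Subgroup.centralizer (M : Set G)
          have hEC : (P : Subgroup G) ⊓ C = ⊥ := by
            by_contra hne
            obtain ⟨x, hx, hx1⟩ : ∃ x ∈ (P : Subgroup G) ⊓ C, x ≠ 1 := by
              by_contra h
              push Not at h
              exact hne (eq_bot_iff.2 fun x hx => Subgroup.mem_bot.2 (h x hx))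
            obtain ⟨hxP, hxC⟩ := Subgroup.mem_inf.1 hx
            refine hPC fun y hy => ?_
            by_cases hy1 : y = 1
            · rw [hy1]; exact one_mem C
            obtain ⟨g, hg⟩ := hB.conj_zpowers ((orderOf_eq_prime (hexpP x hxP) hx1).trans
              (orderOf_eq_prime (hexpP y hy) hy1).symm)
            have hle := conj_mono g (Subgroup.zpowers_le.2 hxC)
            rw [hg, conj_normal] at hle
            exact hle (Subgroup.mem_zpowers y)
          rcases Nat.lt_or_ge d 2 with hd2 | hd2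
          · have hd' : d = 1 := by
              rcases d with _ | d
              · exact absurd (Subgroup.card_eq_one.1 (by rw [hd, pow_zero])) hM0
              · omega
            subst hd'
            rw [pow_one] at hd
            haveI : IsCyclic M := isCyclic_of_prime_card hd
            haveI : IsCyclic (MulAut M) := by
              rw [(IsCyclic.mulAutMulEquiv M).isCyclic, hd]
              infer_instance
            refine hPc (isCyclic_of_injective ((MulAut.conjNormal : G →* MulAut M).comp (P : Subgroup G).subtype)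
              ((injective_iff_map_eq_one _).2 fun a ha => Subtype.ext ?_))
            refine Subgroup.mem_bot.1 (hEC ▸ Subgroup.mem_inf.2 ⟨a.2, Subgroup.mem_centralizer_iff.2 fun m hm => ?_⟩)
            have h2 : (a : G) * m * (a : G)⁻¹ = m := by
              have := congrArg (fun φ : MulAut M => ((φ ⟨m, hm⟩ : M) : G)) ha
              simpa using this
            exact (mul_inv_eq_iff_eq_mul.1 h2).symm
          · letI : CommGroup M := { (inferInstance : Group M) with mul_comm := fun a b => hMc.1.1 a b }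
            haveI : Nontrivial M := (Subgroup.nontrivial_iff_ne_bot M).2 hM0
            let ψ : G →* MulAut M := MulAut.conjNormal
            have hψ : ∀ g : G, g ∈ ψ.ker ↔ g ∈ C := fun g => by
              refine ⟨fun h => Subgroup.mem_centralizer_iff.2 fun m hm => ?_, fun h => MulEquiv.ext fun m => ?_⟩
              · have h2 := congrArg (fun φ : MulAut M => ((φ ⟨m, hm⟩ : M) : G)) (MonoidHom.mem_ker.1 h)
                simp only [ψ, MulAut.conjNormal_apply, MulAut.one_apply] at h2
                exact (mul_inv_eq_iff_eq_mul.1 h2).symm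
              · refine Subtype.ext ?_
                rw [MulAut.conjNormal_apply, ← (Subgroup.mem_centralizer_iff.1 h m m.2),
                  mul_inv_cancel_right]
                rfl
            set π := QuotientGroup.mk' ψ.ker
            have hMker : M.map π = ⊥ := by
              rw [Subgroup.map_eq_bot_iff, QuotientGroup.ker_mk']
              exact fun m hm => (hψ m).2 (Subgroup.mem_centralizer_iff.2 fun x hx =>
                congrArg Subtype.val (hMc.1.1 ⟨x, hx⟩ ⟨m, hm⟩))
            haveI : ((P : Subgroup G).map π).Normal := by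
              have h1 := hPMn.map π (QuotientGroup.mk'_surjective _)
              rwa [Subgroup.map_sup, hMker, sup_bot_eq] at h1
            refine covering_false (QuotientGroup.kerLift ψ) (QuotientGroup.kerLift_injective ψ) hq hr.out hqr
              (fun x => Subtype.ext (hMexp x x.2)) (fun v w hv1 hw1 => ?_) ((P : Subgroup G).map π)
              ⟨⟨?_⟩⟩ ?_ ?_
            · obtain ⟨g, hg⟩ := hB.conj_zpowers ((orderOf_eq_prime (hMexp v v.2) fun h => hv1 (Subtype.ext h)).trans
                (orderOf_eq_prime (hMexp w w.2) fun h => hw1 (Subtype.ext h)).symm)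
              have hwm : (w : G) ∈ MulAut.conj g • Subgroup.zpowers (v : G) := hg ▸ Subgroup.mem_zpowers _
              rw [mem_conj_iff] at hwm
              obtain ⟨i, hi⟩ := Subgroup.mem_zpowers_iff.1 hwm
              refine ⟨π g, i, Subtype.ext ?_⟩
              show ((ψ g (v ^ i) : M) : G) = (w : G)
              rw [MulAut.conjNormal_apply, Subgroup.coe_zpow, hi]
              group
            · rintro ⟨_, a, ha, rfl⟩ ⟨_, b, hb, rfl⟩
              refine Subtype.ext ?_
              show π a * π b = π b * π a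
              rw [← map_mul, ← map_mul]
              exact congrArg π (congrArg Subtype.val (hcP.1.1 ⟨a, ha⟩ ⟨b, hb⟩))
            · rintro _ ⟨a, ha, rfl⟩
              rw [← map_pow, hexpP a ha, map_one]
            · intro hcyc
              refine hPc (isCyclic_of_injective (π.subgroupMap (P : Subgroup G))
                ((injective_iff_map_eq_one _).2 fun a ha => Subtype.ext ?_))
              have h1 : π (a : G) = 1 := congrArg Subtype.val ha
              exact Subgroup.mem_bot.1 (hEC ▸ Subgroup.mem_inf.2 ⟨a.2, (hψ _).1 ((QuotientGroup.eq_one_iff _).1 h1)⟩)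
      · exact absurd (isCyclic_of_surjective e.symm.toMonoidHom e.symm.surjective) hPc
      · refine Or.inr (Or.inr ⟨hr2, ?_, fun h => hna ?_, fun a ha b hb ha2 hb2 => ?_⟩)
        · rw [← hc8]; exact Nat.card_congr e.toEquiv
        · rintro _ ⟨a, ha, rfl⟩ _ ⟨b, hb, rfl⟩
          exact (h a ha b hb).map f
        · have ho : ∀ c ∈ (P : Subgroup G), orderOf c = 2 → orderOf (f c) = 2 := fun c hc hc2 =>
            orderOf_eq_prime (by rw [← map_pow, ← hc2, pow_orderOf_eq_one, map_one]) fun h => by
              have := hinj hc (one_mem _) (h.trans (map_one f).symm)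
              rw [this, orderOf_one] at hc2
              omega
          exact hinj ha hb (huniq _ (hmem a ha) _ (hmem b hb) (ho a ha ha2) (ho b hb hb2))

end Cfsg.Agent.Solvable
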