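/-
In a solvable group with conjugate abelian subgroups of equal order, all subgroups of equal order are
conjugate (owner: helper2).

* `conj_abelian_of_cyclic`: abelian subgroups of equal order in a subgroup with cyclic r-subgroups;
* `no_quaternion_stabiliser`: a quaternion Sylow subgroup acting non-trivially normalises no proper
  non-trivial subgroup of the minimal normal subgroup;
* `all_conj`: the theorem.
-/
import Cfsg.Agent.Lib.Solvable.SylowTypes
import Cfsg.Agent.Lib.Zsigmondy.Basic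

set_option autoImplicit false

open Pointwise

namespace Cfsg.Agent.Solvable

universe u

variable {G : Type*} [Group G] [Finite G]

/-- Splitting an abelian subgroup along a set of primes. -/
theorem split_abelian (D : Subgroup G) [IsMulCommutative D] (π : Set ℕ) :
    ∃ D1 D2 : Subgroup G, D1 ≤ D ∧ D2 ≤ D ∧ IsPiNum π (Nat.card D1) ∧ IsPiNum πᶜ (Nat.card D2) ∧
      Nat.card D1 * Nat.card D2 = Nat.card D ∧ D1 ⊔ D2 = D := by
  haveI : Group.IsSolvable D := Group.isSolvable_of_comm fun a b => mul_comm' a b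
  obtain ⟨H, hH⟩ := exists_piHall_of_solvable (G := D) π
  obtain ⟨H', hH'⟩ := exists_piHall_of_solvable (G := D) πᶜ
  rw [isPiHall_iff] at hH hH'
  rw [compl_compl] at hH'
  haveI : H'.Normal := ⟨fun n hn g => by rwa [mul_comm' g n, mul_inv_cancel_right]⟩
  have hb : H ⊓ H' = ⊥ := inf_eq_bot_of_coprime (hH.1.coprime hH'.1)
  have hc := card_sup_of_disjoint H H' hb
  have h1 := H.card_mul_index
  have hcard : Nat.card H' = H.index := by
    refine Nat.dvd_antisymm ?_ ?_
    · refine ((hH.1.coprime hH'.1).symm).dvd_of_dvd_mul_left ?_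
      rw [h1]; exact Subgroup.card_subgroup_dvd_card H'
    · refine ((hH'.2.coprime hH.2).symm).dvd_of_dvd_mul_right ?_
      rw [H'.card_mul_index]; exact H.index_dvd_card
  refine ⟨H.map D.subtype, H'.map D.subtype, Subgroup.map_subtype_le H, Subgroup.map_subtype_le H', ?_, ?_, ?_, ?_⟩
  · rw [Subgroup.card_map_of_injective D.subtype_injective]; exact hH.1
  · rw [Subgroup.card_map_of_injective D.subtype_injective]; exact hH'.1
  · rw [Subgroup.card_map_of_injective D.subtype_injective, Subgroup.card_map_of_injective D.subtype_injective,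
      hcard, h1]
  · rw [← Subgroup.map_sup, Subgroup.eq_top_of_card_eq (H ⊔ H') (by rw [hc, hcard, h1]),
      ← MonoidHom.range_eq_map, Subgroup.range_subtype]

omit [Finite G] in
theorem IsPiNum.eq_of_mul_eq {π : Set ℕ} {a b a' b' : ℕ} (ha : IsPiNum π a) (hb : IsPiNum πᶜ b)
    (ha' : IsPiNum π a') (hb' : IsPiNum πᶜ b') (h : a * b = a' * b') (h0 : a ≠ 0) : a = a' ∧ b = b' := by
  have e : a = a' := Nat.dvd_antisymm ((ha.coprime hb').dvd_of_dvd_mul_right (h ▸ dvd_mul_right a b))
    ((ha'.coprime hb).dvd_of_dvd_mul_right (h ▸ dvd_mul_right a' b'))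
  subst e
  exact ⟨rfl, Nat.eq_of_mul_eq_mul_left (Nat.pos_of_ne_zero h0) h⟩

theorem eq_of_card_eq_of_isCyclic {C : Type*} [Group C] [Finite C] [IsCyclic C] {H K : Subgroup C}
    (h : Nat.card H = Nat.card K) : H = K := by
  classical
  haveI := Fintype.ofFinite C
  set d := Nat.card K with hd
  let S : Finset C := Finset.univ.filter fun x => x ^ d = 1
  have hS : S.card ≤ d := IsCyclic.card_pow_eq_one_le Nat.card_pos
  have key : ∀ L : Subgroup C, Nat.card L = d → ∀ x, x ∈ L ↔ x ∈ S := by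
    intro L hL
    have hsub : Finset.univ.filter (fun x => x ∈ L) ⊆ S := by
      intro x hx
      simp only [S, Finset.mem_filter, Finset.mem_univ, true_and] at hx ⊢
      have := pow_card_eq_one' (G := L) (x := ⟨x, hx⟩)
      rw [hL] at this
      exact congrArg Subtype.val this
    have hcard : (Finset.univ.filter fun x => x ∈ L).card = d := by
      rw [← hL, Nat.card_eq_fintype_card, Fintype.card_subtype]
    have heq := Finset.eq_of_subset_of_card_le hsub (hcard ▸ hS)
    intro x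
    rw [← heq]
    simp
  ext x
  rw [key H h, key K rfl]

/-- Abelian subgroups of equal order are conjugate in a subgroup all whose relevant primary subgroups are
cyclic. -/
theorem conj_abelian_of_cyclic (n : ℕ) : ∀ (T D D' : Subgroup G), Nat.card D = n → Nat.card D' = n →
    IsMulCommutative D → IsMulCommutative D' → D ≤ T → D' ≤ T →
    (∀ r : ℕ, r.Prime → r ∣ n → ∀ R : Subgroup G, R ≤ T → IsPGroup r R → IsCyclic R) →
    ∃ g ∈ T, MulAut.conj g • D = D' := by
  induction n using Nat.strong_induction_on with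
  | _ n ih =>
    intro T D D' hD hD' hc hc' hDT hD'T hcyc
    by_cases hn1 : n = 1
    · subst hn1
      exact ⟨1, one_mem T, by rw [conj_one_smul, Subgroup.card_eq_one.1 hD, Subgroup.card_eq_one.1 hD']⟩
    obtain ⟨r, hr, hrn⟩ := Nat.exists_prime_and_dvd hn1
    haveI := Fact.mk hr
    obtain ⟨R, E, hR, hE, hRπ, hEπ, hRE, hRsup⟩ := split_abelian D ({r} : Set ℕ)
    obtain ⟨R', E', hR', hE', hRπ', hEπ', hRE', hRsup'⟩ := split_abelian D' ({r} : Set ℕ)
    obtain ⟨hRR, hEE⟩ := IsPiNum.eq_of_mul_eq hRπ hEπ hRπ' hEπ' (by rw [hRE, hRE', hD, hD']) Nat.card_pos.ne'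
    have hpg : ∀ X : Subgroup G, IsPiNum {r} (Nat.card X) → IsPGroup r X := fun X hX =>
      IsPGroup.of_card (Nat.eq_prime_pow_of_unique_prime_dvd Nat.card_pos.ne' fun {q} hq hd => hX q hq hd)
    obtain ⟨S, hS⟩ := ((hpg R hRπ).comap_subtype (K := T)).exists_le_sylow
    obtain ⟨S', hS'⟩ := ((hpg R' hRπ').comap_subtype (K := T)).exists_le_sylow
    obtain ⟨t, ht⟩ := MulAction.exists_smul_eq T S' S
    set U := (S : Subgroup T).map T.subtype
    haveI : IsCyclic U := hcyc r hr hrn U (Subgroup.map_subtype_le _) (S.2.map _)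
    have hRU : R ≤ U := fun x hx => ⟨⟨x, hDT (hR hx)⟩, hS hx, rfl⟩
    have hR'U : MulAut.conj (t : G) • R' ≤ U := by
      intro x hx
      rw [mem_conj_iff] at hx
      refine ⟨t * ⟨(t : G)⁻¹ * x * t, hD'T (hR' hx)⟩ * t⁻¹, ?_, by simp [mul_assoc]⟩
      rw [← ht]
      exact Subgroup.smul_mem_pointwise_smul _ (MulAut.conj t) _ (hS' hx)
    have hReq : R = MulAut.conj (t : G) • R' := by
      have h1 := eq_of_card_eq_of_isCyclic (H := R.subgroupOf U) (K := (MulAut.conj (t : G) • R').subgroupOf U)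
        (by rw [Nat.card_congr (Subgroup.subgroupOfEquivOfLe hRU).toEquiv,
          Nat.card_congr (Subgroup.subgroupOfEquivOfLe hR'U).toEquiv, card_conj, hRR])
      rw [Subgroup.subgroupOf_inj] at h1
      rwa [inf_of_le_left hRU, inf_of_le_left hR'U] at h1
    have hElt : Nat.card E < n := by
      rw [← hD, ← hRE]
      refine lt_mul_of_one_lt_left Nat.card_pos ?_
      by_contra hle
      have h1 : Nat.card R = 1 := le_antisymm (not_lt.1 hle) Nat.card_pos
      rw [h1, one_mul] at hRE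
      exact hEπ r hr (by rw [hRE, hD]; exact hrn) rfl
    set E'' := MulAut.conj (t : G) • E'
    have hE''T : E'' ≤ T := by
      intro x hx
      rw [mem_conj_iff] at hx
      have := T.mul_mem (T.mul_mem t.2 (hD'T (hE' hx))) (T.inv_mem t.2)
      simpa [mul_assoc] using this
    have hcomm : ∀ (X Y Z : Subgroup G), IsMulCommutative X → Y ≤ X → Z ≤ X → Y ≤ Subgroup.centralizer (Z : Set G) :=
      fun X Y Z hX hY hZ y hy => Subgroup.mem_centralizer_iff.2 fun z hz =>
        congrArg Subtype.val (hX.1.1 ⟨z, hZ hz⟩ ⟨y, hY hy⟩)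
    have hEcomm : IsMulCommutative E := ⟨⟨fun a b => Subtype.ext
      (congrArg Subtype.val (hc.1.1 ⟨a, hE a.2⟩ ⟨b, hE b.2⟩) :)⟩⟩
    have hDconj : IsMulCommutative ↥(MulAut.conj (t : G) • D') := Subgroup.map_isMulCommutative D' _
    have hE''comm : IsMulCommutative E'' := ⟨⟨fun a b => Subtype.ext
      (congrArg Subtype.val (hDconj.1.1 ⟨a, conj_mono _ hE' a.2⟩ ⟨b, conj_mono _ hE' b.2⟩) :)⟩⟩
    obtain ⟨g, hg, hge⟩ := ih _ hElt (T ⊓ Subgroup.centralizer (R : Set G)) E E'' rfl
      (by rw [card_conj, hEE]) hEcomm hE''comm (le_inf (hE.trans hDT) (hcomm D E R hc hE hR))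
      (le_inf hE''T (by rw [hReq]; exact hcomm _ E'' _ hDconj (conj_mono _ hE') (conj_mono _ hR')))
      (fun s hs hsd X hX => hcyc s hs (hsd.trans (hD ▸ hRE ▸ dvd_mul_left _ _)) X (hX.trans inf_le_left))
    obtain ⟨hgT, hgR⟩ := Subgroup.mem_inf.1 hg
    refine ⟨(t : G)⁻¹ * g, T.mul_mem (T.inv_mem t.2) hgT, ?_⟩
    have hfix : MulAut.conj g • R = R := mem_normalizer_iff_conj.1 (Subgroup.centralizer_le_normalizer _ hgR)
    rw [← conj_conj, ← hRsup, conj_sup, hfix, hge, hReq, ← conj_sup, hRsup', conj_inv_smul]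

/-- The involution of a quaternion Sylow subgroup is central when the odd Sylow subgroups are cyclic. -/
theorem central_involution (n : ℕ) : ∀ (L : Type u) [Group L] [Finite L], Nat.card L = n → Group.IsSolvable L →
    (∀ r : ℕ, r.Prime → r ≠ 2 → ∀ R : Subgroup L, IsPGroup r R → IsCyclic R) →
    ∀ P : Sylow 2 L, QType 2 (P : Subgroup L) →
      ∀ z ∈ (P : Subgroup L), orderOf z = 2 → z ∈ Subgroup.center L := by
  induction n using Nat.strong_induction_on with
  | _ n ih =>
    intro L _ _ hn hs hcyc P hQ z hz hzo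
    haveI : Group.IsSolvable L := hs
    haveI : Fact (Nat.Prime 2) := ⟨Nat.prime_two⟩
    obtain ⟨z', hz', hzo', hzc, h4, hsq, hcom⟩ := hQ.facts
    obtain rfl : z = z' := hQ.2.2.2 z hz z' hz' hzo hzo'
    obtain ⟨a, ha, b, hb, hab⟩ : ∃ a ∈ (P : Subgroup L), ∃ b ∈ (P : Subgroup L), ¬ Commute a b := by
      by_contra h
      push Not at h
      exact hQ.2.2.1 h
    have hcz := (hcom a ha b hb hab).2
    have htop : (⊤ : Subgroup L) ≠ ⊥ := fun h => by
      have : z = 1 := Subgroup.mem_bot.1 (h ▸ Subgroup.mem_top z)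
      rw [this, orderOf_one] at hzo
      omega
    obtain ⟨M, hMn, hM0, -, hMmin⟩ := exists_minimal_normal htop
    obtain ⟨hMc, q, hq, hMq, hMexp⟩ := elementaryAbelian_of_minimal_normal M hM0 hMmin
    haveI := Fact.mk hq
    haveI := (Subgroup.nontrivial_iff_ne_bot M).2 hM0
    obtain ⟨⟨m, hm⟩, hm1⟩ := exists_ne (1 : M)
    have hmo : orderOf m = q := orderOf_eq_prime (hMexp m hm) fun h => hm1 (Subtype.ext h)
    by_cases hq2 : q = 2
    · subst hq2
      have hMP : M ≤ (P : Subgroup L) := by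
        rw [← P.is_maximal' (IsPGroup.to_sup_of_normal_right P.2 hMq) le_sup_left]
        exact le_sup_right
      have hall : ∀ w ∈ M, w ≠ 1 → w = z := fun w hw hw1 =>
        hQ.2.2.2 w (hMP hw) z hz (orderOf_eq_prime (hMexp w hw) hw1) hzo
      have hzM : z ∈ M := hall m hm (fun h => hm1 (Subtype.ext h)) ▸ hm
      refine Subgroup.mem_center_iff.2 fun g => ?_
      exact mul_inv_eq_iff_eq_mul.1 (hall _ (hMn.conj_mem z hzM g) fun h => by
        rw [conj_eq_one_iff] at h
        rw [h, orderOf_one] at hzo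
        omega)
    · haveI : IsCyclic M := hcyc q hq hq2 M hMq
      have hMgen : ∀ w ∈ M, ∃ i : ℤ, m ^ i = w := by
        intro w hw
        have hcard : Nat.card M = q := by
          obtain ⟨g, hg⟩ := IsCyclic.exists_generator (α := M)
          rw [← orderOf_eq_card_of_forall_mem_zpowers hg, ← Subgroup.orderOf_coe]
          refine orderOf_eq_prime (hMexp g g.2) fun h => hm1 ?_
          obtain ⟨i, hi⟩ := Subgroup.mem_zpowers_iff.1 (hg ⟨m, hm⟩)
          rw [show g = 1 from Subtype.ext h, one_zpow] at hi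
          exact hi.symm
        have h1 := Subgroup.eq_of_le_of_card_ge (Subgroup.zpowers_le.2 hm)
          (by rw [hcard, Nat.card_zpowers, hmo])
        exact Subgroup.mem_zpowers_iff.1 (h1.symm ▸ hw : w ∈ Subgroup.zpowers m)
      have hzMc : ∀ w ∈ M, Commute z w := by
        have hkey : ∀ w ∈ M, a * (b * w * b⁻¹) * a⁻¹ = b * (a * w * a⁻¹) * b⁻¹ := by
          intro w hw
          obtain ⟨i, hi⟩ := hMgen _ (hMn.conj_mem m hm a)
          obtain ⟨j, hj⟩ := hMgen _ (hMn.conj_mem m hm b)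
          obtain ⟨l, rfl⟩ := hMgen w hw
          rw [← conj_zpow (a := b), ← hj, ← zpow_mul, ← conj_zpow, ← hi, ← zpow_mul,
            ← conj_zpow (a := a), ← hi, ← zpow_mul, ← conj_zpow, ← hj, ← zpow_mul]
          congr 1
          ring
        intro w hw
        have hw' : a⁻¹ * b⁻¹ * w * b * a ∈ M := by
          simpa [mul_assoc] using hMn.conj_mem w hw (a⁻¹ * b⁻¹)
        have h1 := hkey _ hw'
        refine mul_inv_eq_iff_eq_mul.1 ?_
        calc z * w * z⁻¹ = a * (b * (a⁻¹ * b⁻¹ * w * b * a) * b⁻¹) * a⁻¹ := by rw [← hcz]; group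
          _ = w := by rw [h1]; group
      set f := QuotientGroup.mk' M with hf
      have hsurj : Function.Surjective f := QuotientGroup.mk'_surjective M
      have hinj : ∀ {x y : L}, x ∈ (P : Subgroup L) → y ∈ (P : Subgroup L) → f x = f y → x = y := by
        intro x y hx hy h
        obtain ⟨e, he⟩ := IsPGroup.iff_card.1 P.2
        obtain ⟨d, hd⟩ := IsPGroup.iff_card.1 hMq
        have hb' : (P : Subgroup L) ⊓ M = ⊥ := inf_eq_bot_of_coprime (by
          rw [he, hd]; exact ((Nat.coprime_primes Nat.prime_two hq).2 (Ne.symm hq2)).pow e d)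
        exact inv_mul_eq_one.1 (Subgroup.mem_bot.1 (hb' ▸
          Subgroup.mem_inf.2 ⟨mul_mem (inv_mem hx) hy, QuotientGroup.eq.1 h⟩))
      have hbij : Function.Bijective (f.subgroupMap (P : Subgroup L)) :=
        ⟨fun a b h => Subtype.ext (hinj a.2 b.2 (congrArg Subtype.val h)), f.subgroupMap_surjective _⟩
      have ho : ∀ c ∈ (P : Subgroup L), orderOf c = 2 → orderOf (f c) = 2 := fun c hc hc2 =>
        orderOf_eq_prime (by rw [← map_pow, ← hc2, pow_orderOf_eq_one, map_one]) fun h => by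
          have := hinj hc (one_mem _) (h.trans (map_one f).symm)
          rw [this, orderOf_one] at hc2
          omega
      have hQ' : QType 2 ((P.mapSurjective hsurj : Sylow 2 (L ⧸ M)) : Subgroup (L ⧸ M)) := by
        rw [Sylow.coe_mapSurjective]
        refine ⟨rfl, ?_, fun h => hab ?_, ?_⟩
        · rw [← Nat.card_congr (Equiv.ofBijective _ hbij)]; exact hQ.2.1
        · have := h _ ⟨a, ha, rfl⟩ _ ⟨b, hb, rfl⟩
          exact hinj (mul_mem ha hb) (mul_mem hb ha) (by rw [map_mul, map_mul]; exact this)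
        · rintro _ ⟨c, hc, rfl⟩ _ ⟨d, hd, rfl⟩ hc2 hd2
          have hback : ∀ e ∈ (P : Subgroup L), orderOf (f e) = 2 → orderOf e = 2 := fun e he he2 =>
            orderOf_eq_prime (hinj (pow_mem he 2) (one_mem _)
              (by rw [map_pow, map_one, ← he2, pow_orderOf_eq_one])) fun h => by
                rw [h, map_one, orderOf_one] at he2; omega
          rw [hQ.2.2.2 c hc d hd (hback c hc hc2) (hback d hd hd2)]
      have hIH := ih _ (hn ▸ card_quotient_lt hM0) (L ⧸ M) rfl (Group.isSolvable_of_surjective hsurj) ?_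
        (P.mapSurjective hsurj) hQ' (f z)
        (by rw [Sylow.coe_mapSurjective]; exact Subgroup.mem_map_of_mem f hz) (ho z hz hzo)
      · refine Subgroup.mem_center_iff.2 fun g => ?_
        have hm' : g * z * g⁻¹ * z⁻¹ ∈ M := by
          refine (QuotientGroup.eq_one_iff _).1 (show f (g * z * g⁻¹ * z⁻¹) = 1 from ?_)
          rw [map_mul, map_mul, map_mul, map_inv, map_inv, Subgroup.mem_center_iff.1 hIH (f g)]
          group
        set w := g * z * g⁻¹ * z⁻¹ with hw
        have h2 : w ^ 2 = 1 := by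
          have e1 : w * z = g * z * g⁻¹ := by rw [hw]; group
          have e2 : (w * z) ^ 2 = 1 := by
            rw [e1, conj_pow, ← hzo, pow_orderOf_eq_one, mul_one, mul_inv_cancel]
          rwa [((hzMc w hm').symm).mul_pow, show z ^ 2 = 1 by rw [← hzo, pow_orderOf_eq_one], mul_one] at e2
        have : w = 1 := by
          have h3 := pow_gcd_eq_one.2 ⟨h2, hMexp w hm'⟩
          rwa [(Nat.coprime_primes Nat.prime_two hq).2 (Ne.symm hq2), pow_one] at h3
        exact mul_inv_eq_iff_eq_mul.1 (mul_inv_eq_one.1 this)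
      · intro s hs2 hs2' R hR
        haveI := Fact.mk hs2
        let S : Sylow s L := default
        haveI : IsCyclic (S : Subgroup L) := hcyc s hs2 hs2' _ S.2
        obtain ⟨R', hR'⟩ := hR.exists_le_sylow
        obtain ⟨g, hg⟩ := MulAction.exists_smul_eq (L ⧸ M) (S.mapSurjective hsurj) R'
        have : IsCyclic (R' : Subgroup (L ⧸ M)) := by
          rw [← hg]
          haveI : IsCyclic ((S.mapSurjective hsurj : Sylow s (L ⧸ M)) : Subgroup (L ⧸ M)) :=
            isCyclic_of_surjective _ (f.subgroupMap_surjective (S : Subgroup L))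
          exact isCyclic_of_surjective _ (Subgroup.equivSMul (MulAut.conj g) _).surjective
        exact isCyclic_of_injective (Subgroup.inclusion hR') (Subgroup.inclusion_injective hR')

/-- The number of ordered pairs spanning a subgroup of order `p²` of an elementary abelian subgroup. -/
theorem card_pairs {p : ℕ} [hp : Fact p.Prime] (E : Subgroup G) (hE : ∀ x ∈ E, x ^ p = 1) :
    Nat.card {vw : G × G // vw.1 ∈ E ∧ vw.2 ∈ E ∧ vw.1 ≠ 1 ∧ vw.2 ∉ Subgroup.zpowers vw.1} =
      (Nat.card E - 1) * (Nat.card E - p) := by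
  classical
  haveI := Fintype.ofFinite G
  let e : {vw : G × G // vw.1 ∈ E ∧ vw.2 ∈ E ∧ vw.1 ≠ 1 ∧ vw.2 ∉ Subgroup.zpowers vw.1} ≃
      Σ v : ↥((E : Set G) \ {1}), ↥((E : Set G) \ (Subgroup.zpowers (v : G) : Set G)) :=
    { toFun := fun x => ⟨⟨x.1.1, x.2.1, x.2.2.2.1⟩, ⟨x.1.2, x.2.2.1, x.2.2.2.2⟩⟩
      invFun := fun x => ⟨(x.1.1, x.2.1), x.1.2.1, x.2.2.1, x.1.2.2, x.2.2.2⟩
      left_inv := fun x => rfl
      right_inv := fun x => rfl }
  have hfib : ∀ v : ↥((E : Set G) \ {1}),
      Nat.card ↥((E : Set G) \ (Subgroup.zpowers (v : G) : Set G)) = Nat.card E - p := by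
    intro v
    have hle : Subgroup.zpowers (v : G) ≤ E := Subgroup.zpowers_le.2 v.2.1
    rw [Nat.card_coe_set_eq, Set.ncard_sdiff hle (Set.toFinite _), ← Nat.card_coe_set_eq,
      ← Nat.card_coe_set_eq, SetLike.coe_sort_coe, SetLike.coe_sort_coe, Nat.card_zpowers,
      orderOf_eq_prime (hE _ v.2.1) v.2.2]
  rw [Nat.card_congr e, Nat.card_sigma, Finset.sum_congr rfl (fun v _ => hfib v), Finset.sum_const,
    Finset.card_univ, smul_eq_mul, ← Nat.card_eq_fintype_card, Nat.card_coe_set_eq,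
    Set.ncard_sdiff (Set.singleton_subset_iff.2 (one_mem E)) (Set.toFinite _), Set.ncard_singleton,
    ← Nat.card_coe_set_eq, SetLike.coe_sort_coe]

omit [Finite G] in
theorem card_zpowers_sup {p : ℕ} [hp : Fact p.Prime] (M : Subgroup G) [IsMulCommutative M]
    (hM : ∀ x ∈ M, x ^ p = 1) {v w : G} (hv : v ∈ M) (hw : w ∈ M) (hv1 : v ≠ 1)
    (hwv : w ∉ Subgroup.zpowers v) :
    Nat.card ↥(Subgroup.zpowers v ⊔ Subgroup.zpowers w) = p ^ 2 := by
  set A := (Subgroup.zpowers v).subgroupOf M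
  set B := (Subgroup.zpowers w).subgroupOf M
  haveI : B.Normal := ⟨fun n hn g => by rwa [mul_comm' g n, mul_inv_cancel_right]⟩
  have hvM : Subgroup.zpowers v ≤ M := Subgroup.zpowers_le.2 hv
  have hwM : Subgroup.zpowers w ≤ M := Subgroup.zpowers_le.2 hw
  have hvo : orderOf v = p := orderOf_eq_prime (hM v hv) hv1
  have hwo : orderOf w = p := orderOf_eq_prime (hM w hw) fun h => hwv (h ▸ one_mem _)
  have hA : Nat.card A = p := by
    rw [Nat.card_congr (Subgroup.subgroupOfEquivOfLe hvM).toEquiv, Nat.card_zpowers, hvo]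
  have hB : Nat.card B = p := by
    rw [Nat.card_congr (Subgroup.subgroupOfEquivOfLe hwM).toEquiv, Nat.card_zpowers, hwo]
  have hdis : A ⊓ B = ⊥ := by
    haveI : Fact (Nat.card B).Prime := ⟨hB ▸ hp.out⟩
    rcases ((A ⊓ B).subgroupOf B).eq_bot_or_eq_top_of_prime_card with h | h
    · have := Subgroup.subgroupOf_eq_bot.1 h
      exact disjoint_self.1 (this.mono_right inf_le_right)
    · exact absurd ((Subgroup.subgroupOf_eq_top.1 h (show (⟨w, hw⟩ : M) ∈ B from
        Subgroup.mem_zpowers w)).1) hwv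
  have h := card_sup_of_disjoint A B hdis
  rw [hA, hB] at h
  have hmap : (A ⊔ B).map M.subtype = Subgroup.zpowers v ⊔ Subgroup.zpowers w := by
    rw [Subgroup.map_sup, Subgroup.map_subgroupOf_eq_of_le hvM, Subgroup.map_subgroupOf_eq_of_le hwM]
  rw [← hmap, Subgroup.card_map_of_injective M.subtype_injective, h, pow_two]

/-- An element of a primitive prime order dividing the index of the action kernel. -/
theorem dvd_index_of_transitive {p : ℕ} [hp : Fact p.Prime] (hB : BA G) (M : Subgroup G) [M.Normal]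
    [IsMulCommutative M] (hM : ∀ x ∈ M, x ^ p = 1) {n : ℕ} (hn : Nat.card M = p ^ n) (hn4 : 4 ≤ n)
    (K : Subgroup G) (hK : K ≤ Subgroup.centralizer (M : Set G)) {r : ℕ} (hr : r.Prime)
    (hrd : r ∣ p ^ (n - 1) - 1) (hrk : ∀ k : ℕ, 0 < k → k < n - 1 → ¬ r ∣ p ^ k - 1) :
    r ∣ K.index := by
  classical
  haveI := Fintype.ofFinite G
  obtain ⟨E₀, hE₀⟩ := Sylow.exists_subgroup_card_pow_prime (G := M) p (n := 2)
    (by rw [hn]; exact pow_dvd_pow p (by omega))
  set E := E₀.map M.subtype with hE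
  have hEM : E ≤ M := Subgroup.map_subtype_le _
  have hEc : Nat.card E = p ^ 2 := by rw [hE, Subgroup.card_map_of_injective M.subtype_injective, hE₀]
  have hcomm : ∀ F : Subgroup G, F ≤ M → IsMulCommutative F := fun F hF => ⟨⟨fun a b =>
    Subtype.ext (congrArg Subtype.val (mul_comm' (⟨a, hF a.2⟩ : M) ⟨b, hF b.2⟩) :)⟩⟩
  set N := Subgroup.normalizer (E : Set G)
  let S := {F : Subgroup G // F ≤ M ∧ Nat.card F = p ^ 2}
  haveI : Fintype S := Fintype.ofFinite S
  let φ : G ⧸ N → S := fun x => Quotient.liftOn' x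
    (fun g => ⟨MulAut.conj g • E, conj_normal g M ▸ conj_mono g hEM, by rw [card_conj, hEc]⟩)
    (fun a b hab => by
      rw [QuotientGroup.leftRel_apply] at hab
      refine Subtype.ext ?_
      show MulAut.conj a • E = MulAut.conj b • E
      conv_lhs => rw [← mem_normalizer_iff_conj.1 hab]
      rw [conj_conj, mul_inv_cancel_left])
  have hφ : Function.Bijective φ := by
    constructor
    · intro x y
      induction x using QuotientGroup.induction_on with
      | H a =>
      induction y using QuotientGroup.induction_on with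
      | H b =>
        intro h
        have h' : MulAut.conj a • E = MulAut.conj b • E := congrArg Subtype.val h
        refine QuotientGroup.eq.2 (mem_normalizer_iff_conj.2 ?_)
        rw [← conj_conj, ← h', conj_inv_smul]
    · rintro ⟨F, hFM, hFc⟩
      obtain ⟨g, hg⟩ := hB E F (hcomm E hEM) (hcomm F hFM) (hEc.trans hFc.symm)
      exact ⟨QuotientGroup.mk g, Subtype.ext hg⟩
  have hS : Nat.card S = N.index := by rw [Subgroup.index, Nat.card_eq_of_bijective φ hφ]
  have hKN : K ≤ N := by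
    refine hK.trans (le_trans ?_ (Subgroup.centralizer_le_normalizer _))
    exact Subgroup.centralizer_le hEM
  -- double counting
  let T := {vw : G × G // vw.1 ∈ M ∧ vw.2 ∈ M ∧ vw.1 ≠ 1 ∧ vw.2 ∉ Subgroup.zpowers vw.1}
  let τ : (Σ F : S, {vw : G × G // vw.1 ∈ F.1 ∧ vw.2 ∈ F.1 ∧ vw.1 ≠ 1 ∧ vw.2 ∉ Subgroup.zpowers vw.1}) → T :=
    fun x => ⟨x.2.1, x.1.2.1 x.2.2.1, x.1.2.1 x.2.2.2.1, x.2.2.2.2⟩
  have hτ : Function.Bijective τ := by
    have hspan : ∀ F : S, ∀ v w : G, v ∈ F.1 → w ∈ F.1 → v ≠ 1 → w ∉ Subgroup.zpowers v →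
        F.1 = Subgroup.zpowers v ⊔ Subgroup.zpowers w := fun F v w hv hw hv1 hwv =>
      (Subgroup.eq_of_le_of_card_ge (sup_le (Subgroup.zpowers_le.2 hv) (Subgroup.zpowers_le.2 hw))
        (by rw [F.2.2, card_zpowers_sup M hM (F.2.1 hv) (F.2.1 hw) hv1 hwv])).symm
    constructor
    · rintro ⟨F, ⟨vw, h1, h2, h3, h4⟩⟩ ⟨F', ⟨vw', h1', h2', h3', h4'⟩⟩ h
      obtain rfl : vw = vw' := congrArg Subtype.val h
      obtain rfl : F = F' := Subtype.ext ((hspan F _ _ h1 h2 h3 h4).trans (hspan F' _ _ h1' h2' h3' h4').symm)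
      rfl
    · rintro ⟨⟨v, w⟩, hv, hw, hv1, hwv⟩
      exact ⟨⟨⟨Subgroup.zpowers v ⊔ Subgroup.zpowers w,
        sup_le (Subgroup.zpowers_le.2 hv) (Subgroup.zpowers_le.2 hw), card_zpowers_sup M hM hv hw hv1 hwv⟩,
        ⟨(v, w), Subgroup.mem_sup_left (Subgroup.mem_zpowers v), Subgroup.mem_sup_right (Subgroup.mem_zpowers w),
          hv1, hwv⟩⟩, rfl⟩
  have hfib : ∀ F : S, Nat.card {vw : G × G // vw.1 ∈ F.1 ∧ vw.2 ∈ F.1 ∧ vw.1 ≠ 1 ∧
      vw.2 ∉ Subgroup.zpowers vw.1} = (p ^ 2 - 1) * (p ^ 2 - p) := fun F => by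
    rw [card_pairs (p := p) F.1 (fun x hx => hM x (F.2.1 hx)), F.2.2]
  have h1 := Nat.card_eq_of_bijective τ hτ
  rw [card_pairs (p := p) M hM, hn, Nat.card_sigma, Finset.sum_congr rfl (fun F _ => hfib F),
    Finset.sum_const, Finset.card_univ, smul_eq_mul, ← Nat.card_eq_fintype_card, hS] at h1
  have hrp : ¬ r ∣ p := fun hd => by
    obtain rfl : r = p := (Nat.prime_dvd_prime_iff_eq hr hp.out).1 hd
    obtain ⟨t, ht⟩ : ∃ t, n - 1 = t + 1 := ⟨n - 2, by omega⟩
    have h1' : 1 ≤ r ^ (n - 1) := Nat.one_le_pow _ _ hr.pos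
    have h2' : r ∣ r ^ (n - 1) := by rw [ht, pow_succ]; exact dvd_mul_left _ _
    have := Nat.dvd_sub h2' hrd
    rw [show r ^ (n - 1) - (r ^ (n - 1) - 1) = 1 by omega] at this
    exact hr.ne_one (Nat.dvd_one.1 this)
  have hrn : r ∣ p ^ n - p := by
    rw [show p ^ n - p = p * (p ^ (n - 1) - 1) by
      rw [Nat.mul_sub, mul_one, ← pow_succ', Nat.sub_add_cancel (by omega)]]
    exact hrd.mul_left p
  have h2 : r ∣ N.index * ((p ^ 2 - 1) * (p ^ 2 - p)) := by rw [h1]; exact hrn.mul_left _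
  have h3 : r ∣ N.index := by
    rcases hr.dvd_mul.1 h2 with h | h
    · exact h
    · exfalso
      rcases hr.dvd_mul.1 h with h | h
      · exact hrk 2 two_pos (by omega) h
      · rw [show p ^ 2 - p = p * (p ^ 1 - 1) by rw [pow_two, pow_one, Nat.mul_sub, mul_one]] at h
        rcases hr.dvd_mul.1 h with h | h
        · exact hrp h
        · exact hrk 1 one_pos (by omega) h
  exact h3.trans (Subgroup.index_dvd_of_le hKN)

/-- A quaternion Sylow subgroup acting non-trivially normalises no proper non-trivial subgroup. -/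
theorem no_quaternion_stabiliser {G : Type u} [Group G] [Finite G] [Group.IsSolvable G] (hB : BA G)
    {p : ℕ} [hp : Fact p.Prime] (M : Subgroup G) [hMn : M.Normal] [IsMulCommutative M]
    (hM : ∀ x ∈ M, x ^ p = 1) (hMs : ∀ S : Sylow p G, (S : Subgroup G) = M)
    (hmin : ∀ K : Subgroup G, K.Normal → K ≤ M → K = ⊥ ∨ K = M)
    [Fact (Nat.Prime 2)] (P : Sylow 2 G) (hQ : QType 2 (P : Subgroup G))
    (hPC : ¬ (P : Subgroup G) ≤ Subgroup.centralizer (M : Set G)) (X : Subgroup G) (hXM : X ≤ M)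
    (hX0 : X ≠ ⊥) (hXne : X ≠ M) (hPX : (P : Subgroup G) ≤ Subgroup.normalizer (X : Set G)) : False := by
  classical
  obtain ⟨z, hz, hzo, hzc, h4, hsq, hcom⟩ := hQ.facts
  have hp2 : p ≠ 2 := by
    rintro rfl
    exact hQ.2.2.1 fun a ha b hb =>
      congrArg Subtype.val (mul_comm' (⟨a, hMs P ▸ ha⟩ : M) ⟨b, hMs P ▸ hb⟩)
  letI : CommGroup M := { (inferInstance : Group M) with mul_comm := fun a b => mul_comm' a b }
  haveI : Nontrivial M := (Subgroup.nontrivial_iff_ne_bot M).2 fun h => hX0 (le_bot_iff.1 (h ▸ hXM))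
  let ψ : G →* MulAut M := MulAut.conjNormal
  have hψ : ∀ (g : G) (v : M), ((ψ g v : M) : G) = g * v * g⁻¹ := fun g v => MulAut.conjNormal_apply g v
  set C := ψ.ker with hCdef
  have hCc : ∀ g, g ∈ C ↔ g ∈ Subgroup.centralizer (M : Set G) := fun g => by
    refine ⟨fun h => Subgroup.mem_centralizer_iff.2 fun m hm => ?_, fun h => MulEquiv.ext fun m => Subtype.ext ?_⟩
    · have h2 := hψ g ⟨m, hm⟩
      rw [MonoidHom.mem_ker.1 h] at h2
      exact (eq_mul_inv_iff_mul_eq.1 h2)
    · rw [hψ, ← (Subgroup.mem_centralizer_iff.1 h m m.2), mul_inv_cancel_right]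
      rfl
  have hCM : M ≤ C := fun m hm => (hCc m).2
    (Subgroup.mem_centralizer_iff.2 fun x hx => congrArg Subtype.val (mul_comm' (⟨x, hx⟩ : M) ⟨m, hm⟩))
  set π := QuotientGroup.mk' C with hπ
  have hπs : Function.Surjective π := QuotientGroup.mk'_surjective C
  set φ := QuotientGroup.kerLift ψ
  have hφ : Function.Injective φ := QuotientGroup.kerLift_injective ψ
  have hφπ : ∀ g, φ (π g) = ψ g := fun g => rfl
  haveI hLs : Group.IsSolvable (G ⧸ C) := Group.isSolvable_of_surjective hπs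
  have hBL : BA (G ⧸ C) := BA.of_surjective _ G rfl inferInstance hB _ π hπs
  have hpowM : ∀ v : M, v ^ p = 1 := fun v => Subtype.ext (hM v v.2)
  have hodd : ∀ r : ℕ, r.Prime → r ≠ 2 → ∀ R : Subgroup (G ⧸ C), IsPGroup r R → IsCyclic R := by
    intro r hr hr2 R hR
    haveI := Fact.mk hr
    let S : Sylow r G := default
    have hS : IsCyclic ((S : Subgroup G).map π) := by
      rcases sylow_type _ G rfl inferInstance hB r S with ⟨hSn, -, -, -⟩ | hc | hq
      · have hSC : (S : Subgroup G) ≤ C := by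
          by_cases hrp : r = p
          · subst hrp; rw [hMs S]; exact hCM
          · intro x hx
            refine (hCc x).2 (Subgroup.mem_centralizer_iff.2 fun m hm => ?_)
            obtain ⟨e, he⟩ := IsPGroup.iff_card.1 S.2
            obtain ⟨d, hd⟩ := IsPGroup.iff_card.1 (show IsPGroup p M from hMs default ▸ (default : Sylow p G).2)
            have hdis : Disjoint M (S : Subgroup G) := disjoint_iff.2 (inf_eq_bot_of_coprime (by
              rw [he, hd]; exact ((Nat.coprime_primes hp.out hr).2 (Ne.symm hrp)).pow d e))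
            exact (Subgroup.commute_of_normal_of_disjoint M (S : Subgroup G) hMn hSn hdis m x hm hx).eq
        have hb : (S : Subgroup G).map π = ⊥ := by
          rw [Subgroup.map_eq_bot_iff, QuotientGroup.ker_mk']; exact hSC
        rw [hb]
        exact isCyclic_of_subsingleton
      · exact isCyclic_of_surjective _ (π.subgroupMap_surjective (S : Subgroup G))
      · exact absurd hq.1 hr2
    obtain ⟨R', hR'⟩ := hR.exists_le_sylow
    obtain ⟨g, hg⟩ := MulAction.exists_smul_eq (G ⧸ C) (S.mapSurjective hπs) R'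
    have : IsCyclic (R' : Subgroup (G ⧸ C)) := by
      rw [← hg]
      haveI : IsCyclic ((S.mapSurjective hπs : Sylow r (G ⧸ C)) : Subgroup (G ⧸ C)) := hS
      exact isCyclic_of_surjective _ (Subgroup.equivSMul (MulAut.conj g) _).surjective
    exact isCyclic_of_injective (Subgroup.inclusion hR') (Subgroup.inclusion_injective hR')
  set Pb : Sylow 2 (G ⧸ C) := P.mapSurjective hπs with hPb
  have hPbm : (Pb : Subgroup (G ⧸ C)) = (P : Subgroup G).map π := Sylow.coe_mapSurjective hπs P
  have hT : ∀ v w : M, v ≠ 1 → w ≠ 1 → ∃ g : G ⧸ C, ∃ i : ℤ, φ g (v ^ i) = w := by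
    intro v w hv1 hw1
    obtain ⟨g, hg⟩ := hB.conj_zpowers ((orderOf_eq_prime (hM v v.2) fun h => hv1 (Subtype.ext h)).trans
      (orderOf_eq_prime (hM w w.2) fun h => hw1 (Subtype.ext h)).symm)
    have hwm : (w : G) ∈ MulAut.conj g • Subgroup.zpowers (v : G) := hg ▸ Subgroup.mem_zpowers _
    rw [mem_conj_iff] at hwm
    obtain ⟨i, hi⟩ := Subgroup.mem_zpowers_iff.1 hwm
    refine ⟨π g, i, Subtype.ext ?_⟩
    rw [hφπ, hψ, Subgroup.coe_zpow, hi]
    group
  obtain ⟨a, ha, b, hb, hab⟩ : ∃ a ∈ (P : Subgroup G), ∃ b ∈ (P : Subgroup G), ¬ Commute a b := by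
    by_contra h
    push Not at h
    exact hQ.2.2.1 h
  have ha4 : a ≠ 1 ∧ a ≠ z := ⟨fun h => hab (h ▸ Commute.one_left b), fun h => hab (h ▸ (hzc b hb).symm)⟩
  have hord4 : ∀ c ∈ (P : Subgroup G), c ≠ 1 → c ≠ z → orderOf c = 2 ^ 2 := fun c hc h1 h2 =>
    orderOf_eq_prime_pow (fun h => by
      rw [pow_one, hsq c hc h1 h2] at h
      rw [h, orderOf_one] at hzo; omega) (h4 c hc)
  have hnotC : ∀ c ∈ (P : Subgroup G), c ≠ 1 → c ≠ z → c ∉ C := by
    intro c hc h1 h2 hcC
    refine hPC fun y hy => (hCc y).1 ?_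
    have hzC : z ∈ C := hsq c hc h1 h2 ▸ pow_mem hcC 2
    by_cases hy1 : y = 1
    · rw [hy1]; exact one_mem C
    by_cases hyz : y = z
    · rw [hyz]; exact hzC
    obtain ⟨g, hg⟩ := hB.conj_zpowers ((hord4 c hc h1 h2).trans (hord4 y hy hy1 hyz).symm)
    have hle := conj_mono g (Subgroup.zpowers_le.2 hcC)
    rw [hg, conj_normal] at hle
    exact hle (Subgroup.mem_zpowers y)
  have hzC : z ∉ C := by
    intro hzC
    have hsqb : ∀ x ∈ (Pb : Subgroup (G ⧸ C)), x ^ 2 = 1 := by
      rw [hPbm]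
      rintro _ ⟨c, hc, rfl⟩
      rw [← map_pow]
      refine (QuotientGroup.eq_one_iff _).2 ?_
      by_cases h1 : c = 1
      · rw [h1, one_pow]; exact one_mem C
      by_cases h2 : c = z
      · rw [h2]; exact pow_mem hzC 2
      · rw [hsq c hc h1 h2]; exact hzC
    have hnc : ¬ IsCyclic (Pb : Subgroup (G ⧸ C)) := by
      intro hc
      obtain ⟨g, hg⟩ := IsCyclic.exists_generator (α := (Pb : Subgroup (G ⧸ C)))
      have hone : ∀ i : ℤ, g ^ i = 1 ∨ g ^ i = g := fun i => by
        have hg2 : g ^ (2 : ℤ) = 1 := by rw [zpow_ofNat]; exact Subtype.ext (hsqb g g.2)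
        rcases Int.even_or_odd' i with ⟨l, rfl | rfl⟩
        · left; rw [zpow_mul, hg2, one_zpow]
        · right; rw [zpow_add, zpow_mul, hg2, one_zpow, one_mul, zpow_one]
      have key : ∀ c ∈ (P : Subgroup G), c ≠ 1 → c ≠ z → π c = (g : G ⧸ C) := fun c hc h1 h2 => by
        obtain ⟨i, hi⟩ := Subgroup.mem_zpowers_iff.1 (hg ⟨π c, by rw [hPbm]; exact Subgroup.mem_map_of_mem π hc⟩)
        rcases hone i with h | h
        · rw [h] at hi
          exact absurd ((QuotientGroup.eq_one_iff c).1 (congrArg Subtype.val hi).symm) (hnotC c hc h1 h2)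
        · rw [h] at hi; exact (congrArg Subtype.val hi).symm
      have hb4 : b ≠ 1 ∧ b ≠ z := ⟨fun h => hab (h ▸ Commute.one_right a), fun h => hab (h ▸ hzc a ha)⟩
      have hab' : a⁻¹ * b ≠ 1 ∧ a⁻¹ * b ≠ z := ⟨fun h => hab (inv_mul_eq_one.1 h ▸ Commute.refl a),
        fun h => hab (by
          rw [inv_mul_eq_iff_eq_mul.1 h]
          exact (Commute.refl a).mul_right (hzc a ha))⟩
      refine hnotC (a⁻¹ * b) (mul_mem (inv_mem ha) hb) hab'.1 hab'.2 ((QuotientGroup.eq_one_iff _).1 ?_)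
      show π (a⁻¹ * b) = 1
      rw [map_mul, map_inv, key a ha ha4.1 ha4.2, key b hb hb4.1 hb4.2, inv_mul_cancel]
    rcases sylow_type _ (G ⧸ C) rfl inferInstance hBL 2 Pb with ⟨hn', -, -, hc'⟩ | hc | hq
    · haveI := hn'
      exact covering_false φ hφ hp.out Nat.prime_two hp2 hpowM hT (Pb : Subgroup (G ⧸ C)) hc' hsqb hnc
    · exact hnc hc
    · refine hq.2.2.1 fun x hx y hy => ?_
      have hxy := hsqb _ (mul_mem hx hy)
      rw [pow_two] at hxy
      have hinv : ∀ w ∈ (Pb : Subgroup (G ⧸ C)), w⁻¹ = w := fun w hw =>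
        inv_eq_of_mul_eq_one_right (by rw [← pow_two]; exact hsqb w hw)
      show x * y = y * x
      conv_lhs => rw [← inv_eq_of_mul_eq_one_right hxy, mul_inv_rev, hinv x hx, hinv y hy]
  -- the quotient acts faithfully on the quaternion group
  have hinjP : ∀ {x y : G}, x ∈ (P : Subgroup G) → y ∈ (P : Subgroup G) → π x = π y → x = y := by
    intro x y hx hy h
    have hmem : x⁻¹ * y ∈ C := QuotientGroup.eq.1 h
    by_contra hne
    by_cases h2 : x⁻¹ * y = z
    · exact hzC (h2 ▸ hmem)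
    · exact hnotC _ (mul_mem (inv_mem hx) hy) (fun h1 => hne (inv_mul_eq_one.1 h1)) h2 hmem
  have hπzo : orderOf (π z) = 2 := orderOf_eq_prime (by rw [← map_pow, ← hzo, pow_orderOf_eq_one, map_one])
    fun h => hzC ((QuotientGroup.eq_one_iff z).1 h)
  have hQb : QType 2 (Pb : Subgroup (G ⧸ C)) := by
    rw [hPbm]
    refine ⟨rfl, ?_, fun h => hab ?_, ?_⟩
    · rw [← hQ.2.1]
      exact (Nat.card_congr (Equiv.ofBijective (π.subgroupMap (P : Subgroup G))
        ⟨fun c d h => Subtype.ext (hinjP c.2 d.2 (congrArg Subtype.val h)), π.subgroupMap_surjective _⟩)).symm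
    · have := h _ ⟨a, ha, rfl⟩ _ ⟨b, hb, rfl⟩
      exact hinjP (mul_mem ha hb) (mul_mem hb ha) (by rw [map_mul, map_mul]; exact this)
    · rintro _ ⟨c, hc, rfl⟩ _ ⟨d, hd, rfl⟩ hc2 hd2
      have key : ∀ e ∈ (P : Subgroup G), orderOf (π e) = 2 → e = z := fun e he he2 => by
        refine hQ.2.2.2 e he z hz (orderOf_eq_prime (hinjP (pow_mem he 2) (one_mem _)
          (by rw [map_pow, map_one, ← he2, pow_orderOf_eq_one])) fun h => ?_) hzo
        rw [h, map_one, orderOf_one] at he2; omega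
      rw [key c hc hc2, key d hd hd2]
  have hzcent : π z ∈ Subgroup.center (G ⧸ C) := central_involution _ (G ⧸ C) rfl hLs hodd Pb hQb (π z)
    (by rw [hPbm]; exact Subgroup.mem_map_of_mem π hz) hπzo
  -- z acts as inversion
  have hψmul : ∀ (g h : G) (v : M), ψ (g * h) v = ψ g (ψ h v) := fun g h v => by rw [map_mul]; rfl
  have hzinv : ∀ v : M, ψ z v = v⁻¹ := by
    let F : Subgroup M :=
      { carrier := {v | ψ z v = v}
        one_mem' := map_one _
        mul_mem' := fun {x y} hx hy => show ψ z (x * y) = x * y by rw [map_mul, hx, hy]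
        inv_mem' := fun {x} hx => show ψ z x⁻¹ = x⁻¹ by rw [map_inv, hx] }
    have hFn : (F.map M.subtype).Normal := by
      refine ⟨?_⟩
      rintro _ ⟨v, hv, rfl⟩ g
      refine ⟨ψ g v, ?_, hψ g v⟩
      show ψ z (ψ g v) = ψ g v
      conv_rhs => rw [← (hv : ψ z v = v)]
      rw [← hψmul, ← hψmul, ← hφπ, ← hφπ (g * z), map_mul π, map_mul π,
        Subgroup.mem_center_iff.1 hzcent (π g)]
    rcases hmin _ hFn (Subgroup.map_subtype_le F) with h | h
    · intro v
      have h1 : v * ψ z v ∈ F := by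
        show ψ z (v * ψ z v) = v * ψ z v
        rw [map_mul, ← hψmul, show z * z = 1 by rw [← pow_two, ← hzo, pow_orderOf_eq_one], map_one ψ,
          mul_comm]
        rfl
      have h2 : F = ⊥ := (Subgroup.map_eq_bot_iff_of_injective F M.subtype_injective).1 h
      rw [h2, Subgroup.mem_bot] at h1
      exact eq_inv_of_mul_eq_one_right h1
    · exfalso
      refine hzC (MulEquiv.ext fun v => ?_)
      obtain ⟨w, hw, hwv⟩ : (v : G) ∈ F.map M.subtype := h.symm ▸ v.2
      obtain rfl : w = v := M.subtype_injective hwv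
      exact hw
  obtain ⟨nM, hnM⟩ := IsPGroup.iff_card.1 (show IsPGroup p M from hMs default ▸ (default : Sylow p G).2)
  have hne2 : ∀ v : M, v ^ 2 = 1 → v = 1 := fun v hv => by
    have h := pow_gcd_eq_one.2 ⟨hv, hpowM v⟩
    rwa [(Nat.coprime_primes Nat.prime_two hp.out).2 (Ne.symm hp2), pow_one] at h
  have hz' := (hcom a ha b hb hab).2
  -- no invariant line, no invariant hyperplane
  have hline : ∀ v : M, v ≠ 1 → (∀ g ∈ (P : Subgroup G), ψ g v ∈ Subgroup.zpowers v) → False := by
    intro v hv hinv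
    obtain ⟨i, hi⟩ := Subgroup.mem_zpowers_iff.1 (hinv a ha)
    obtain ⟨j, hj⟩ := Subgroup.mem_zpowers_iff.1 (hinv b hb)
    have e1 : ψ (a * b) v = ψ (b * a) v := by
      rw [hψmul, hψmul, ← hj, ← hi, map_zpow, map_zpow, ← hi, ← hj, ← zpow_mul, ← zpow_mul, mul_comm i]
    have e2 : ψ (z * (b * a)) v = ψ (b * a) v := by
      rw [← hz', show a * b * a⁻¹ * b⁻¹ * (b * a) = a * b by group, e1]
    have e3 : (ψ (b * a) v)⁻¹ = ψ (b * a) v := by rw [← hzinv, ← hψmul, e2]
    have e4 : ψ (b * a) v = 1 := hne2 _ (by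
      rw [pow_two]; nth_rw 1 [← e3]; exact inv_mul_cancel _)
    exact hv ((map_eq_one_iff _ (ψ (b * a)).injective).1 e4)
  obtain ⟨dX, hdX⟩ := IsPGroup.iff_card.1
    ((show IsPGroup p M from hMs default ▸ (default : Sylow p G).2).to_le hXM)
  have hdpos : 1 ≤ dX := by
    by_contra h
    exact hX0 (Subgroup.card_eq_one.1 (by rw [hdX, show dX = 0 by omega, pow_zero]))
  have hdlt : dX < nM := by
    refine (Nat.pow_lt_pow_iff_right hp.out.one_lt).1 ?_
    rw [← hdX, ← hnM]
    exact Nat.lt_of_le_of_ne (Nat.le_of_dvd Nat.card_pos (Subgroup.card_dvd_of_le hXM))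
      fun h => hXne (Subgroup.eq_of_le_of_card_ge hXM h.ge)
  set XM := X.subgroupOf M with hXMdef
  have hXMc : Nat.card XM = p ^ dX := by
    rw [Nat.card_congr (Subgroup.subgroupOfEquivOfLe hXM).toEquiv, hdX]
  have hXinv : ∀ g ∈ (P : Subgroup G), ∀ v : M, v ∈ XM → ψ g v ∈ XM := fun g hg v hv => by
    rw [hXMdef, Subgroup.mem_subgroupOf, hψ]
    exact (Subgroup.mem_normalizer_iff.1 (hPX hg) _).1 (Subgroup.mem_subgroupOf.1 hv)
  have hd1 : dX ≠ 1 := by
    intro h1
    obtain ⟨v, hv, hv1⟩ : ∃ v ∈ XM, v ≠ 1 := by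
      haveI : Nontrivial XM := Finite.one_lt_card_iff_nontrivial.1 (by
        rw [hXMc, h1, pow_one]; exact hp.out.one_lt)
      obtain ⟨⟨v, hv⟩, hne⟩ := exists_ne (1 : XM)
      exact ⟨v, hv, fun h => hne (Subtype.ext h)⟩
    have hgen : Subgroup.zpowers v = XM := Subgroup.eq_of_le_of_card_ge (Subgroup.zpowers_le.2 hv)
      (by rw [hXMc, h1, pow_one, Nat.card_zpowers, orderOf_eq_prime (hpowM v) hv1])
    exact hline v hv1 fun g hg => hgen ▸ hXinv g hg v hv
  have hd2 : nM ≠ dX + 1 := by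
    intro h1
    have hidx : XM.index = p := by
      have h := XM.card_mul_index
      rw [hXMc, hnM, h1, pow_succ] at h
      exact Nat.eq_of_mul_eq_mul_left (pow_pos hp.out.pos _) h
    obtain ⟨w, hw⟩ : ∃ w : M, w ∉ XM := by
      by_contra h
      push Not at h
      rw [(Subgroup.eq_top_iff' XM).2 h, Subgroup.index_top] at hidx
      exact hp.out.ne_one hidx.symm
    set ρ := QuotientGroup.mk' XM
    have hgen : ∀ x, x ∈ Subgroup.zpowers (ρ w) := by
      haveI : Fact (Nat.card (M ⧸ XM)).Prime := ⟨by rw [← Subgroup.index_eq_card, hidx]; exact hp.out⟩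
      intro x
      exact mem_zpowers_of_prime_card rfl fun h => hw ((QuotientGroup.eq_one_iff w).1 h)
    obtain ⟨i, hi⟩ := Subgroup.mem_zpowers_iff.1 (hgen (ρ (ψ a w)))
    obtain ⟨j, hj⟩ := Subgroup.mem_zpowers_iff.1 (hgen (ρ (ψ b w)))
    have hlift : ∀ g ∈ (P : Subgroup G), ∀ x y : M, ρ x = ρ y → ρ (ψ g x) = ρ (ψ g y) := fun g hg x y hxy => by
      refine QuotientGroup.eq.2 ?_
      rw [← map_inv, ← map_mul]
      exact hXinv g hg _ (QuotientGroup.eq.1 hxy)
    have e1 : ρ (ψ a (ψ b w)) = ρ (ψ b (ψ a w)) := by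
      rw [hlift a ha (ψ b w) (w ^ j) (by rw [map_zpow]; exact hj.symm),
        hlift b hb (ψ a w) (w ^ i) (by rw [map_zpow]; exact hi.symm), map_zpow, map_zpow, map_zpow, map_zpow,
        ← hi, ← hj, ← zpow_mul, ← zpow_mul, mul_comm]
    have e2 : ψ a (ψ b w) = (ψ b (ψ a w))⁻¹ := by
      rw [← hψmul, ← hψmul, ← hzinv, ← hψmul, ← hz', show a * b * a⁻¹ * b⁻¹ * (b * a) = a * b by group]
    rw [e2, map_inv] at e1
    set u := ψ b (ψ a w) with hu
    have h2 : u ^ 2 ∈ XM := (QuotientGroup.eq_one_iff _).1 (show ρ (u ^ 2) = 1 by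
      rw [map_pow, pow_two]; nth_rw 1 [← e1]; exact inv_mul_cancel _)
    have h3 : u ∈ XM := by
      obtain ⟨l, hl⟩ := exists_pow_eq_self_of_coprime (x := u) (n := 2)
        (((Nat.coprime_primes Nat.prime_two hp.out).2 (Ne.symm hp2)).coprime_dvd_right
          (orderOf_dvd_of_pow_eq_one (hpowM u)))
      exact hl ▸ pow_mem h2 l
    apply hw
    have := hXinv _ (inv_mem (mul_mem hb ha)) u h3
    rw [hu, ← hψmul, ← hψmul, mul_assoc, inv_mul_cancel] at this
    simpa using this
  have hn4 : 4 ≤ nM := by omega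
  -- a primitive prime
  obtain ⟨r, hr, hrd, hrk⟩ := Zsigmondy.exists_primitive (a := p) (n := nM - 1) hp.out.one_lt (by omega)
    (fun h => hp2 h.1) (fun h => by omega)
  haveI := Fact.mk hr
  have hrp : ¬ r ∣ p := fun hd => by
    obtain rfl : r = p := (Nat.prime_dvd_prime_iff_eq hr hp.out).1 hd
    obtain ⟨t, ht⟩ : ∃ t, nM - 1 = t + 1 := ⟨nM - 2, by omega⟩
    have h1' : 1 ≤ r ^ (nM - 1) := Nat.one_le_pow _ _ hr.pos
    have h2' : r ∣ r ^ (nM - 1) := by rw [ht, pow_succ]; exact dvd_mul_left _ _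
    have := Nat.dvd_sub h2' hrd
    rw [show r ^ (nM - 1) - (r ^ (nM - 1) - 1) = 1 by omega] at this
    exact hr.ne_one (Nat.dvd_one.1 this)
  have hr5 : 5 ≤ r := by
    have hne : (p : ZMod r) ≠ 0 := fun h => hrp ((ZMod.natCast_eq_zero_iff p r).1 h)
    have h1 : (p : ZMod r) ^ (r - 1) = 1 := ZMod.pow_card_sub_one_eq_one hne
    have h2 : r ∣ p ^ (r - 1) - 1 := by
      rw [← ZMod.natCast_eq_zero_iff, Nat.cast_sub (Nat.one_le_pow _ _ hp.out.pos), Nat.cast_pow, h1,
        Nat.cast_one, sub_self]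
    have hr2 := hr.two_le
    by_contra hlt
    have hr4 : r ≠ 4 := fun h => by rw [h] at hr; norm_num at hr
    exact hrk (r - 1) (by omega) (by omega) h2
  have hridx : r ∣ C.index := dvd_index_of_transitive hB M hM hnM hn4 C (fun g hg => (hCc g).1 hg) hr hrd hrk
  rw [Subgroup.index_eq_card] at hridx
  obtain ⟨g, hgo⟩ := exists_prime_orderOf_dvd_card' r hridx
  -- it centralises the quaternion group
  have hPbn : (Pb : Subgroup (G ⧸ C)).Normal := by
    haveI : (Subgroup.zpowers (π z)).Normal := ⟨fun m hm x => by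
      rwa [Subgroup.mem_center_iff.1 ((Subgroup.zpowers_le.2 hzcent) hm) x, mul_inv_cancel_right]⟩
    set σ := QuotientGroup.mk' (Subgroup.zpowers (π z))
    have hσs : Function.Surjective σ := QuotientGroup.mk'_surjective _
    have hBσ : BA ((G ⧸ C) ⧸ Subgroup.zpowers (π z)) := BA.of_surjective _ (G ⧸ C) rfl hLs hBL _ σ hσs
    have hsq2 : ∀ c ∈ (P : Subgroup G), (σ (π c)) ^ 2 = 1 := fun c hc => by
      rw [← map_pow, ← map_pow]
      refine (QuotientGroup.eq_one_iff _).2 ?_
      by_cases h1 : c = 1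
      · rw [h1, one_pow, map_one]; exact one_mem _
      by_cases h2 : c = z
      · rw [h2, ← hzo, pow_orderOf_eq_one, map_one]; exact one_mem _
      · rw [hsq c hc h1 h2]; exact Subgroup.mem_zpowers _
    rcases sylow_type _ _ rfl (Group.isSolvable_of_surjective hσs) hBσ 2 (Pb.mapSurjective hσs) with
      ⟨hn', -⟩ | hcy | hq
    · rw [Sylow.coe_mapSurjective] at hn'
      have h1 := hn'.comap σ
      rwa [Subgroup.comap_map_eq_self] at h1
      rw [QuotientGroup.ker_mk', Subgroup.zpowers_le, hPbm]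
      exact Subgroup.mem_map_of_mem π hz
    · exfalso
      rw [Sylow.coe_mapSurjective] at hcy
      obtain ⟨g, hg⟩ := IsCyclic.exists_generator (α := (Pb : Subgroup (G ⧸ C)).map σ)
      have hg2 : g ^ (2 : ℤ) = 1 := by
        rw [zpow_ofNat]
        obtain ⟨x, hx, hxg⟩ := g.2
        rw [SetLike.mem_coe, hPbm] at hx
        obtain ⟨c, hc, rfl⟩ := hx
        refine Subtype.ext ?_
        rw [SubmonoidClass.coe_pow, ← hxg]
        exact hsq2 c hc
      have key : ∀ c ∈ (P : Subgroup G), c ≠ 1 → c ≠ z → σ (π c) = g := fun c hc h1 h2 => by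
        obtain ⟨i, hi⟩ := Subgroup.mem_zpowers_iff.1 (hg ⟨σ (π c), Subgroup.mem_map_of_mem σ
          (show π c ∈ (Pb : Subgroup (G ⧸ C)) by rw [hPbm]; exact Subgroup.mem_map_of_mem π hc)⟩)
        rcases Int.even_or_odd' i with ⟨l, rfl | rfl⟩
        · exfalso
          rw [zpow_mul, hg2, one_zpow] at hi
          have h3 : π c ∈ Subgroup.zpowers (π z) := (QuotientGroup.eq_one_iff _).1 (congrArg Subtype.val hi).symm
          obtain ⟨i, hi⟩ := Subgroup.mem_zpowers_iff.1 h3
          rcases Int.even_or_odd' i with ⟨l, rfl | rfl⟩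
          · rw [zpow_mul, zpow_ofNat, ← hπzo, pow_orderOf_eq_one, one_zpow, ← map_one π] at hi
            exact h1 (hinjP hc (one_mem _) hi.symm)
          · rw [zpow_add, zpow_mul, zpow_ofNat, ← hπzo, pow_orderOf_eq_one, one_zpow, one_mul, zpow_one] at hi
            exact h2 (hinjP hc hz hi.symm)
        · rw [zpow_add, zpow_mul, hg2, one_zpow, one_mul, zpow_one] at hi
          exact (congrArg Subtype.val hi).symm
      have hb4 : b ≠ 1 ∧ b ≠ z := ⟨fun h => hab (h ▸ Commute.one_right a), fun h => hab (h ▸ hzc a ha)⟩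
      have hab' : a⁻¹ * b ≠ 1 ∧ a⁻¹ * b ≠ z := ⟨fun h => hab (inv_mul_eq_one.1 h ▸ Commute.refl a),
        fun h => hab (by
          rw [inv_mul_eq_iff_eq_mul.1 h]
          exact (Commute.refl a).mul_right (hzc a ha))⟩
      have h := key _ (mul_mem (inv_mem ha) hb) hab'.1 hab'.2
      rw [map_mul, map_mul, map_inv, map_inv, key a ha ha4.1 ha4.2, key b hb hb4.1 hb4.2, inv_mul_cancel] at h
      -- the generator is trivial
      have h5 := key a ha ha4.1 ha4.2
      rw [← h] at h5
      have h6 : π a ∈ Subgroup.zpowers (π z) := (QuotientGroup.eq_one_iff _).1 h5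
      obtain ⟨i, hi⟩ := Subgroup.mem_zpowers_iff.1 h6
      rcases Int.even_or_odd' i with ⟨l, rfl | rfl⟩
      · rw [zpow_mul, zpow_ofNat, ← hπzo, pow_orderOf_eq_one, one_zpow, ← map_one π] at hi
        exact ha4.1 (hinjP ha (one_mem _) hi.symm)
      · rw [zpow_add, zpow_mul, zpow_ofNat, ← hπzo, pow_orderOf_eq_one, one_zpow, one_mul, zpow_one] at hi
        exact ha4.2 (hinjP ha hz hi.symm)
    · exfalso
      refine hq.2.2.1 fun x hx y hy => ?_
      have hinv : ∀ w ∈ ((Pb.mapSurjective hσs : Sylow 2 _) : Subgroup ((G ⧸ C) ⧸ Subgroup.zpowers (π z))),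
          w⁻¹ = w := by
        intro w hw
        rw [Sylow.coe_mapSurjective, hPbm] at hw
        obtain ⟨_, ⟨c, hc, rfl⟩, rfl⟩ := hw
        exact inv_eq_of_mul_eq_one_right (by rw [← pow_two]; exact hsq2 c hc)
      show x * y = y * x
      rw [← hinv _ (mul_mem hx hy), mul_inv_rev, hinv x hx, hinv y hy]
  have hcg : ∀ x ∈ (Pb : Subgroup (G ⧸ C)), Commute g x := by
    haveI := hPbn
    set x' := fun (x : G ⧸ C) (i : ℕ) => g ^ i * x * (g ^ i)⁻¹
    intro x hx
    by_contra hne
    obtain ⟨zb, hzb, hzbo, hzbc, h4b, hsqb, -⟩ := hQb.facts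
    obtain rfl : zb = π z := hQb.2.2.2 zb hzb _ (by rw [hPbm]; exact Subgroup.mem_map_of_mem π hz) hzbo hπzo
    have hx1 : x ≠ 1 := fun h => hne (h ▸ Commute.one_right g)
    have hxz : x ≠ π z := fun h => hne (h ▸ (Subgroup.mem_center_iff.1 hzcent g))
    let f : Fin r × Bool → (Pb : Subgroup (G ⧸ C)) := fun ib =>
      ⟨g ^ (ib.1 : ℕ) * (if ib.2 then x⁻¹ else x) * (g ^ (ib.1 : ℕ))⁻¹, hPbn.conj_mem _
        (by split_ifs; exacts [inv_mem hx, hx]) _⟩
    have hfix : ∀ k : ℕ, Nat.Coprime (orderOf g) k → ∀ y : G ⧸ C, Commute (g ^ k) y → Commute g y := by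
      intro k hk y hy
      obtain ⟨m, hm⟩ := exists_pow_eq_self_of_coprime (x := g) hk.symm
      exact hm ▸ hy.pow_left m
    have hxx : x⁻¹ ≠ x := fun h => by
      have := hsqb x hx hx1 hxz
      rw [pow_two] at this
      nth_rw 1 [← h] at this
      rw [inv_mul_cancel] at this
      exact hzC ((QuotientGroup.eq_one_iff z).1 this.symm)
    have key : ∀ k : ℕ, k < r → ∀ c d : Bool,
        g ^ k * (if c then x⁻¹ else x) * (g ^ k)⁻¹ = (if d then x⁻¹ else x) → k = 0 ∧ c = d := by
      intro k hk c d he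
      rcases Nat.eq_zero_or_pos k with rfl | hk0
      · refine ⟨rfl, ?_⟩
        rw [pow_zero, one_mul, inv_one, mul_one] at he
        cases c <;> cases d <;> first
          | rfl
          | exact absurd he hxx
          | exact absurd he.symm hxx
      exfalso
      have hcop : Nat.Coprime (orderOf g) k := by
        rw [hgo]; exact hr.coprime_iff_not_dvd.2 (Nat.not_dvd_of_pos_of_lt hk0 hk)
      have hcop2 : Nat.Coprime (orderOf g) (k + k) := by
        rw [hgo, ← two_mul]
        exact (((Nat.coprime_primes hr Nat.prime_two).2 (by omega)).mul_right (hgo ▸ hcop))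
      cases c <;> cases d <;> simp only [if_true, Bool.false_eq_true, if_false] at he
      · exact hne (hfix k hcop x (mul_inv_eq_iff_eq_mul.1 he))
      · refine hne (hfix (k + k) hcop2 x (mul_inv_eq_iff_eq_mul.1 ?_))
        calc g ^ (k + k) * x * (g ^ (k + k))⁻¹ = g ^ k * (g ^ k * x * (g ^ k)⁻¹) * (g ^ k)⁻¹ := by
              rw [pow_add]; group
          _ = g ^ k * x⁻¹ * (g ^ k)⁻¹ := by rw [he]
          _ = (g ^ k * x * (g ^ k)⁻¹)⁻¹ := conj_inv.symm
          _ = x := by rw [he, inv_inv]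
      · refine hne (hfix (k + k) hcop2 x (mul_inv_eq_iff_eq_mul.1 ?_))
        have he' : g ^ k * x * (g ^ k)⁻¹ = x⁻¹ := by
          have := congrArg (·⁻¹) he
          simp only [conj_inv] at this
          rwa [inv_inv] at this
        calc g ^ (k + k) * x * (g ^ (k + k))⁻¹ = g ^ k * (g ^ k * x * (g ^ k)⁻¹) * (g ^ k)⁻¹ := by
              rw [pow_add]; group
          _ = g ^ k * x⁻¹ * (g ^ k)⁻¹ := by rw [he']
          _ = (g ^ k * x * (g ^ k)⁻¹)⁻¹ := conj_inv.symm
          _ = x := by rw [he', inv_inv]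
      · exact hne (inv_inv x ▸ (hfix k hcop x⁻¹ (mul_inv_eq_iff_eq_mul.1 he)).inv_right)
    have hinj : Function.Injective f := by
      suffices H : ∀ i j : Fin r, ∀ c d : Bool, (i : ℕ) ≤ j → f (i, c) = f (j, d) → i = j ∧ c = d by
        rintro ⟨i, c⟩ ⟨j, d⟩ h
        rcases le_total (i : ℕ) j with hle | hle
        · obtain ⟨rfl, rfl⟩ := H i j c d hle h; rfl
        · obtain ⟨rfl, rfl⟩ := H j i d c hle h.symm; rfl
      intro i j c d hij h
      have h' : g ^ (i : ℕ) * (if c then x⁻¹ else x) * (g ^ (i : ℕ))⁻¹ =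
          g ^ (j : ℕ) * (if d then x⁻¹ else x) * (g ^ (j : ℕ))⁻¹ := congrArg Subtype.val h
      obtain ⟨k, hk⟩ := Nat.exists_eq_add_of_le hij
      rw [hk, pow_add] at h'
      have h'' : g ^ k * (if d then x⁻¹ else x) * (g ^ k)⁻¹ = (if c then x⁻¹ else x) := by
        calc g ^ k * (if d then x⁻¹ else x) * (g ^ k)⁻¹
            = (g ^ (i : ℕ))⁻¹ * (g ^ (i : ℕ) * g ^ k * (if d then x⁻¹ else x) *
                (g ^ (i : ℕ) * g ^ k)⁻¹) * g ^ (i : ℕ) := by group
          _ = (g ^ (i : ℕ))⁻¹ * (g ^ (i : ℕ) * (if c then x⁻¹ else x) * (g ^ (i : ℕ))⁻¹) *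
                g ^ (i : ℕ) := by rw [h']
          _ = (if c then x⁻¹ else x) := by group
      obtain ⟨rfl, hdc⟩ := key k (by omega) d c h''
      exact ⟨Fin.ext (by omega), hdc.symm⟩
    have := Nat.card_le_card_of_injective f hinj
    rw [Nat.card_prod, Nat.card_fin, hQb.2.1, Nat.card_eq_fintype_card, Fintype.card_bool] at this
    omega
  -- its fixed line
  have hg1 : φ g ≠ 1 := fun h => by
    have : g = 1 := hφ (h.trans (map_one φ).symm)
    rw [this, orderOf_one] at hgo
    exact hr.ne_one hgo.symm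
  let W : Subgroup M :=
    { carrier := {v | φ g v = v}
      one_mem' := map_one _
      mul_mem' := fun {x y} hx hy => show φ g (x * y) = x * y by rw [map_mul, hx, hy]
      inv_mem' := fun {x} hx => show φ g x⁻¹ = x⁻¹ by rw [map_inv, hx] }
  let Γ := Subgroup.zpowers (φ g)
  have hΓ : IsPGroup r Γ := IsPGroup.of_card (n := 1)
    (by rw [pow_one, Nat.card_zpowers, orderOf_injective φ hφ g, hgo])
  have hmod := IsPGroup.card_modEq_card_fixedPoints hΓ (α := M)
  have hfp : MulAction.fixedPoints Γ M = (W : Set M) := by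
    ext v
    constructor
    · intro h
      exact h ⟨φ g, Subgroup.mem_zpowers _⟩
    · intro h σ
      obtain ⟨l, hl⟩ := Subgroup.mem_zpowers_iff.1 σ.2
      show (σ : MulAut M) v = v
      rw [← hl]
      exact (zpow_mem (show φ g ∈ MulAction.stabilizer (MulAut M) v from h) l)
  rw [hfp] at hmod
  simp only [SetLike.coe_sort_coe] at hmod
  obtain ⟨k, -, hk⟩ := (Nat.dvd_prime_pow hp.out).1 (hnM ▸ W.card_subgroup_dvd_card)
  rw [hk, hnM] at hmod
  have hkn : k < nM := by
    by_contra hle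
    refine hg1 (MulEquiv.ext fun v => ?_)
    have : W = ⊤ := Subgroup.eq_top_of_le_card _ (by
      rw [hk, hnM]; exact Nat.pow_le_pow_right hp.out.pos (not_lt.1 hle))
    exact (show v ∈ W from this ▸ Subgroup.mem_top v)
  have hrd' : r ∣ p ^ (nM - k) - 1 := by
    have h1 : r ∣ p ^ nM - p ^ k :=
      (Nat.modEq_iff_dvd' (Nat.pow_le_pow_right hp.out.pos hkn.le)).1 hmod.symm
    rw [show p ^ nM - p ^ k = p ^ k * (p ^ (nM - k) - 1) by
      rw [Nat.mul_sub, mul_one, ← pow_add, show k + (nM - k) = nM by omega]] at h1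
    exact (hr.dvd_mul.1 h1).resolve_left fun h => hrp (hr.dvd_of_dvd_pow h)
  have hk1 : k = 1 := by
    rcases Nat.lt_or_ge (nM - k) (nM - 1) with h | h
    · exact absurd hrd' (hrk _ (by omega) h)
    · by_contra hk1
      have hk0 : k = 0 := by omega
      subst hk0
      refine hrk 1 one_pos (by omega) ?_
      rw [Nat.sub_zero] at hrd'
      have h2 : p ^ nM - 1 = p * (p ^ (nM - 1) - 1) + (p ^ 1 - 1) := by
        have e1 : p ^ nM = p * p ^ (nM - 1) := by rw [← pow_succ', Nat.sub_add_cancel (by omega)]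
        have e2 : 1 ≤ p ^ (nM - 1) := Nat.one_le_pow _ _ hp.out.pos
        have e3 : p ≤ p * p ^ (nM - 1) := Nat.le_mul_of_pos_right _ (by omega)
        have e4 := hp.out.two_le
        rw [Nat.mul_sub, mul_one, pow_one]
        omega
      rw [h2] at hrd'
      exact (Nat.dvd_add_right (hrd.mul_left p)).1 hrd'
  obtain ⟨v, hv, hv1⟩ : ∃ v ∈ W, v ≠ 1 := by
    haveI : Nontrivial W := Finite.one_lt_card_iff_nontrivial.1 (by rw [hk, hk1, pow_one]; exact hp.out.one_lt)
    obtain ⟨⟨v, hv⟩, hne⟩ := exists_ne (1 : W)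
    exact ⟨v, hv, fun h => hne (Subtype.ext h)⟩
  have hWgen : Subgroup.zpowers v = W := Subgroup.eq_of_le_of_card_ge (Subgroup.zpowers_le.2 hv)
    (by rw [hk, hk1, pow_one, Nat.card_zpowers, orderOf_eq_prime (hpowM v) hv1])
  refine hline v hv1 fun c hc => ?_
  rw [hWgen]
  show φ g (ψ c v) = ψ c v
  have hcomm : φ g * ψ c = ψ c * φ g := by
    rw [← hφπ, ← map_mul, (hcg (π c) (by rw [hPbm]; exact Subgroup.mem_map_of_mem π hc)).eq, map_mul]
  calc φ g (ψ c v) = (φ g * ψ c) v := rfl
    _ = (ψ c * φ g) v := by rw [hcomm]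
    _ = ψ c (φ g v) := rfl
    _ = ψ c v := by rw [show φ g v = v from hv]

/-- Abelian subgroups of equal order of the complement part of a stabiliser. -/
theorem ba_stabiliser {G : Type u} [Group G] [Finite G] [Group.IsSolvable G] (hB : BA G)
    {p : ℕ} [hp : Fact p.Prime] (M : Subgroup G) [hMn : M.Normal] [IsMulCommutative M]
    (hM : ∀ x ∈ M, x ^ p = 1) (hMs : ∀ S : Sylow p G, (S : Subgroup G) = M)
    (hmin : ∀ K : Subgroup G, K.Normal → K ≤ M → K = ⊥ ∨ K = M)
    {K : Subgroup G} (hK : Subgroup.IsComplement' M K) (hKp : ¬ p ∣ Nat.card K)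
    {X : Subgroup G} (hXM : X ≤ M) (hX0 : X ≠ ⊥) (hXne : X ≠ M) :
    BA ↥(K ⊓ Subgroup.normalizer (X : Set G)) := by
  classical
  set T := Subgroup.normalizer (X : Set G)
  set KX := K ⊓ T
  have hMK : M ⊓ K = ⊥ := hK.disjoint.eq_bot
  let σ : Set ℕ := {r | ∀ x : G, (∃ k, orderOf x = r ^ k) → x ∈ Subgroup.centralizer (M : Set G)}
  -- outside σ, the primary subgroups of KX are cyclic
  have hcyc : ∀ r : ℕ, r.Prime → r ∉ σ → ∀ R : Subgroup G, R ≤ KX → IsPGroup r R → IsCyclic R := by
    intro r hr hrσ R hRK hR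
    haveI := Fact.mk hr
    by_cases hrp : r = p
    · subst hrp
      obtain ⟨e, he⟩ := IsPGroup.iff_card.1 hR
      have : e = 0 := by
        by_contra h0
        exact hKp ((dvd_pow_self r h0).trans (he ▸ Subgroup.card_dvd_of_le (hRK.trans inf_le_left)))
      rw [this, pow_zero] at he
      rw [Subgroup.card_eq_one.1 he]
      exact isCyclic_of_subsingleton
    obtain ⟨S, hRS⟩ := hR.exists_le_sylow
    rcases sylow_type _ G rfl inferInstance hB r S with ⟨hSn, -, -, -⟩ | hc | hq
    · exfalso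
      refine hrσ fun x ⟨k, hk⟩ => Subgroup.mem_centralizer_iff.2 fun m hm => ?_
      have hxS : x ∈ (S : Subgroup G) := by
        obtain ⟨S', hS'⟩ := (IsPGroup.of_card (n := k) (p := r) (G := Subgroup.zpowers x)
          (by rw [Nat.card_zpowers, hk])).exists_le_sylow
        obtain ⟨g, rfl⟩ := MulAction.exists_smul_eq G S S'
        have h1 := hS' (Subgroup.mem_zpowers x)
        rw [Sylow.coe_subgroup_smul] at h1
        rw [← conj_normal g (S : Subgroup G)]
        exact h1
      obtain ⟨e, he⟩ := IsPGroup.iff_card.1 S.2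
      obtain ⟨d, hd⟩ := IsPGroup.iff_card.1 (show IsPGroup p M from hMs default ▸ (default : Sylow p G).2)
      have hdis : Disjoint M (S : Subgroup G) := disjoint_iff.2 (inf_eq_bot_of_coprime (by
        rw [he, hd]; exact ((Nat.coprime_primes hp.out hr).2 (Ne.symm hrp)).pow d e))
      exact (Subgroup.commute_of_normal_of_disjoint M (S : Subgroup G) hMn hSn hdis m x hm hxS).eq
    · exact isCyclic_of_injective (Subgroup.inclusion hRS) (Subgroup.inclusion_injective hRS)
    · obtain rfl : r = 2 := hq.1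
      have hSC : ¬ (S : Subgroup G) ≤ Subgroup.centralizer (M : Set G) := fun h => hrσ fun x ⟨k, hk⟩ => by
        obtain ⟨S', hS'⟩ := (IsPGroup.of_card (n := k) (p := 2) (G := Subgroup.zpowers x)
          (by rw [Nat.card_zpowers, hk])).exists_le_sylow
        obtain ⟨g, rfl⟩ := MulAction.exists_smul_eq G S S'
        have h1 := hS' (Subgroup.mem_zpowers x)
        rw [Sylow.coe_subgroup_smul] at h1
        rw [← conj_normal g (Subgroup.centralizer (M : Set G))]
        exact conj_mono g h h1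
      obtain ⟨i, hi⟩ := IsPGroup.iff_card.1 hR
      have hi2 : i ≤ 2 := by
        by_contra hlt
        have hRS' : R = S := Subgroup.eq_of_le_of_card_ge hRS
          (by rw [hq.2.1, hi]; exact Nat.pow_le_pow_right two_pos (by omega : 3 ≤ i))
        exact no_quaternion_stabiliser hB M hM hMs hmin S hq hSC X hXM hX0 hXne
          (hRS' ▸ hRK.trans inf_le_right)
      interval_cases i
      · rw [Subgroup.card_eq_one.1 (by rw [hi, pow_zero] : Nat.card R = 1)]
        exact isCyclic_of_subsingleton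
      · exact isCyclic_of_prime_card (p := 2) (by rw [hi, pow_one])
      · obtain ⟨z, hz, hzo, -, -, hsq, -⟩ := hq.facts
        obtain ⟨x, hx, hx1, hxz⟩ : ∃ x ∈ R, x ≠ 1 ∧ x ≠ z := by
          by_contra h
          push Not at h
          have hle : (R : Set G) ⊆ {1, z} := fun x hx => by
            by_cases h1 : x = 1
            · exact Or.inl h1
            · exact Or.inr (h x hx h1)
          have := (Set.ncard_le_ncard hle (Set.toFinite _)).trans (Set.ncard_insert_le _ _)
          rw [← Nat.card_coe_set_eq, SetLike.coe_sort_coe, hi, Set.ncard_singleton] at this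
          omega
        refine isCyclic_of_orderOf_eq_card (⟨x, hx⟩ : R) ?_
        rw [Subgroup.orderOf_mk, hi]
        have := hsq x (hRS hx) hx1 hxz
        refine orderOf_eq_prime_pow (fun h => ?_) ?_
        · rw [pow_one, this] at h
          rw [h, orderOf_one] at hzo
          omega
        · rw [show 2 ^ (1 + 1) = 2 * 2 from rfl, pow_mul, this, ← hzo, pow_orderOf_eq_one]
  intro A B hA hB' hcard
  set D := A.map KX.subtype
  set D' := B.map KX.subtype
  have hDK : D ≤ KX := Subgroup.map_subtype_le A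
  have hD'K : D' ≤ KX := Subgroup.map_subtype_le B
  haveI hDc : IsMulCommutative D := Subgroup.map_isMulCommutative A _
  haveI hD'c : IsMulCommutative D' := Subgroup.map_isMulCommutative B _
  suffices ∃ g ∈ KX, MulAut.conj g • D = D' by
    obtain ⟨g, hg, hge⟩ := this
    refine ⟨⟨g, hg⟩, Subgroup.map_injective KX.subtype_injective ?_⟩
    rw [map_conj]
    exact hge
  obtain ⟨D1, D2, hD1, hD2, hD1π, hD2π, hmul, hsup⟩ := split_abelian D σ
  obtain ⟨D1', D2', hD1', hD2', hD1π', hD2π', hmul', hsup'⟩ := split_abelian D' σ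
  have hDcard : Nat.card D = Nat.card D' := by
    rw [Subgroup.card_map_of_injective KX.subtype_injective, Subgroup.card_map_of_injective KX.subtype_injective,
      hcard]
  obtain ⟨h11, h22⟩ := IsPiNum.eq_of_mul_eq hD1π hD2π hD1π' hD2π' (by rw [hmul, hmul', hDcard]) Nat.card_pos.ne'
  have hC : ∀ F : Subgroup G, F ≤ KX → IsMulCommutative F → IsPiNum σ (Nat.card F) →
      F ≤ Subgroup.centralizer (M : Set G) := by
    intro F hF hFc hFπ x hx
    haveI := hFc
    -- all primary components lie in the centralizer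
    let Fc := (Subgroup.centralizer (M : Set G)).subgroupOf F
    suffices Fc = ⊤ from Subgroup.subgroupOf_eq_top.1 this hx
    haveI : Fc.Normal := Subgroup.normal_subgroupOf
    rw [← Subgroup.index_eq_one]
    by_contra hne
    obtain ⟨r, hr, hrd⟩ := Nat.exists_prime_and_dvd hne
    haveI := Fact.mk hr
    let R : Sylow r F := default
    have hRle : (R : Subgroup F) ≤ Fc := fun y hy => by
      obtain ⟨k, hk⟩ := IsPGroup.iff_orderOf.1 R.2 ⟨y, hy⟩
      rw [Subgroup.orderOf_mk] at hk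
      exact Subgroup.mem_subgroupOf.2
        (hFπ r hr (hrd.trans Fc.index_dvd_card) _ ⟨k, by rw [Subgroup.orderOf_coe, hk]⟩)
    exact R.not_dvd_index (hrd.trans (Subgroup.index_dvd_of_le hRle))
  have hD1c : IsMulCommutative D1 := ⟨⟨fun a b => Subtype.ext
    (congrArg Subtype.val (hDc.1.1 ⟨a, hD1 a.2⟩ ⟨b, hD1 b.2⟩) :)⟩⟩
  have hD1'c : IsMulCommutative D1' := ⟨⟨fun a b => Subtype.ext
    (congrArg Subtype.val (hD'c.1.1 ⟨a, hD1' a.2⟩ ⟨b, hD1' b.2⟩) :)⟩⟩
  have hXc : IsMulCommutative X := ⟨⟨fun a b => Subtype.ext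
    (congrArg Subtype.val (mul_comm' (⟨a, hXM a.2⟩ : M) ⟨b, hXM b.2⟩) :)⟩⟩
  -- the σ-parts
  have hsupc : ∀ F : Subgroup G, F ≤ KX → IsMulCommutative F → F ≤ Subgroup.centralizer (M : Set G) →
      IsMulCommutative ↥(X ⊔ F) ∧ Nat.card ↥(X ⊔ F) = Nat.card X * Nat.card F ∧ (X ⊔ F) ⊓ M = X := by
    intro F hF hFc hFC
    refine ⟨?_, ?_, ?_⟩
    · have hgen : Subgroup.closure ((X : Set G) ∪ F) = X ⊔ F := by
        rw [Subgroup.closure_union, Subgroup.closure_eq, Subgroup.closure_eq]
      rw [← hgen]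
      refine Subgroup.isMulCommutative_closure fun a ha b hb => ?_
      rcases ha with ha | ha <;> rcases hb with hb | hb
      · exact congrArg Subtype.val (hXc.1.1 ⟨a, ha⟩ ⟨b, hb⟩)
      · exact Subgroup.mem_centralizer_iff.1 (hFC hb) a (hXM ha)
      · exact (Subgroup.mem_centralizer_iff.1 (hFC ha) b (hXM hb)).symm
      · exact congrArg Subtype.val (hFc.1.1 ⟨a, ha⟩ ⟨b, hb⟩)
    · haveI : (X.subgroupOf (X ⊔ F)).Normal := by
        rw [Subgroup.normal_subgroupOf_iff_le_normalizer le_sup_left]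
        exact sup_le Subgroup.le_normalizer (hF.trans inf_le_right)
      have h := card_sup_of_disjoint (F.subgroupOf (X ⊔ F)) (X.subgroupOf (X ⊔ F)) (by
        rw [eq_bot_iff]
        intro y hy
        exact Subgroup.mem_bot.2 (Subtype.ext (Subgroup.mem_bot.1 (hMK ▸
          Subgroup.mem_inf.2 ⟨hXM hy.2, (hF hy.1).1⟩))))
      rw [← Subgroup.subgroupOf_sup le_sup_right le_sup_left, sup_comm F X, Subgroup.subgroupOf_self,
        Subgroup.card_top, Nat.card_congr (Subgroup.subgroupOfEquivOfLe le_sup_right).toEquiv,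
        Nat.card_congr (Subgroup.subgroupOfEquivOfLe le_sup_left).toEquiv] at h
      rw [h, mul_comm]
    · refine le_antisymm ?_ (le_inf le_sup_left hXM)
      rintro y ⟨hy, hyM⟩
      rw [SetLike.mem_coe] at hy hyM
      have hy2 : y ∈ Subgroup.closure ((X : Set G) ∪ F) := by
        rwa [Subgroup.closure_union, Subgroup.closure_eq, Subgroup.closure_eq]
      obtain ⟨u, hu, w, hw, rfl⟩ : ∃ u ∈ X, ∃ w ∈ F, u * w = y := by
        have hy' : y ∈ ((X ⊔ F : Subgroup G) : Set G) := hy
        rw [Subgroup.coe_mul_of_right_le_normalizer_left X F (hF.trans inf_le_right)] at hy'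
        obtain ⟨u, hu, w, hw, e⟩ := hy'
        exact ⟨u, hu, w, hw, e⟩
      have hwM : w ∈ M := by simpa using mul_mem (inv_mem (hXM hu)) hyM
      have : w = 1 := Subgroup.mem_bot.1 (hMK ▸ Subgroup.mem_inf.2 ⟨hwM, (hF hw).1⟩)
      rw [this, mul_one]
      exact hu
  have hC1 := hC D1 (hD1.trans hDK) hD1c hD1π
  have hC1' := hC D1' (hD1'.trans hD'K) hD1'c hD1π'
  obtain ⟨hc1, hn1, hi1⟩ := hsupc D1 (hD1.trans hDK) hD1c hC1
  obtain ⟨hc1', hn1', hi1'⟩ := hsupc D1' (hD1'.trans hD'K) hD1'c hC1'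
  obtain ⟨g, hg⟩ := hB _ _ hc1 hc1' (by rw [hn1, hn1', h11])
  have hgX : MulAut.conj g • X = X := by
    conv_rhs => rw [← hi1', ← hg]
    conv_lhs => rw [← hi1]
    rw [Subgroup.smul_inf, conj_normal g M]
  obtain ⟨⟨n, k⟩, hnk⟩ := hK.2 g
  simp only at hnk
  have hnX : MulAut.conj (n : G) • X = X := mem_normalizer_iff_conj.1 (Subgroup.centralizer_le_normalizer _
    (Subgroup.centralizer_le hXM (Subgroup.mem_centralizer_iff.2 fun x hx =>
      congrArg Subtype.val (mul_comm' (⟨x, hx⟩ : M) n))))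
  have hkX : (k : G) ∈ KX := by
    refine Subgroup.mem_inf.2 ⟨k.2, mem_normalizer_iff_conj.2 ?_⟩
    have h1 := congrArg (fun Y => MulAut.conj (n : G)⁻¹ • Y) hgX
    rw [← hnk, ← conj_conj, conj_inv_smul, eq_conj_inv hnX] at h1
    exact h1
  have hkD : MulAut.conj (k : G) • D1 = D1' := by
    set f := QuotientGroup.mk' M
    have hkin : ∀ F : Subgroup G, F ≤ K → F.map f = D1'.map f → F = D1' := by
      intro F hF he
      have h1 := sup_eq_sup_of_map_eq he
      refine le_antisymm (fun x hx => ?_) (fun x hx => ?_)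
      · obtain ⟨u, hu, w, hw, e⟩ := Subgroup.mem_sup_of_normal_right.1 (h1 ▸ Subgroup.mem_sup_left hx)
        have hwK : w ∈ K := by
          have := mul_mem (inv_mem (Subgroup.mem_inf.1 (hD1'.trans hD'K hu)).1) (hF hx)
          rwa [← e, inv_mul_cancel_left] at this
        have : w = 1 := Subgroup.mem_bot.1 (hMK ▸ Subgroup.mem_inf.2 ⟨hw, hwK⟩)
        rw [← e, this, mul_one]; exact hu
      · obtain ⟨u, hu, w, hw, e⟩ := Subgroup.mem_sup_of_normal_right.1 (h1.symm ▸ Subgroup.mem_sup_left hx)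
        have hwK : w ∈ K := by
          have := mul_mem (inv_mem (hF hu)) (Subgroup.mem_inf.1 (hD1'.trans hD'K hx)).1
          rwa [← e, inv_mul_cancel_left] at this
        have : w = 1 := Subgroup.mem_bot.1 (hMK ▸ Subgroup.mem_inf.2 ⟨hw, hwK⟩)
        rw [← e, this, mul_one]; exact hu
    refine hkin _ (fun x hx => ?_) ?_
    · rw [mem_conj_iff] at hx
      have := K.mul_mem (K.mul_mem k.2 (hD1.trans hDK hx).1) (K.inv_mem k.2)
      simpa [mul_assoc] using this
    · have hn1 : f (n : G) = 1 := (QuotientGroup.eq_one_iff _).2 n.2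
      have hX1 : X.map f = ⊥ := by rw [Subgroup.map_eq_bot_iff, QuotientGroup.ker_mk']; exact hXM
      have h1 := congrArg (Subgroup.map f) hg
      rw [map_conj, Subgroup.map_sup, Subgroup.map_sup, hX1, bot_sup_eq, bot_sup_eq, ← hnk, map_mul, hn1,
        one_mul, ← map_conj] at h1
      exact h1
  -- the rest, inside the centraliser of the σ-part
  set E2 := MulAut.conj (k : G) • D2
  have hkD' : IsMulCommutative ↥(MulAut.conj (k : G) • D) := Subgroup.map_isMulCommutative D _
  have hkK : MulAut.conj (k : G) • D ≤ KX := by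
    intro x hx
    rw [mem_conj_iff] at hx
    have := KX.mul_mem (KX.mul_mem hkX (hDK hx)) (KX.inv_mem hkX)
    simpa [mul_assoc] using this
  have hE2c : IsMulCommutative E2 := ⟨⟨fun a b => Subtype.ext
    (congrArg Subtype.val (hkD'.1.1 ⟨a, conj_mono _ hD2 a.2⟩ ⟨b, conj_mono _ hD2 b.2⟩) :)⟩⟩
  have hD2'c : IsMulCommutative D2' := ⟨⟨fun a b => Subtype.ext
    (congrArg Subtype.val (hD'c.1.1 ⟨a, hD2' a.2⟩ ⟨b, hD2' b.2⟩) :)⟩⟩
  obtain ⟨c, hc, hce⟩ := conj_abelian_of_cyclic (Nat.card E2) (KX ⊓ Subgroup.centralizer (D1' : Set G)) E2 D2'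
    rfl (by rw [card_conj, h22]) hE2c hD2'c
    (le_inf ((conj_mono _ hD2).trans hkK) (by
      intro x hx
      refine Subgroup.mem_centralizer_iff.2 fun w hw => ?_
      have hwk : w ∈ MulAut.conj (k : G) • D := conj_mono _ hD1 (hkD.symm ▸ hw)
      exact congrArg Subtype.val (hkD'.1.1 ⟨w, hwk⟩ ⟨x, conj_mono _ hD2 hx⟩)))
    (le_inf (hD2'.trans hD'K) (fun x hx => Subgroup.mem_centralizer_iff.2 fun w hw =>
      congrArg Subtype.val (hD'c.1.1 ⟨w, hD1' hw⟩ ⟨x, hD2' hx⟩)))
    (fun r hr hrd R hR => hcyc r hr (hD2π r hr (by rwa [card_conj] at hrd)) R (hR.trans inf_le_left))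
  obtain ⟨hcK, hcC⟩ := Subgroup.mem_inf.1 hc
  refine ⟨c * k, KX.mul_mem hcK hkX, ?_⟩
  rw [← conj_conj, ← hsup, conj_sup, hkD, conj_sup, hce,
    mem_normalizer_iff_conj.1 (Subgroup.centralizer_le_normalizer _ hcC), hsup']

/-- In a solvable group with conjugate abelian subgroups of equal order, all subgroups of equal order are
conjugate. -/
theorem all_conj (n : ℕ) : ∀ (G : Type u) [Group G] [Finite G], Nat.card G = n → Group.IsSolvable G → BA G →
    ∀ A B : Subgroup G, Nat.card A = Nat.card B → ∃ g : G, MulAut.conj g • A = B := by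
  induction n using Nat.strong_induction_on with
  | _ n ih =>
    intro G _ _ hn hs hB A B hcard
    haveI : Group.IsSolvable G := hs
    by_cases htop : (⊤ : Subgroup G) = ⊥
    · refine ⟨1, ?_⟩
      have hb : ∀ H : Subgroup G, H = ⊥ := fun H => le_bot_iff.1 (htop ▸ le_top)
      rw [conj_one_smul, hb A, hb B]
    obtain ⟨M, hMn, hM0, -, hMmin⟩ := exists_minimal_normal htop
    obtain ⟨hMc, p, hp, hMp, hMexp⟩ := elementaryAbelian_of_minimal_normal M hM0 hMmin
    haveI := Fact.mk hp
    haveI := hMc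
    haveI hMs : Group.IsSolvable M := Group.isSolvable_of_comm fun a b => mul_comm' a b
    set f := QuotientGroup.mk' M with hf
    have hsurj : Function.Surjective f := QuotientGroup.mk'_surjective M
    have hIH := ih _ (hn ▸ card_quotient_lt hM0) (G ⧸ M) rfl (Group.isSolvable_of_surjective hsurj)
      (hB.quotient_minimal M hMp hM0 hMexp hMc)
    obtain ⟨d, hd⟩ := IsPGroup.iff_card.1 hMp
    have hord : ∀ x : G, orderOf x = p → x ∈ M := by
      intro x hx
      haveI := (Subgroup.nontrivial_iff_ne_bot M).2 hM0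
      obtain ⟨⟨m, hm⟩, hm1⟩ := exists_ne (1 : M)
      obtain ⟨g, hg⟩ := hB.conj_zpowers ((orderOf_eq_prime (hMexp m hm) fun h => hm1 (Subtype.ext h)).trans hx.symm)
      have hle := conj_mono g (Subgroup.zpowers_le.2 hm)
      rw [hg, conj_normal] at hle
      exact hle (Subgroup.mem_zpowers x)
    have hsz : ∀ H : Subgroup G, Nat.card H = Nat.card (H.map f) * Nat.card ↥(H ⊓ M) := fun H => by
      conv_lhs => rw [card_eq_card_map_mul f H]
      rw [hf, QuotientGroup.ker_mk']
    have hd0 : d ≠ 0 := fun h => hM0 (Subgroup.card_eq_one.1 (by rw [hd, h, pow_zero]))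
    by_cases hd1 : d = 1
    · -- the unique subgroup of order p
      subst hd1
      rw [pow_one] at hd
      by_cases hpA : p ∣ Nat.card A
      · have hMle : ∀ H : Subgroup G, p ∣ Nat.card H → M ≤ H := by
          intro H hH
          obtain ⟨x, hx⟩ := exists_prime_orderOf_dvd_card' p hH
          rw [← Subgroup.orderOf_coe] at hx
          have h1 : Subgroup.zpowers (x : G) ≤ M := Subgroup.zpowers_le.2 (hord _ hx)
          rw [← Subgroup.eq_of_le_of_card_ge h1 (by rw [hd, Nat.card_zpowers, hx])]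
          exact Subgroup.zpowers_le.2 x.2
        have hA := hMle A hpA
        have hB' := hMle B (hcard ▸ hpA)
        obtain ⟨g', hg'⟩ := hIH (A.map f) (B.map f) (by
          have h1 := hsz A
          have h2 := hsz B
          rw [inf_of_le_right hA] at h1
          rw [inf_of_le_right hB', ← hcard, h1] at h2
          exact Nat.eq_of_mul_eq_mul_right Nat.card_pos h2)
        obtain ⟨g, rfl⟩ := hsurj g'
        rw [← map_conj] at hg'
        refine ⟨g, eq_of_map_eq ?_ ?_ hg'⟩
        · rw [QuotientGroup.ker_mk', ← conj_normal g M]; exact conj_mono g hA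
        · rw [QuotientGroup.ker_mk']; exact hB'
      · have hdis : ∀ H : Subgroup G, ¬ p ∣ Nat.card H → H ⊓ M = ⊥ := fun H hH =>
          inf_eq_bot_of_coprime (by rw [hd]; exact (hp.coprime_iff_not_dvd.2 hH).symm)
        obtain ⟨g', hg'⟩ := hIH (A.map f) (B.map f) (by
          have h1 := hsz A
          have h2 := hsz B
          rw [hdis A hpA, Subgroup.card_bot, mul_one] at h1
          rw [hdis B (hcard ▸ hpA), Subgroup.card_bot, mul_one, ← hcard, h1] at h2
          exact h2)
        obtain ⟨g, rfl⟩ := hsurj g'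
        rw [← map_conj] at hg'
        obtain ⟨m, -, hm⟩ := exists_conj_of_sup_eq (N := M) (Or.inl hMs) (sup_eq_sup_of_map_eq hg')
          (by rw [card_conj, hd]; exact (hp.coprime_iff_not_dvd.2 hpA).symm)
          (by rw [hd]; exact (hp.coprime_iff_not_dvd.2 (hcard ▸ hpA)).symm)
        exact ⟨m * g, by rw [← conj_conj, hm]⟩
    -- M is the Sylow p-subgroup
    have hd2 : 2 ≤ d := by omega
    have hMs' : ∀ S : Sylow p G, (S : Subgroup G) = M := by
      intro S
      have hMS : M ≤ (S : Subgroup G) := by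
        rw [← S.is_maximal' (IsPGroup.to_sup_of_normal_right S.2 hMp) le_sup_left]
        exact le_sup_right
      refine le_antisymm ?_ hMS
      rcases sylow_type _ G rfl hs hB p S with ⟨-, -, hexp, -⟩ | hc | hq
      · intro x hx
        by_cases h1 : x = 1
        · rw [h1]; exact one_mem M
        · exact hord x (orderOf_eq_prime (hexp x hx) h1)
      · exfalso
        haveI : IsCyclic M := isCyclic_of_injective (Subgroup.inclusion hMS) (Subgroup.inclusion_injective hMS)
        obtain ⟨g, hg⟩ := IsCyclic.exists_generator (α := M)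
        have h1 := orderOf_eq_card_of_forall_mem_zpowers hg
        rw [hd] at h1
        have h2 : orderOf g ∣ p := by
          rw [← Subgroup.orderOf_coe]; exact orderOf_dvd_of_pow_eq_one (hMexp g g.2)
        rw [h1] at h2
        have := Nat.le_of_dvd hp.pos h2
        have h3 := Nat.pow_le_pow_right hp.pos hd2
        nlinarith [hp.two_le]
      · exfalso
        obtain rfl : p = 2 := hq.1
        have hsub : Subsingleton {x : M // x ≠ 1} := ⟨fun a b => Subtype.ext (Subtype.ext
          (hq.2.2.2 _ (hMS a.1.2) _ (hMS b.1.2)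
            (orderOf_eq_prime (hMexp _ a.1.2) fun h => a.2 (Subtype.ext h))
            (orderOf_eq_prime (hMexp _ b.1.2) fun h => b.2 (Subtype.ext h))))⟩
        have h1 : Nat.card M ≤ 2 := by
          classical
          have hinj2 : Function.Injective (fun x : M => decide (x = 1)) := by
            intro a b hab
            by_cases ha : a = 1
            · have hb : b = 1 := by simpa [ha] using hab
              rw [ha, hb]
            · have hb : b ≠ 1 := by simpa [ha] using hab
              exact congrArg Subtype.val (@Subsingleton.elim _ hsub ⟨a, ha⟩ ⟨b, hb⟩)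
          simpa using Nat.card_le_card_of_injective _ hinj2
        rw [hd] at h1
        have h3 := Nat.pow_le_pow_right two_pos hd2
        omega
    have hMi : ¬ p ∣ M.index := hMs' default ▸ (default : Sylow p G).not_dvd_index
    have hcopM : (Nat.card M).Coprime M.index := by
      rw [hd]; exact (hp.coprime_iff_not_dvd.2 hMi).pow_left d
    have hmapi : ∀ H : Subgroup G, ¬ p ∣ Nat.card (H.map f) := fun H h => hMi (by
      rw [Subgroup.index_eq_card]; exact h.trans (Subgroup.card_subgroup_dvd_card _))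
    have hAB : Nat.card ↥(A ⊓ M) = Nat.card ↥(B ⊓ M) ∧ Nat.card (A.map f) = Nat.card (B.map f) := by
      obtain ⟨a, -, ha⟩ := (Nat.dvd_prime_pow hp).1 (hd ▸ Subgroup.card_dvd_of_le (inf_le_right : A ⊓ M ≤ M))
      obtain ⟨b, -, hb⟩ := (Nat.dvd_prime_pow hp).1 (hd ▸ Subgroup.card_dvd_of_le (inf_le_right : B ⊓ M ≤ M))
      have h1 := hsz A
      rw [hcard, hsz B] at h1
      have e1 : IsPiNum {p} (Nat.card ↥(A ⊓ M)) := ha ▸ isPiNum_pow hp (Set.mem_singleton p) a
      have e2 : IsPiNum {p} (Nat.card ↥(B ⊓ M)) := hb ▸ isPiNum_pow hp (Set.mem_singleton p) b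
      have e3 : ∀ H : Subgroup G, IsPiNum ({p} : Set ℕ)ᶜ (Nat.card (H.map f)) := fun H q hq hqd hq' => by
        rw [Set.mem_singleton_iff] at hq'
        exact hmapi H (hq' ▸ hqd)
      rw [mul_comm (Nat.card (B.map f)), mul_comm (Nat.card (A.map f))] at h1
      obtain ⟨x, y⟩ := IsPiNum.eq_of_mul_eq e2 (e3 B) e1 (e3 A) h1 Nat.card_pos.ne'
      exact ⟨x.symm, y.symm⟩
    have hcM : ∀ H : Subgroup G, IsMulCommutative ↥(H ⊓ M) := fun H => ⟨⟨fun a b => Subtype.ext
      (congrArg Subtype.val (mul_comm' (⟨a, a.2.2⟩ : M) ⟨b, b.2.2⟩) :)⟩⟩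
    obtain ⟨g0, hg0⟩ := hB (A ⊓ M) (B ⊓ M) (hcM A) (hcM B) hAB.1
    set A1 := MulAut.conj g0 • A
    have hA1M : A1 ⊓ M = B ⊓ M := by
      rw [← hg0]
      conv_lhs => rw [← conj_normal g0 M]
      exact (Subgroup.smul_inf (MulAut.conj g0) A M).symm
    set X := B ⊓ M with hX
    suffices ∃ g, MulAut.conj g • A1 = B by
      obtain ⟨g, hg⟩ := this
      exact ⟨g * g0, by rw [← conj_conj, hg]⟩
    -- complements of X
    have hcompl : ∀ H : Subgroup G, H ⊓ M = X → ∃ H0 : Subgroup G, H0 ≤ H ∧ X ⊔ H0 = H ∧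
        (Nat.card H0).Coprime (Nat.card M) ∧ H0 ≤ Subgroup.normalizer (X : Set G) := by
      intro H hH
      haveI : (M.subgroupOf H).Normal := Subgroup.normal_subgroupOf
      have hker : (f.subgroupMap H).ker = M.subgroupOf H := by
        ext x
        rw [MonoidHom.mem_ker, Subgroup.mem_subgroupOf]
        exact ⟨fun h => (QuotientGroup.eq_one_iff _).1 (congrArg Subtype.val h),
          fun h => Subtype.ext ((QuotientGroup.eq_one_iff _).2 h)⟩
      have hidx : (M.subgroupOf H).index = Nat.card (H.map f) := by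
        rw [← hker, Subgroup.index_ker, MonoidHom.range_eq_top.2 (f.subgroupMap_surjective H), Subgroup.card_top]
      have hc1 : Nat.card (M.subgroupOf H) = Nat.card X := by
        rw [← hH, ← Subgroup.inf_subgroupOf_right, inf_comm M H,
          Nat.card_congr (Subgroup.subgroupOfEquivOfLe inf_le_left).toEquiv]
      obtain ⟨e, -, he⟩ := (Nat.dvd_prime_pow hp).1 (hd ▸ Subgroup.card_dvd_of_le (inf_le_right : B ⊓ M ≤ M))
      obtain ⟨U, hU⟩ := Subgroup.exists_right_complement'_of_coprime (N := M.subgroupOf H)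
        (by rw [hidx, hc1, hX, he]; exact (hp.coprime_iff_not_dvd.2 (hmapi H)).pow_left e)
      refine ⟨U.map H.subtype, Subgroup.map_subtype_le U, ?_, ?_, ?_⟩
      · calc X ⊔ U.map H.subtype = (M.subgroupOf H).map H.subtype ⊔ U.map H.subtype := by
              rw [Subgroup.subgroupOf_map_subtype, inf_comm, hH]
          _ = H := by rw [← Subgroup.map_sup, hU.sup_eq_top, ← MonoidHom.range_eq_map, Subgroup.range_subtype]
      · rw [Subgroup.card_map_of_injective H.subtype_injective, ← hU.symm.index_eq_card, hidx, hd]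
        exact (((hp.coprime_iff_not_dvd.2 (hmapi H)).pow_left d).symm)
      · intro y hy
        refine mem_normalizer_iff_conj.2 ?_
        have hyH : y ∈ H := Subgroup.map_subtype_le U hy
        conv_lhs => rw [← hH]
        rw [Subgroup.smul_inf, conj_eq_self hyH, conj_normal y M, hH]
    obtain ⟨HA, hHA, hAX, hHAc, hHAT⟩ := hcompl A1 hA1M
    obtain ⟨HB, hHB, hBX, hHBc, hHBT⟩ := hcompl B rfl
    have hMX : M ≤ Subgroup.normalizer (X : Set G) := by
      refine le_trans ?_ (Subgroup.centralizer_le_normalizer _)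
      intro m hm
      exact Subgroup.mem_centralizer_iff.2 fun x hx => congrArg Subtype.val (mul_comm' (⟨x, hx.2⟩ : M) ⟨m, hm⟩)
    have hcardH : Nat.card HA = Nat.card HB := by
      have hmapH : ∀ H H0 : Subgroup G, X ⊔ H0 = H → (Nat.card H0).Coprime (Nat.card M) →
          Nat.card H0 = Nat.card (H.map f) := by
        intro H H0 h hc
        have hXb : X.map f = ⊥ := by rw [Subgroup.map_eq_bot_iff, QuotientGroup.ker_mk']; exact inf_le_right
        rw [← h, Subgroup.map_sup, hXb, bot_sup_eq,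
          card_map_of_disjoint f H0 (by rw [QuotientGroup.ker_mk']; exact inf_eq_bot_of_coprime hc)]
      rw [hmapH A1 HA hAX hHAc, hmapH B HB hBX hHBc]
      have hA1c : Nat.card (A1.map f) = Nat.card (A.map f) := by rw [map_conj, card_conj]
      rw [hA1c, hAB.2]
    by_cases hXtriv : X = ⊥ ∨ X = M
    · have hXn : X.Normal := by
        rcases hXtriv with h | h <;> rw [h]
        · infer_instance
        · exact hMn
      obtain ⟨g', hg'⟩ := hIH (HA.map f) (HB.map f) (by
        rw [card_map_of_disjoint f HA (by rw [QuotientGroup.ker_mk']; exact inf_eq_bot_of_coprime hHAc),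
          card_map_of_disjoint f HB (by rw [QuotientGroup.ker_mk']; exact inf_eq_bot_of_coprime hHBc), hcardH])
      obtain ⟨g, rfl⟩ := hsurj g'
      rw [← map_conj] at hg'
      obtain ⟨m, -, hm⟩ := exists_conj_of_sup_eq (N := M) (Or.inl hMs) (sup_eq_sup_of_map_eq hg')
        (by rw [card_conj]; exact hHAc) hHBc
      refine ⟨m * g, ?_⟩
      rw [← hAX, ← hBX, conj_sup, ← conj_conj (H := HA), hm]
      haveI := hXn
      rw [conj_normal]
    push Not at hXtriv
    obtain ⟨K, hK⟩ := Subgroup.exists_right_complement'_of_coprime (N := M) hcopM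
    have hKc : Nat.card K = M.index := hK.symm.index_eq_card.symm
    have hKp : ¬ p ∣ Nat.card K := by rw [hKc]; exact hMi
    set T := Subgroup.normalizer (X : Set G)
    have hmove : ∀ H : Subgroup G, H ≤ T → (Nat.card H).Coprime (Nat.card M) →
        ∃ m ∈ M, MulAut.conj m • H ≤ K ⊓ T := by
      intro H hHT hHc
      set H' := (H ⊔ M) ⊓ K
      have hsup : H ⊔ M = H' ⊔ M := by
        refine le_antisymm (sup_le (fun h hh => ?_) le_sup_right) (sup_le inf_le_left le_sup_right)
        obtain ⟨⟨m, k⟩, rfl⟩ := hK.2 h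
        have hk : (k : G) ∈ H' := by
          refine Subgroup.mem_inf.2 ⟨?_, k.2⟩
          have := mul_mem (Subgroup.mem_sup_right (inv_mem m.2) : (m : G)⁻¹ ∈ H ⊔ M) (Subgroup.mem_sup_left hh)
          simpa using this
        exact mul_mem (Subgroup.mem_sup_right m.2) (Subgroup.mem_sup_left hk)
      have hH'c : (Nat.card H').Coprime (Nat.card M) :=
        (hKc ▸ hcopM.symm : (Nat.card K).Coprime (Nat.card M)).coprime_dvd_left
          (Subgroup.card_dvd_of_le inf_le_right)
      obtain ⟨m, hm, hme⟩ := exists_conj_of_sup_eq (N := M) (Or.inl hMs) hsup hHc hH'c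
      refine ⟨m, hm, le_inf (hme ▸ inf_le_right) ?_⟩
      rintro _ ⟨h, hh, rfl⟩
      exact T.mul_mem (T.mul_mem (hMX hm) (hHT hh)) (T.inv_mem (hMX hm))
    obtain ⟨m1, hm1, h1⟩ := hmove HA hHAT hHAc
    obtain ⟨m2, hm2, h2⟩ := hmove HB hHBT hHBc
    have hBX' := ba_stabiliser hB M hMexp hMs' hMmin hK hKp (inf_le_right : X ≤ M) hXtriv.1 hXtriv.2
    set KX := K ⊓ T
    have hlt : Nat.card KX < n := by
      rw [← hn]
      refine lt_of_le_of_lt (Nat.le_of_dvd Nat.card_pos (Subgroup.card_dvd_of_le inf_le_left)) ?_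
      rw [hKc, ← M.card_mul_index]
      exact lt_mul_of_one_lt_left (Nat.pos_of_ne_zero M.index_ne_zero_of_finite) (M.one_lt_card_iff_ne_bot.2 hM0)
    obtain ⟨c, hc⟩ := ih _ hlt KX rfl (inferInstance) hBX'
      ((MulAut.conj m1 • HA).subgroupOf KX) ((MulAut.conj m2 • HB).subgroupOf KX) (by
        rw [Nat.card_congr (Subgroup.subgroupOfEquivOfLe h1).toEquiv,
          Nat.card_congr (Subgroup.subgroupOfEquivOfLe h2).toEquiv, card_conj, card_conj, hcardH])
    have hc' := congrArg (Subgroup.map KX.subtype) hc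
    rw [map_conj, Subgroup.map_subgroupOf_eq_of_le h1, Subgroup.map_subgroupOf_eq_of_le h2, conj_conj] at hc'
    refine ⟨m2⁻¹ * ((c : G) * m1), ?_⟩
    have hfix : m2⁻¹ * ((c : G) * m1) ∈ T := T.mul_mem (T.inv_mem (hMX hm2)) (T.mul_mem c.2.2 (hMX hm1))
    rw [← hAX, ← hBX, conj_sup, mem_normalizer_iff_conj.1 hfix, ← conj_conj (H := HA),
      show MulAut.conj ((c : G) * m1) • HA = MulAut.conj m2 • HB from hc', conj_inv_smul]

end Cfsg.Agent.Solvable
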