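import Cfsg.Agent.Lib.Solvable.SylowSystem

/-!
# The number of Hall subgroups of a solvable group (owner: helper2)
-/

open Pointwise

namespace Cfsg.Agent.Solvable

universe u

variable {G : Type u} [Group G]

theorem relIndex_centralizer_modEq [Finite G] {p q : ℕ} [Fact p.Prime] [hq : Fact q.Prime]
    (hpq : p ≠ q) {Q N : Subgroup G} (hQ : IsPGroup q Q) (hN : IsPGroup p N)
    (hQN : Q ≤ Subgroup.normalizer (N : Set G)) :
    (Subgroup.centralizer (Q : Set G)).relIndex N ≡ 1 [MOD q] := by
  let _ : MulAction Q N :=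
    { smul := fun a x => ⟨a * x * (a : G)⁻¹, (Subgroup.mem_normalizer_iff.1 (hQN a.2) x).1 x.2⟩
      one_smul := fun x => Subtype.ext (show ((1 : Q) : G) * x * ((1 : Q) : G)⁻¹ = x by simp)
      mul_smul := fun a b x => Subtype.ext
        (show ((a * b : Q) : G) * x * ((a * b : Q) : G)⁻¹ =
          (a : G) * ((b : G) * x * (b : G)⁻¹) * (a : G)⁻¹ by
          simp [mul_assoc]) }
  have h := hQ.card_modEq_card_fixedPoints (α := N)
  set D := (Subgroup.centralizer (Q : Set G)).subgroupOf N
  have he : Nat.card (MulAction.fixedPoints Q N) = Nat.card D := by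
    refine Nat.card_congr (Equiv.subtypeEquivRight fun x => ?_)
    show x ∈ MulAction.fixedPoints Q N ↔ (x : G) ∈ Subgroup.centralizer (Q : Set G)
    rw [MulAction.mem_fixedPoints, Subgroup.mem_centralizer_iff]
    constructor
    · intro hx a ha
      have h1 : a * (x : G) * a⁻¹ = x := congrArg Subtype.val (hx ⟨a, ha⟩)
      exact mul_inv_eq_iff_eq_mul.1 h1
    · intro hx a
      refine Subtype.ext ?_
      show (a : G) * x * (a : G)⁻¹ = x
      rw [hx a a.2, mul_inv_cancel_right]
  rw [he, ← D.card_mul_index] at h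
  have hcop : q.gcd (Nat.card D) = 1 := by
    obtain ⟨k, hk⟩ := IsPGroup.iff_card.1 (hN.to_subgroup D)
    rw [hk]
    exact Nat.Coprime.pow_right k ((Nat.coprime_primes hq.out Fact.out).2 hpq.symm)
  exact Nat.ModEq.cancel_left_of_coprime (c := Nat.card D) hcop (by rw [mul_one]; exact h)

theorem relIndex_centralizer_factors [Finite G] {p : ℕ} [hp : Fact p.Prime] (n : ℕ) :
    ∀ H N : Subgroup G, Nat.card H = n → Group.IsSolvable H → IsPGroup p N → ¬ p ∣ Nat.card H →
      H ≤ Subgroup.normalizer (N : Set G) →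
      ∃ l : List ℕ, (Subgroup.centralizer (H : Set G)).relIndex N = l.prod ∧
        ∀ f ∈ l, (∃ e, f = p ^ e) ∧ f ∣ Nat.card N ∧
          ∃ q : ℕ, q.Prime ∧ q ∣ Nat.card H ∧ f ≡ 1 [MOD q] := by
  induction n using Nat.strongRecOn with
  | _ n ih =>
    intro H N hn hs hNp hpH hHN
    rcases eq_or_ne H ⊥ with rfl | hH
    · refine ⟨[], ?_, by simp⟩
      rw [List.prod_nil, Subgroup.relIndex_eq_one]
      intro x _
      rw [Subgroup.mem_centralizer_iff]
      intro a ha
      rw [SetLike.mem_coe, Subgroup.mem_bot] at ha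
      rw [ha, one_mul, mul_one]
    subst hn
    have : Nontrivial H := (Subgroup.nontrivial_iff_ne_bot H).2 hH
    -- a maximal subgroup above the derived subgroup is normal of prime index
    have hder : commutator H ≠ ⊤ := (Group.IsSolvable.commutator_lt_top_of_nontrivial (G := H)).ne
    obtain ⟨M, hM, hle⟩ := ((eq_top_or_exists_le_coatom (commutator H))).resolve_left hder
    have hMn : M.Normal := Subgroup.Normal.of_commutator_le _ hle
    have : IsSimpleGroup (H ⧸ M) := by
      have : Nontrivial (H ⧸ M) := QuotientGroup.nontrivial_iff.2 hM.1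
      refine ⟨fun X _ => ?_⟩
      have h1 : M ≤ X.comap (QuotientGroup.mk' M) := QuotientGroup.le_comap_mk' M X
      rcases eq_or_lt_of_le h1 with h | h
      · left
        rw [← Subgroup.map_comap_eq_self_of_surjective (QuotientGroup.mk'_surjective M) X, ← h]
        exact (Subgroup.map_eq_bot_iff M).2 (QuotientGroup.ker_mk' M).ge
      · right
        rw [← Subgroup.map_comap_eq_self_of_surjective (QuotientGroup.mk'_surjective M) X, hM.2 _ h,
          Subgroup.map_top_of_surjective _ (QuotientGroup.mk'_surjective M)]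
    let _ : CommGroup (H ⧸ M) :=
      { mul_comm := fun a b => by
          obtain ⟨a, rfl⟩ := QuotientGroup.mk'_surjective M a
          obtain ⟨b, rfl⟩ := QuotientGroup.mk'_surjective M b
          rw [← map_mul, ← map_mul, QuotientGroup.mk'_eq_mk']
          refine ⟨(a * b)⁻¹ * (b * a), hle ?_, mul_inv_cancel_left _ _⟩
          have := Subgroup.commutator_mem_commutator (Subgroup.mem_top b⁻¹) (Subgroup.mem_top a⁻¹)
            (H₁ := (⊤ : Subgroup H)) (H₂ := (⊤ : Subgroup H))
          rw [← commutator_def] at this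
          simpa [commutatorElement_def, mul_assoc] using this }
    have hq : M.index.Prime := IsSimpleGroup.prime_card
    set q := M.index
    have := Fact.mk hq
    have hqH : q ∣ Nat.card H := M.index_dvd_card
    obtain ⟨S⟩ := (inferInstance : Nonempty (Sylow q H))
    have hsup : M ⊔ (S : Subgroup H) = ⊤ := by
      rw [← Subgroup.index_eq_one]
      have h1 : (M ⊔ (S : Subgroup H)).index ∣ q := Subgroup.index_dvd_of_le le_sup_left
      rcases (Nat.dvd_prime hq).1 h1 with h | h
      · exact h
      · have h2 := Subgroup.index_dvd_of_le (le_sup_right : (S : Subgroup H) ≤ M ⊔ S)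
        rw [h] at h2
        exact absurd h2 S.not_dvd_index
    set H0 := M.map H.subtype
    set Q := (S : Subgroup H).map H.subtype
    have hH0H : H0 ≤ H := Subgroup.map_subtype_le M
    have hQH : Q ≤ H := Subgroup.map_subtype_le _
    have hHsup : H0 ⊔ Q = H := by
      rw [← Subgroup.map_sup, hsup, ← MonoidHom.range_eq_map, Subgroup.range_subtype]
    have hlt : Nat.card H0 < Nat.card H := by
      rw [Subgroup.card_map_of_injective H.subtype_injective]
      exact card_lt_of_ne_top hM.1
    obtain ⟨l, hl, hgood⟩ := ih _ hlt H0 N rfl (isSolvable_of_le hH0H) hNp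
      (fun h => hpH (h.trans (Subgroup.card_dvd_of_le hH0H))) (hH0H.trans hHN)
    set N0 := N ⊓ Subgroup.centralizer (H0 : Set G)
    have hnorm : H ≤ Subgroup.normalizer (H0 : Set G) := fun a ha =>
      Subgroup.le_normalizer_map H.subtype ⟨⟨a, ha⟩, by
        rw [Subgroup.normalizer_eq_top_iff.2 hMn]; trivial, rfl⟩
    have hHN0 : H ≤ Subgroup.normalizer (N0 : Set G) := by
      intro a ha
      rw [mem_normalizer_iff_conj, Subgroup.smul_inf, mem_normalizer_iff_conj.1 (hHN ha)]
      congr 1
      ext x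
      rw [mem_conj_iff, Subgroup.mem_centralizer_iff, Subgroup.mem_centralizer_iff]
      constructor
      · intro hx b hb
        have hb' : a⁻¹ * b * a ∈ (H0 : Set G) := by
          have := (Subgroup.mem_normalizer_iff.1 (inv_mem (hnorm ha)) b).1 hb
          rwa [inv_inv] at this
        have h1 := congrArg (fun y => a * y * a⁻¹) (hx _ hb')
        simp only [mul_assoc, mul_inv_cancel_left, mul_inv_cancel, mul_one] at h1
        exact h1
      · intro hx b hb
        have h1 := hx _ ((Subgroup.mem_normalizer_iff.1 (hnorm ha) b).1 hb)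
        have h2 := congrArg (fun y => a⁻¹ * y * a) h1
        simp only [mul_assoc, inv_mul_cancel_left, inv_mul_cancel, mul_one] at h2
        simp only [mul_assoc]
        exact h2
    have hN0p : IsPGroup p N0 := hNp.to_le inf_le_left
    have hqp : p ≠ q := fun e => hpH (e ▸ hqH)
    have hmod := relIndex_centralizer_modEq hqp (S.2.map H.subtype) hN0p (hQH.trans hHN0)
    have hr2 : (Subgroup.centralizer (Q : Set G)).relIndex N0 ∣ Nat.card N0 :=
      Subgroup.relIndex_dvd_card _ _
    refine ⟨(Subgroup.centralizer (Q : Set G)).relIndex N0 :: l, ?_, ?_⟩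
    · have e : Subgroup.centralizer (H : Set G) ⊓ N = Subgroup.centralizer (Q : Set G) ⊓ N0 := by
        ext x
        simp only [N0, Subgroup.mem_inf]
        constructor
        · rintro ⟨h1, h2⟩
          exact ⟨Subgroup.centralizer_le hQH h1, h2, Subgroup.centralizer_le hH0H h1⟩
        · rintro ⟨h1, h2, h3⟩
          refine ⟨Subgroup.mem_centralizer_iff.2 fun a ha => ?_, h2⟩
          have h4 : H0 ⊔ Q ≤ Subgroup.centralizer {x} := sup_le
            (fun b hb => Subgroup.mem_centralizer_iff.2 (by
              rintro _ rfl; exact (Subgroup.mem_centralizer_iff.1 h3 b hb).symm))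
            (fun b hb => Subgroup.mem_centralizer_iff.2 (by
              rintro _ rfl; exact (Subgroup.mem_centralizer_iff.1 h1 b hb).symm))
          exact (Subgroup.mem_centralizer_iff.1 (h4 (hHsup ▸ ha)) x rfl).symm
      rw [← Subgroup.inf_relIndex_right, e, ← Subgroup.relIndex_mul_relIndex _ N0 N
        inf_le_right inf_le_left, Subgroup.inf_relIndex_right, List.prod_cons, ← hl]
      congr 1
      rw [show N0 = Subgroup.centralizer (H0 : Set G) ⊓ N from inf_comm _ _,
        Subgroup.inf_relIndex_right]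
    · intro f hf
      rcases List.mem_cons.1 hf with rfl | hf
      · obtain ⟨k, hk⟩ := IsPGroup.iff_card.1 hN0p
        obtain ⟨e, -, he⟩ := (Nat.dvd_prime_pow hp.out).1 (hk ▸ hr2)
        exact ⟨⟨e, he⟩, hr2.trans (Subgroup.card_dvd_of_le inf_le_left), q, hq, hqH, hmod⟩
      · obtain ⟨h1, h2, r, hr, hr2', hr3⟩ := hgood f hf
        exact ⟨h1, h2, r, hr, hr2'.trans (Subgroup.card_dvd_of_le hH0H), hr3⟩

/-- `f` is a prime power dividing a chief factor order and `≡ 1` modulo a prime divisor of `m`. -/
def GoodFactor (G : Type u) [Group G] (m f : ℕ) : Prop :=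
  (∃ q e : ℕ, q.Prime ∧ f = q ^ e) ∧
    (∃ K L : Subgroup G, K.Normal ∧ L.Normal ∧ K < L ∧
      (∀ M : Subgroup G, M.Normal → K ≤ M → M ≤ L → M = K ∨ M = L) ∧ f ∣ K.relIndex L) ∧
    ∃ q : ℕ, q.Prime ∧ q ∣ m ∧ f ≡ 1 [MOD q]

theorem goodFactor_of_quotient {N : Subgroup G} [N.Normal] {m m' f : ℕ} (hm : m' ∣ m)
    (h : GoodFactor (G ⧸ N) m' f) : GoodFactor G m f := by
  obtain ⟨h1, ⟨K, L, hK, hL, hKL, hchief, hd⟩, q, hq, hqm, hmod⟩ := h
  have hf := QuotientGroup.mk'_surjective N
  refine ⟨h1, ⟨K.comap (QuotientGroup.mk' N), L.comap (QuotientGroup.mk' N), hK.comap _, hL.comap _,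
    (Subgroup.comap_lt_comap_of_surjective hf).2 hKL, ?_, ?_⟩, q, hq, hqm.trans hm, hmod⟩
  · intro M hM h2 h3
    have hM' : (M.map (QuotientGroup.mk' N)).Normal := hM.map _ hf
    have hker : (QuotientGroup.mk' N).ker ≤ M :=
      ((Subgroup.ker_le_comap _ K)).trans h2
    rcases hchief _ hM' (by
      rw [← Subgroup.map_comap_eq_self_of_surjective hf K]; exact Subgroup.map_mono h2)
      (Subgroup.map_le_iff_le_comap.2 h3) with h4 | h4
    · left; rw [← h4, Subgroup.comap_map_eq_self hker]
    · right; rw [← h4, Subgroup.comap_map_eq_self hker]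
  · rwa [Subgroup.relIndex_comap, Subgroup.map_comap_eq_self_of_surjective hf]

theorem index_normalizer_hall_factors (n : ℕ) : ∀ (G : Type u) [Group G] [Finite G]
    [Group.IsSolvable G] (π : Set ℕ) (H : Subgroup G), Nat.card G ≤ n → Cfsg.IsPiHall π H →
      ∃ l : List ℕ, (Subgroup.normalizer (H : Set G)).index = l.prod ∧
        ∀ f ∈ l, GoodFactor G (Nat.card H) f := by
  induction n with
  | zero => intro G _ _ _ π H h; exact absurd h (not_le.2 Nat.card_pos)
  | succ n ih =>
    intro G _ _ _ π H hn hH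
    rcases subsingleton_or_nontrivial G with hsub | hnt
    · exact ⟨[], by rw [List.prod_nil, Subgroup.index_eq_one]; exact Subsingleton.elim _ _,
        by simp⟩
    obtain ⟨p, hp, N, hNn, hN0, -, -, hNp, -, hmin⟩ :=
      exists_minimal_normal_pGroup (N := (⊤ : Subgroup G)) top_ne_bot
    have := Fact.mk hp
    set f := QuotientGroup.mk' N
    have hf : Function.Surjective f := QuotientGroup.mk'_surjective N
    obtain ⟨l, hl, hgood⟩ := ih (G ⧸ N) π (H.map f)
      (by have := card_quotient_lt hN0; omega) (isPiHall_map hH hf)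
    have hgood' : ∀ x ∈ l, GoodFactor G (Nat.card H) x := fun x hx =>
      goodFactor_of_quotient (Subgroup.card_map_dvd H f) (hgood x hx)
    set NH := Subgroup.normalizer (H : Set G)
    set M := (Subgroup.normalizer ((H.map f : Subgroup (G ⧸ N)) : Set (G ⧸ N))).comap f with hMdef
    have hMindex : M.index = l.prod := by rw [hMdef, Subgroup.index_comap_of_surjective _ hf, hl]
    have hM : M = NH ⊔ N := by
      rw [hMdef, Subgroup.comap_normalizer_eq_of_surjective _ hf, Subgroup.comap_map_eq,
        QuotientGroup.ker_mk']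
      refine le_antisymm (fun g hg => ?_) (sup_le ?_ (le_sup_right.trans Subgroup.le_normalizer))
      · rw [mem_normalizer_iff_conj] at hg
        obtain ⟨x, hx, hxH⟩ := exists_conj_of_isPiHall_le (L := H ⊔ N) hH (isPiHall_conj hH g)
          le_sup_left ((conj_mono g le_sup_left).trans hg.le)
        have h1 : x⁻¹ * g ∈ NH := by
          rw [mem_normalizer_iff_conj, ← conj_conj, ← hxH, conj_inv_smul]
        have h2 := mul_mem ((sup_le_sup_right Subgroup.le_normalizer N : H ⊔ N ≤ NH ⊔ N) hx)
          (Subgroup.mem_sup_left (T := N) h1)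
        rwa [mul_inv_cancel_left] at h2
      · intro g hg
        rw [mem_normalizer_iff_conj, Subgroup.smul_sup, mem_normalizer_iff_conj.1 hg, conj_normal]
    have hidx : NH.index = NH.relIndex N * l.prod := by
      rw [← hMindex, ← relIndex_sup_of_normal, ← hM, Subgroup.relIndex_mul_index]
      exact hM ▸ le_sup_left
    by_cases hpπ : p ∈ π
    · refine ⟨l, ?_, hgood'⟩
      rw [hidx, Subgroup.relIndex_eq_one.2 ((le_of_isPiHall_of_normal hH
        (isPiNum_of_isPGroup hNp hpπ)).trans Subgroup.le_normalizer), one_mul]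
    · have hpH : ¬ p ∣ Nat.card H := fun hd => hpπ (hH.1 p hp hd)
      obtain ⟨l', hl', hgood2⟩ := relIndex_centralizer_factors (Nat.card H) H N rfl inferInstance
        hNp hpH (by rw [Subgroup.normalizer_eq_top_iff.2 hNn]; exact le_top)
      have e : Subgroup.centralizer (H : Set G) ⊓ N = NH ⊓ N := by
        refine le_antisymm (inf_le_inf_right N (Subgroup.centralizer_le_normalizer _)) ?_
        rintro x ⟨hx1, hx2⟩
        refine Subgroup.mem_inf.2 ⟨Subgroup.mem_centralizer_iff.2 fun h hh => ?_, hx2⟩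
        have hHN : H ⊓ N = ⊥ := inf_eq_bot_of_coprime (by
          obtain ⟨k, hk⟩ := IsPGroup.iff_card.1 hNp
          rw [hk]
          exact (Nat.Coprime.pow_right _ ((Nat.Prime.coprime_iff_not_dvd hp).2 hpH).symm))
        have h1 : x * h * x⁻¹ * h⁻¹ ∈ H ⊓ N := by
          refine Subgroup.mem_inf.2 ⟨mul_mem ((Subgroup.mem_normalizer_iff.1 hx1 h).1 hh)
            (inv_mem hh), ?_⟩
          have := mul_mem hx2 (hNn.conj_mem _ (inv_mem hx2) h)
          simpa [mul_assoc] using this
        rw [hHN, Subgroup.mem_bot, mul_inv_eq_one, mul_inv_eq_iff_eq_mul] at h1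
        exact h1.symm
      refine ⟨l' ++ l, ?_, ?_⟩
      · rw [hidx, List.prod_append, ← hl', ← Subgroup.inf_relIndex_right NH N, ← e,
          Subgroup.inf_relIndex_right]
      · intro x hx
        rcases List.mem_append.1 hx with hx | hx
        · obtain ⟨⟨e', he'⟩, hd, hq⟩ := hgood2 x hx
          exact ⟨⟨p, e', hp, he'⟩, ⟨⊥, N, inferInstance, hNn, bot_lt_iff_ne_bot.2 hN0,
            fun K hK _ hK2 => hmin K hK hK2, by rw [Subgroup.relIndex_bot_left]; exact hd⟩, hq⟩
        · exact hgood' x hx

theorem card_conjugates (H : Subgroup G) :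
    Nat.card {K : Subgroup G // ∃ g : G, MulAut.conj g • H = K} =
      (Subgroup.normalizer (H : Set G)).index := by
  let _ : MulAction G (Subgroup G) := MulAction.compHom _ (MulAut.conj : G →* MulAut G)
  have h := MulAction.index_stabilizer G H
  have e : MulAction.stabilizer G H = Subgroup.normalizer (H : Set G) :=
    Subgroup.ext fun g => MulAction.mem_stabilizer_iff.trans mem_normalizer_iff_conj.symm
  rw [e] at h
  rw [h]
  rfl

theorem card_hall_eq_prod [Finite G] [Group.IsSolvable G] {m n : ℕ} (hG : Nat.card G = m * n)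
    (hmn : m.Coprime n) :
    ∃ l : List ℕ, Nat.card {H : Subgroup G // Nat.card H = m} = l.prod ∧
      ∀ f ∈ l, GoodFactor G m f := by
  obtain ⟨H, hH⟩ := exists_card_eq_of_solvable hG hmn
  obtain ⟨l, hl, hgood⟩ := index_normalizer_hall_factors (Nat.card G) G _ H le_rfl
    ((isPiHall_primeFactors_iff hG hmn).2 hH)
  refine ⟨l, ?_, hH ▸ hgood⟩
  rw [← hl, ← card_conjugates]
  refine Nat.card_congr (Equiv.subtypeEquivRight fun K => ⟨fun hK => ?_, ?_⟩)
  · exact conj_of_card_eq_of_solvable hG hmn hH hK
  · rintro ⟨g, rfl⟩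
    rw [card_conj, hH]

end Cfsg.Agent.Solvable
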