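import Cfsg.Agent.Lib.Solvable.PiSeparable
import Cfsg.Agent.Lib.Solvable.SchurZassenhaus
import Cfsg.Agent.Lib.Solvable.SylowSystem

/-!
# p-separable groups whose maximal subgroups are p-nilpotent or of prime index (owner: helper2)

* `PChain p G`: normal series with factors p', p, p', p; `pChain_of_maximal`
-/

open Pointwise

namespace Cfsg.Agent.Solvable

universe u

variable {G : Type u} [Group G]

/-- A normal series with factors of type p', p, p', p. -/
def PChain (p : ℕ) (G : Type u) [Group G] : Prop :=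
  ∃ A B C : Subgroup G, A.Normal ∧ B.Normal ∧ C.Normal ∧ A ≤ B ∧ B ≤ C ∧
    IsPiNum {p}ᶜ (Nat.card A) ∧ IsPiNum {p} (A.relIndex B) ∧ IsPiNum {p}ᶜ (B.relIndex C) ∧
    IsPiNum {p} C.index

theorem relIndex_comap_mk' (N : Subgroup G) [N.Normal] (X Y : Subgroup (G ⧸ N)) :
    (X.comap (QuotientGroup.mk' N)).relIndex (Y.comap (QuotientGroup.mk' N)) = X.relIndex Y := by
  rw [Subgroup.relIndex_comap, Subgroup.map_comap_eq_self_of_surjective (QuotientGroup.mk'_surjective N)]

theorem pChain_of_normal_pPrime [Finite G] {p : ℕ} {N : Subgroup G} [N.Normal]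
    (hN : IsPiNum {p}ᶜ (Nat.card N)) (h : PChain p (G ⧸ N)) : PChain p G := by
  obtain ⟨A, B, C, hA, hB, hC, hAB, hBC, h1, h2, h3, h4⟩ := h
  refine ⟨_, _, _, hA.comap (QuotientGroup.mk' N), hB.comap _, hC.comap _, Subgroup.comap_mono hAB,
    Subgroup.comap_mono hBC, ?_, ?_, ?_, ?_⟩
  · rw [card_eq_card_map_mul (QuotientGroup.mk' N),
      Subgroup.map_comap_eq_self_of_surjective (QuotientGroup.mk'_surjective N), QuotientGroup.ker_mk',
      inf_eq_right.2 (QuotientGroup.le_comap_mk' N A)]
    exact h1.mul hN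
  · rwa [relIndex_comap_mk']
  · rwa [relIndex_comap_mk']
  · rwa [Subgroup.index_comap_of_surjective _ (QuotientGroup.mk'_surjective N)]

theorem inf_relIndex_inf_dvd (X₁ X₂ Y₁ Y₂ : Subgroup G) [X₁.Normal] [X₂.Normal] :
    (X₁ ⊓ X₂).relIndex (Y₁ ⊓ Y₂) ∣ X₁.relIndex Y₁ * X₂.relIndex Y₂ := by
  have h := Subgroup.relIndex_mul_relIndex ((X₁ ⊓ X₂) ⊓ (Y₁ ⊓ Y₂)) (X₁ ⊓ (Y₁ ⊓ Y₂)) (Y₁ ⊓ Y₂)
    (inf_le_inf_right _ inf_le_left) inf_le_right
  rw [Subgroup.inf_relIndex_right, Subgroup.inf_relIndex_right] at h
  have e : X₁ ⊓ X₂ ⊓ (Y₁ ⊓ Y₂) = X₂ ⊓ (X₁ ⊓ (Y₁ ⊓ Y₂)) := by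
    rw [inf_comm X₁ X₂, inf_assoc]
  rw [e, Subgroup.inf_relIndex_right] at h
  rw [← h, mul_comm (X₁.relIndex Y₁)]
  exact mul_dvd_mul (relIndex_dvd_relIndex_of_normal (inf_le_right.trans inf_le_right))
    (relIndex_dvd_relIndex_of_normal inf_le_left)

theorem pChain_of_two [Finite G] {p : ℕ} {N M : Subgroup G} [N.Normal] [M.Normal]
    (hd : N ⊓ M = ⊥) (hN : PChain p (G ⧸ N)) (hM : PChain p (G ⧸ M)) : PChain p G := by
  obtain ⟨A, B, C, hA, hB, hC, hAB, hBC, h1, h2, h3, h4⟩ := hN
  obtain ⟨A', B', C', hA', hB', hC', hAB', hBC', h1', h2', h3', h4'⟩ := hM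
  set f := QuotientGroup.mk' N
  set g := QuotientGroup.mk' M
  have := hA.comap f
  have := hB.comap f
  have := hC.comap f
  have := hA'.comap g
  have := hB'.comap g
  have := hC'.comap g
  refine ⟨A.comap f ⊓ A'.comap g, B.comap f ⊓ B'.comap g, C.comap f ⊓ C'.comap g, inferInstance,
    inferInstance, inferInstance, inf_le_inf (Subgroup.comap_mono hAB) (Subgroup.comap_mono hAB'),
    inf_le_inf (Subgroup.comap_mono hBC) (Subgroup.comap_mono hBC'), ?_, ?_, ?_, ?_⟩
  · have e : (⊥ : Subgroup (G ⧸ N)).comap f ⊓ (⊥ : Subgroup (G ⧸ M)).comap g = ⊥ := by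
      rw [MonoidHom.comap_bot, MonoidHom.comap_bot, QuotientGroup.ker_mk', QuotientGroup.ker_mk', hd]
    rw [← Subgroup.relIndex_bot_left, ← e]
    refine IsPiNum.of_dvd ?_ (inf_relIndex_inf_dvd _ _ _ _)
    rw [relIndex_comap_mk', relIndex_comap_mk', Subgroup.relIndex_bot_left, Subgroup.relIndex_bot_left]
    exact h1.mul h1'
  · refine IsPiNum.of_dvd ?_ (inf_relIndex_inf_dvd _ _ _ _)
    rw [relIndex_comap_mk', relIndex_comap_mk']
    exact h2.mul h2'
  · refine IsPiNum.of_dvd ?_ (inf_relIndex_inf_dvd _ _ _ _)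
    rw [relIndex_comap_mk', relIndex_comap_mk']
    exact h3.mul h3'
  · rw [← Subgroup.relIndex_top_right, ← inf_idem (⊤ : Subgroup G)]
    refine IsPiNum.of_dvd ?_ (inf_relIndex_inf_dvd _ _ _ _)
    rw [Subgroup.relIndex_top_right, Subgroup.relIndex_top_right,
      Subgroup.index_comap_of_surjective _ (QuotientGroup.mk'_surjective N),
      Subgroup.index_comap_of_surjective _ (QuotientGroup.mk'_surjective M)]
    exact h4.mul h4'

/-- Every maximal subgroup is `p`-nilpotent or has prime index. -/
def MaxHyp (p : ℕ) (G : Type u) [Group G] : Prop :=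
  ∀ M : Subgroup G, IsCoatom M → (∃ K : Subgroup M, K.Normal ∧ IsPiNum {p}ᶜ (Nat.card K) ∧
    IsPiNum {p} K.index) ∨ M.index.Prime

theorem maxHyp_quotient [Finite G] {p : ℕ} (h : MaxHyp p G) (N : Subgroup G) [N.Normal] :
    MaxHyp p (G ⧸ N) := by
  intro Q hQ
  set f := QuotientGroup.mk' N
  have hfs := QuotientGroup.mk'_surjective N
  have hco : IsCoatom (Q.comap f) := Subgroup.isCoatom_comap_of_surjective hfs hQ
  rcases h _ hco with ⟨K, hKn, hK1, hK2⟩ | hp
  · left
    let φ : Q.comap f →* Q := (f.comp (Q.comap f).subtype).codRestrict Q fun x => x.2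
    have hφ : Function.Surjective φ := fun y => by
      obtain ⟨x, hx⟩ := hfs y
      exact ⟨⟨x, show f x ∈ Q by rw [hx]; exact y.2⟩, Subtype.ext hx⟩
    exact ⟨K.map φ, hKn.map φ hφ, hK1.of_dvd (Subgroup.card_map_dvd K φ),
      hK2.of_dvd (Subgroup.index_map_dvd K hφ)⟩
  · right
    rwa [Subgroup.index_comap_of_surjective _ hfs] at hp

theorem pChain_of_maximal_aux {p : ℕ} (hp : p.Prime) (n : ℕ) : ∀ (G : Type u) [Group G] [Finite G],
    Nat.card G ≤ n → IsPiSeparable {p} G → MaxHyp p G → PChain p G := by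
  induction n with
  | zero => intro G _ _ h; exact absurd h (not_le.2 Nat.card_pos)
  | succ n ih =>
    intro G _ _ hn hsep hmax
    have := Fact.mk hp
    rcases subsingleton_or_nontrivial G with hsub | hnt
    · refine ⟨⊥, ⊥, ⊥, inferInstance, inferInstance, inferInstance, le_rfl, le_rfl, ?_, ?_, ?_, ?_⟩
      · rw [Subgroup.card_bot]; exact isPiNum_one
      · rw [Subgroup.relIndex_self]; exact isPiNum_one
      · rw [Subgroup.relIndex_self]; exact isPiNum_one
      · rw [Subgroup.index_bot, Nat.card_of_subsingleton (1 : G)]; exact isPiNum_one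
    have hq : ∀ (N : Subgroup G) [N.Normal], N ≠ ⊥ → PChain p (G ⧸ N) := fun N _ hN =>
      ih (G ⧸ N) (by have := card_quotient_lt hN; omega) (hsep.quotient N) (maxHyp_quotient hmax N)
    by_cases hp' : ∃ N : Subgroup G, N.Normal ∧ N ≠ ⊥ ∧ IsPiNum {p}ᶜ (Nat.card N)
    · obtain ⟨N, hNn, hN0, hNp⟩ := hp'
      exact pChain_of_normal_pPrime hNp (hq N hN0)
    push Not at hp'
    obtain ⟨N0, hN0n, hN00, hN0p⟩ := hsep.exists_normal_ne_bot
    obtain ⟨N, hNn, hN0, hNle, hmin⟩ := exists_minimal_normal hN00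
    have hNnum : IsPiNum {p} (Nat.card N) := by
      rcases hN0p with h | h
      · exact h.of_dvd (Subgroup.card_dvd_of_le hNle)
      · exact absurd h (hp' N0 hN0n hN00)
    obtain ⟨k, hk⟩ := (isPiNum_singleton_iff Nat.card_pos.ne' hp).1 hNnum
    have hNp : IsPGroup p N := IsPGroup.of_card hk
    have hNs : Group.IsSolvable N := isSolvable_of_isPGroup hNp
    obtain ⟨hNc, -, -, -, -⟩ := elementaryAbelian_of_minimal_normal N hN0 hmin
    by_cases hfr : ∀ M : Subgroup G, IsCoatom M → N ≤ M
    · -- `N` is in the Frattini subgroup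
      obtain ⟨A, B, C, hA, hB, hC, hAB, hBC, h1, h2, h3, h4⟩ := hq N hN0
      set f := QuotientGroup.mk' N
      have hfs := QuotientGroup.mk'_surjective N
      have hNA : N ≤ A.comap f := QuotientGroup.le_comap_mk' N A
      have hcA : Nat.card (A.comap f) = Nat.card A * Nat.card N := by
        rw [card_eq_card_map_mul f, Subgroup.map_comap_eq_self_of_surjective hfs,
          QuotientGroup.ker_mk', inf_eq_right.2 hNA]
      have hA0 : A = ⊥ := by
        have := hA.comap f
        set A1 := A.comap f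
        have hidx : (N.subgroupOf A1).index = Nat.card A := by
          have h := (N.subgroupOf A1).card_mul_index
          rw [Nat.card_congr (Subgroup.subgroupOfEquivOfLe hNA).toEquiv, hcA, mul_comm] at h
          exact Nat.eq_of_mul_eq_mul_right Nat.card_pos h
        obtain ⟨T', hT'⟩ := Subgroup.exists_right_complement'_of_coprime (N := N.subgroupOf A1)
          (by rw [Nat.card_congr (Subgroup.subgroupOfEquivOfLe hNA).toEquiv, hidx]
              exact hNnum.coprime h1)
        set T := T'.map A1.subtype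
        have hTc : Nat.card T = Nat.card A := by
          rw [Subgroup.card_map_of_injective A1.subtype_injective, ← hT'.symm.index_eq_card, hidx]
        have hTN : T ⊔ N = A1 := by
          refine le_antisymm (sup_le (Subgroup.map_subtype_le T') hNA) fun x hx => ?_
          obtain ⟨a, ha, t, ht, hat⟩ := Subgroup.mem_sup_of_normal_left.1
            (show (⟨x, hx⟩ : A1) ∈ N.subgroupOf A1 ⊔ T' from hT'.sup_eq_top ▸ Subgroup.mem_top _)
          rw [sup_comm]
          have hx' : (a : G) * (t : G) = x := congrArg Subtype.val hat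
          rw [← hx']
          exact mul_mem (Subgroup.mem_sup_left (Subgroup.mem_subgroupOf.1 ha))
            (Subgroup.mem_sup_right ⟨t, ht, rfl⟩)
        have hcop : (Nat.card T).Coprime (Nat.card N) := by
          rw [hTc]; exact (hNnum.coprime h1).symm
        have hTn : Subgroup.normalizer (T : Set G) = ⊤ := by
          by_contra hne
          obtain ⟨M, hM, hle⟩ := (eq_top_or_exists_le_coatom _).resolve_left hne
          refine hM.1 (eq_top_iff.2 fun g _ => ?_)
          obtain ⟨m, hm, hmT⟩ := exists_conj_of_sup_eq (Or.inl hNs) (H := T)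
            (K := MulAut.conj g • T) (N := N) (by
              rw [hTN]
              refine ((conj_normal g A1).symm.trans ?_)
              rw [← hTN, Subgroup.smul_sup, conj_normal g N]) hcop (by rw [card_conj]; exact hcop)
          have h5 : m⁻¹ * g ∈ Subgroup.normalizer (T : Set G) := by
            rw [mem_normalizer_iff_conj, ← conj_conj, ← hmT, conj_inv_smul]
          have h6 := M.mul_mem (hfr M hM hm) (hle h5)
          rwa [mul_inv_cancel_left] at h6
        have hT0 : T = ⊥ := by
          by_contra hT0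
          exact hp' T (Subgroup.normalizer_eq_top_iff.1 hTn) hT0 (hTc ▸ h1)
        exact Subgroup.eq_bot_of_card_eq A (by rw [← hTc, hT0, Subgroup.card_bot])
      refine ⟨⊥, B.comap f, C.comap f, inferInstance, hB.comap f, hC.comap f, bot_le,
        Subgroup.comap_mono hBC, ?_, ?_, ?_, ?_⟩
      · rw [Subgroup.card_bot]; exact isPiNum_one
      · rw [Subgroup.relIndex_bot_left, card_eq_card_map_mul f,
          Subgroup.map_comap_eq_self_of_surjective hfs, QuotientGroup.ker_mk',
          inf_eq_right.2 (QuotientGroup.le_comap_mk' N B)]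
        rw [hA0, Subgroup.relIndex_bot_left] at h2
        exact h2.mul hNnum
      · rwa [relIndex_comap_mk']
      · rwa [Subgroup.index_comap_of_surjective _ hfs]
    push Not at hfr
    obtain ⟨M, hM, hNM⟩ := hfr
    have hsup : M ⊔ N = ⊤ := hM.2 _ (left_lt_sup.2 hNM)
    have hinf : N ⊓ M = ⊥ := by
      have hn' : (N ⊓ M).Normal := by
        refine ⟨fun x hx g => ?_⟩
        obtain ⟨m, hm, a, ha, rfl⟩ := Subgroup.mem_sup_of_normal_right.1
          (show g ∈ M ⊔ N from hsup ▸ Subgroup.mem_top g)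
        have e : m * a * x * (m * a)⁻¹ = m * x * m⁻¹ := by
          have hax : a * x * a⁻¹ = x := by
            have := congrArg Subtype.val (hNc.1.1 (⟨a, ha⟩ : N) ⟨x, hx.1⟩)
            simp only [Subgroup.coe_mul] at this
            rw [this, mul_inv_cancel_right]
          calc m * a * x * (m * a)⁻¹ = m * (a * x * a⁻¹) * m⁻¹ := by group
            _ = _ := by rw [hax]
        rw [e]
        exact Subgroup.mem_inf.2 ⟨hNn.conj_mem x hx.1 m, M.mul_mem (M.mul_mem hm hx.2) (M.inv_mem hm)⟩
      rcases hmin _ hn' inf_le_left with e | e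
      · exact e
      · exact absurd (inf_eq_left.1 e) hNM
    have hcomp : Subgroup.IsComplement' N M :=
      Subgroup.isComplement'_of_disjoint_and_mul_eq_univ (disjoint_iff.2 hinf) (by
        rw [← Subgroup.normal_mul, sup_comm, hsup, Subgroup.coe_top])
    rcases hmax M hM with ⟨K, hKn, hK1, hK2⟩ | hprime
    · set K' := K.map M.subtype
      have hK'M : M ≤ Subgroup.normalizer (K' : Set G) := fun a ha =>
        Subgroup.le_normalizer_map M.subtype ⟨⟨a, ha⟩, by
          rw [Subgroup.normalizer_eq_top_iff.2 hKn]; trivial, rfl⟩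
      have hCn : (K' ⊔ N).Normal := by
        rw [← Subgroup.normalizer_eq_top_iff, eq_top_iff, ← hsup]
        refine sup_le (fun m hm => ?_) (le_sup_right.trans Subgroup.le_normalizer)
        rw [mem_normalizer_iff_conj, Subgroup.smul_sup, mem_normalizer_iff_conj.1 (hK'M hm),
          conj_normal]
      refine ⟨⊥, N, K' ⊔ N, inferInstance, hNn, hCn, bot_le, le_sup_right, ?_, ?_, ?_, ?_⟩
      · rw [Subgroup.card_bot]; exact isPiNum_one
      · rw [Subgroup.relIndex_bot_left]; exact hNnum
      · rw [Subgroup.relIndex_sup_right]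
        refine IsPiNum.of_dvd ?_ (Subgroup.relIndex_dvd_card _ _)
        rwa [Subgroup.card_map_of_injective M.subtype_injective]
      · have e : (K' ⊔ N).index = (K' ⊔ N).relIndex M := by
          rw [← Subgroup.relIndex_top_right, ← hsup]
          conv_lhs => rw [show M ⊔ N = M ⊔ (K' ⊔ N) by
            rw [← sup_assoc, sup_eq_left.2 (Subgroup.map_subtype_le K)]]
          rw [Subgroup.relIndex_sup_right]
        rw [e]
        refine IsPiNum.of_dvd hK2 ?_
        have h5 := Subgroup.relIndex_dvd_of_le_left M (le_sup_left : K' ≤ K' ⊔ N)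
        have e2 : K'.relIndex M = K.index := by
          show (K'.comap M.subtype).index = _
          rw [Subgroup.comap_map_eq_self_of_injective M.subtype_injective]
        rwa [e2] at h5
    -- prime index
    have hcN : Nat.card N = p := by
      rw [← hcomp.index_eq_card, ]
      rcases (Nat.dvd_prime_pow hp).1 (hk ▸ hcomp.index_eq_card.dvd) with ⟨i, -, hi⟩
      rw [hi] at hprime ⊢
      rw [hprime.eq_one_of_pow, pow_one]
    set Z := M ⊓ Subgroup.centralizer (N : Set G)
    have hZn : Z.Normal := by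
      refine ⟨fun z hz g => ?_⟩
      obtain ⟨m, hm, a, ha, rfl⟩ := Subgroup.mem_sup_of_normal_right.1
        (show g ∈ M ⊔ N from hsup ▸ Subgroup.mem_top g)
      have e : m * a * z * (m * a)⁻¹ = m * z * m⁻¹ := by
        calc m * a * z * (m * a)⁻¹ = m * (a * z * a⁻¹) * m⁻¹ := by group
          _ = _ := by rw [Subgroup.mem_centralizer_iff.1 hz.2 a ha, mul_inv_cancel_right]
      rw [e]
      exact Subgroup.mem_inf.2 ⟨M.mul_mem (M.mul_mem hm hz.1) (M.inv_mem hm),
        (inferInstance : (Subgroup.centralizer (N : Set G)).Normal).conj_mem z hz.2 m⟩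
    rcases eq_or_ne Z ⊥ with hZ | hZ
    · refine ⟨⊥, N, ⊤, inferInstance, hNn, inferInstance, bot_le, le_top, ?_, ?_, ?_, ?_⟩
      · rw [Subgroup.card_bot]; exact isPiNum_one
      · rw [Subgroup.relIndex_bot_left]; exact hNnum
      · rw [Subgroup.relIndex_top_right, hcomp.symm.index_eq_card]
        let φ : M →* MulAut N := (MulAut.conjNormal : G →* MulAut N).comp M.subtype
        have hinj : Function.Injective φ := by
          rw [injective_iff_map_eq_one]
          intro m hm
          have hmC : (m : G) ∈ Z := by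
            refine Subgroup.mem_inf.2 ⟨m.2, Subgroup.mem_centralizer_iff.2 fun a ha => ?_⟩
            have h5 := congrArg Subtype.val (DFunLike.congr_fun hm ⟨a, ha⟩)
            simp only [φ, MonoidHom.comp_apply, MulAut.conjNormal_apply, MulAut.one_apply] at h5
            rw [Subgroup.coe_subtype] at h5
            exact (mul_inv_eq_iff_eq_mul.1 h5).symm
          rw [hZ, Subgroup.mem_bot] at hmC
          exact Subtype.ext hmC
        have : IsCyclic N := isCyclic_of_prime_card hcN
        have h5 := Subgroup.card_dvd_of_injective φ hinj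
        rw [IsCyclic.card_mulAut, hcN, Nat.totient_prime hp] at h5
        rw [isPiNum_compl_singleton_iff hp]
        intro hd
        have h6 := hd.trans h5
        have := Nat.le_of_dvd (by have := hp.two_le; omega) h6
        have := hp.two_le
        omega
      · rw [Subgroup.index_top]; exact isPiNum_one
    · exact pChain_of_two (N := N) (M := Z) (le_bot_iff.1 (le_trans
        (inf_le_inf_left N inf_le_left) hinf.le)) (hq N hN0) (hq Z hZ)

theorem pChain_of_maximal [Finite G] {p : ℕ} (hp : p.Prime) (hsep : IsPiSeparable {p} G)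
    (hmax : MaxHyp p G) : PChain p G :=
  pChain_of_maximal_aux hp (Nat.card G) G le_rfl hsep hmax

end Cfsg.Agent.Solvable
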