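import Cfsg.Agent.Lib.Solvable.Fitting
import Cfsg.Agent.Lib.HallHigman.TheoremB
import Cfsg.Agent.Lib.HallHigman.FrattiniModule
import Cfsg.Agent.Lib.Coprime.Generation
import Cfsg.Agent.Lib.BaerTrick.Basic
import Cfsg.Agent.Lib.FusionChain.Stabilizer
import Cfsg.Agent.Lib.NilGroup.Basic
import Cfsg.Agent.Lib.OddOrder.PLengthCommAux
import Cfsg.Agent.S0536

/-!
# p-solvable groups with Sylow p-subgroups of minimal non-nilpotent type (owner: helper2)

* `SchmidtType p P`: the automorphism data carried by the normal Sylow subgroup of a minimal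
  non-nilpotent group;
* `le_pCore_of_schmidtType`: such a Sylow subgroup lies in `O_p` when `O_{p'} = 1`;
* `pLengthLE_one_of_schmidtType`.
-/

open scoped commutatorElement

namespace Cfsg.Agent.Solvable

universe u

/-- `P` has an automorphism of prime order `≠ p` centralizing the central subgroup `P'` and
irreducible on `P/P'`. -/
def SchmidtType (p : ℕ) (P : Type*) [Group P] : Prop :=
  ∃ (σ : MulAut P) (q : ℕ), q.Prime ∧ q ≠ p ∧ σ ^ q = 1 ∧ σ ≠ 1 ∧
    commutator P ≤ Subgroup.center P ∧ (∀ z ∈ commutator P, σ z = z) ∧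
    (∀ x : P, x ^ p ∈ commutator P) ∧
    ∀ R : Subgroup P, commutator P ≤ R → (∀ r ∈ R, σ r ∈ R) → R = commutator P ∨ R = ⊤

theorem SchmidtType.congr {p : ℕ} {P Q : Type*} [Group P] [Group Q] (e : P ≃* Q)
    (h : SchmidtType p P) : SchmidtType p Q := by
  obtain ⟨σ, q, hq, hqp, hσq, hσ, hc, hfix, hpow, hR⟩ := h
  have hmap : (commutator P).map e.toMonoidHom = commutator Q := by
    rw [commutator_def, Subgroup.map_commutator, commutator_def,
      Subgroup.map_top_of_surjective _ e.surjective]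
  have hback : ∀ z, z ∈ commutator Q → e.symm z ∈ commutator P := by
    intro z hz
    obtain ⟨y, hy, rfl⟩ := hmap.ge hz
    simpa using hy
  refine ⟨MulAut.congr e σ, q, hq, hqp, by rw [← map_pow, hσq, map_one],
    fun h => hσ ((MulAut.congr e).injective (h.trans (map_one _).symm)), fun z hz => ?_,
    fun z hz => ?_, fun x => ?_, fun R hR1 hR2 => ?_⟩
  · refine Subgroup.mem_center_iff.2 fun x => e.symm.injective ?_
    rw [map_mul, map_mul]
    exact Subgroup.mem_center_iff.1 (hc (hback z hz)) _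
  · show e (σ (e.symm z)) = z
    rw [hfix _ (hback z hz), e.apply_symm_apply]
  · exact hmap.le ⟨(e.symm x) ^ p, hpow _, by simp⟩
  · have h1 := hR (R.comap e.toMonoidHom) (fun z hz => hR1 (hmap.le ⟨z, hz, rfl⟩)) fun r hr => by
      have := hR2 (e r) hr
      change e (σ (e.symm (e r))) ∈ R at this
      rw [e.symm_apply_apply] at this
      exact this
    rw [← Subgroup.map_comap_eq_self_of_surjective (f := e.toMonoidHom) e.surjective R]
    rcases h1 with h1 | h1
    · exact Or.inl (h1 ▸ hmap)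
    · exact Or.inr (by
        show (R.comap e.toMonoidHom).map e.toMonoidHom = ⊤
        rw [h1, Subgroup.map_top_of_surjective _ e.surjective])

section Structure

variable {P : Type*} [Group P] {p : ℕ}

theorem isMulCommutative_of_sup_zpowers (hc : commutator P ≤ Subgroup.center P) {a : P}
    (h : commutator P ⊔ Subgroup.zpowers a = ⊤) : IsMulCommutative P := by
  have hca : commutator P ⊔ Subgroup.zpowers a ≤ Subgroup.centralizer {a} := by
    refine sup_le (fun z hz => Subgroup.mem_centralizer_singleton_iff.2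
      (Subgroup.mem_center_iff.1 (hc hz) a).symm) ?_
    rw [Subgroup.zpowers_le]
    exact Subgroup.mem_centralizer_singleton_iff.2 rfl
  have ha : a ∈ Subgroup.center P := Subgroup.mem_center_iff.2 fun x =>
    (Subgroup.mem_centralizer_singleton_iff.1 (hca (h ▸ Subgroup.mem_top x)))
  have htop : Subgroup.center P = ⊤ := top_le_iff.1 (h ▸ sup_le hc (Subgroup.zpowers_le.2 ha))
  exact ⟨⟨fun x y => Subgroup.mem_center_iff.1 (htop ▸ Subgroup.mem_top y) x⟩⟩

theorem normal_of_commutator_le {Y : Subgroup P} (h : commutator P ≤ Y) : Y.Normal :=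
  ⟨fun y hy g => by
    have : ⁅g, y⁆ ∈ Y := h (Subgroup.commutator_mem_commutator trivial trivial)
    have := mul_mem this hy
    rwa [commutatorElement_def, inv_mul_cancel_right] at this⟩

variable [Finite P] [Fact p.Prime]

theorem card_commutator_of_index_sq (hP : IsPGroup p P) (hnc : ¬ IsMulCommutative P)
    (hc : commutator P ≤ Subgroup.center P) (hpow : ∀ x : P, x ^ p ∈ commutator P)
    (hidx : (commutator P).index = p ^ 2) : Nat.card (commutator P) = p := by
  have hp := (Fact.out : p.Prime)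
  obtain ⟨a, ha⟩ : ∃ a, a ∉ commutator P := by
    by_contra h
    push Not at h
    exact hnc ⟨⟨fun x y => Subgroup.mem_center_iff.1 (hc (h y)) x⟩⟩
  set R := commutator P ⊔ Subgroup.zpowers a
  obtain ⟨b, hb⟩ : ∃ b, b ∉ R := by
    by_contra h
    push Not at h
    exact hnc (isMulCommutative_of_sup_zpowers hc (Subgroup.eq_top_iff' _ |>.2 h))
  have htop : R ⊔ Subgroup.zpowers b = ⊤ := by
    have h1 : commutator P < R := lt_of_le_of_ne le_sup_left fun e =>
      ha (e ▸ Subgroup.mem_sup_right (Subgroup.mem_zpowers a))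
    have h2 : R < R ⊔ Subgroup.zpowers b := lt_of_le_of_ne le_sup_left fun e =>
      hb (e ▸ Subgroup.mem_sup_right (Subgroup.mem_zpowers b))
    refine Subgroup.index_eq_one.1 ?_
    have i1 := Subgroup.index_dvd_of_le h1.le
    have i2 := Subgroup.index_dvd_of_le h2.le
    have j1 := Subgroup.index_strictAnti h1
    have j2 := Subgroup.index_strictAnti h2
    rw [hidx] at i1 j1
    obtain ⟨k, hk, e⟩ := (Nat.dvd_prime_pow hp).1 i1
    rw [e] at j1 j2 i2
    obtain ⟨l, hl, e'⟩ := (Nat.dvd_prime_pow hp).1 i2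
    rw [e'] at j2 ⊢
    have := (Nat.pow_lt_pow_iff_right hp.one_lt).1 j1
    have := (Nat.pow_lt_pow_iff_right hp.one_lt).1 j2
    rw [show l = 0 by omega, pow_zero]
  set z := ⁅a, b⁆
  have hzP : z ∈ commutator P := Subgroup.commutator_mem_commutator trivial trivial
  have : (Subgroup.zpowers z).Normal := ⟨fun n hn g => by
    have hn' : n ∈ commutator P := (Subgroup.zpowers_le.2 hzP) hn
    rwa [Subgroup.mem_center_iff.1 (hc hn') g, mul_inv_cancel_right]⟩
  set f := QuotientGroup.mk' (Subgroup.zpowers z)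
  have hab : f a * f b = f b * f a := by
    have h1 : f z = 1 := (QuotientGroup.eq_one_iff z).2 (Subgroup.mem_zpowers z)
    rw [map_commutatorElement] at h1
    exact commutatorElement_eq_one_iff_mul_comm.1 h1
  have hcen : ∀ x, f x ∈ Subgroup.center (P ⧸ Subgroup.zpowers z) := by
    have key : ∀ c : P, (∀ d ∈ ({a, b} : Set P), f d * f c = f c * f d) →
        f c ∈ Subgroup.center (P ⧸ Subgroup.zpowers z) := by
      intro c hcd
      refine Subgroup.mem_center_iff.2 fun y => ?_
      obtain ⟨y, rfl⟩ := QuotientGroup.mk'_surjective _ y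
      have hle : R ⊔ Subgroup.zpowers b ≤ (Subgroup.centralizer {f c}).comap f := by
        refine sup_le (sup_le (fun w hw => ?_) ?_) ?_
        · refine Subgroup.mem_centralizer_singleton_iff.2 ?_
          rw [← map_mul, ← map_mul, Subgroup.mem_center_iff.1 (hc hw) c]
        · exact Subgroup.zpowers_le.2 (Subgroup.mem_centralizer_singleton_iff.2
            (hcd a (Set.mem_insert _ _)))
        · exact Subgroup.zpowers_le.2 (Subgroup.mem_centralizer_singleton_iff.2
            (hcd b (Set.mem_insert_of_mem _ rfl)))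
      exact Subgroup.mem_centralizer_singleton_iff.1 (hle (htop ▸ Subgroup.mem_top y))
    have hca : f a ∈ Subgroup.center (P ⧸ Subgroup.zpowers z) := key a (by
      rintro d (rfl | rfl)
      · rfl
      · exact hab.symm)
    have hcb : f b ∈ Subgroup.center (P ⧸ Subgroup.zpowers z) := key b (by
      rintro d (rfl | rfl)
      · exact hab
      · rfl)
    exact fun x => key x (by
      rintro d (rfl | rfl)
      · exact (Subgroup.mem_center_iff.1 hca _).symm
      · exact (Subgroup.mem_center_iff.1 hcb _).symm)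
  have hle : commutator P ≤ Subgroup.zpowers z := by
    rw [commutator_def, Subgroup.commutator_le]
    intro x _ y _
    rw [← QuotientGroup.eq_one_iff]
    show f ⁅x, y⁆ = 1
    rw [map_commutatorElement, commutatorElement_eq_one_iff_mul_comm]
    exact Subgroup.mem_center_iff.1 (hcen y) (f x)
  have hzp : z ^ p = 1 := by
    have hcomm : ∀ n : ℕ, ⁅a ^ n, b⁆ = z ^ n := by
      intro n
      induction n with
      | zero => simp
      | succ n ih =>
        calc ⁅a ^ (n + 1), b⁆ = a * ⁅a ^ n, b⁆ * a⁻¹ * ⁅a, b⁆ := by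
              simp only [commutatorElement_def, pow_succ']; group
          _ = ⁅a ^ n, b⁆ * ⁅a, b⁆ := by
              rw [Subgroup.mem_center_iff.1 (hc (Subgroup.commutator_mem_commutator trivial trivial :
                ⁅a ^ n, b⁆ ∈ commutator P)) a, mul_inv_cancel_right]
          _ = z ^ (n + 1) := by rw [ih, pow_succ]
    rw [← hcomm, commutatorElement_eq_one_iff_mul_comm]
    exact (Subgroup.mem_center_iff.1 (hc (hpow a)) b).symm
  have hz1 : z ≠ 1 := by
    intro h
    refine hnc ⟨⟨fun x y => ?_⟩⟩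
    have h1 : ⁅x, y⁆ ∈ Subgroup.zpowers z :=
      hle (Subgroup.commutator_mem_commutator trivial trivial)
    rw [h, Subgroup.zpowers_one_eq_bot, Subgroup.mem_bot] at h1
    exact commutatorElement_eq_one_iff_mul_comm.1 h1
  rw [le_antisymm hle (Subgroup.zpowers_le.2 hzP), Nat.card_zpowers,
    orderOf_eq_prime hzp hz1]

theorem SchmidtType.ne_three (h : SchmidtType p P) (hP : IsPGroup p P) (hnc : ¬ IsMulCommutative P)
    (hidx : (commutator P).index = p ^ 2) :
    p ≠ 3 ∧ ∃ σ : MulAut P, (p = 2 → σ ^ 3 = 1 ∧ ∀ y, y ∉ commutator P → σ y * y⁻¹ ∉ commutator P) := by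
  obtain ⟨σ, q, hq, hqp, hσq, hσ, hc, hfix, hpow, hR⟩ := h
  have hp := (Fact.out : p.Prime)
  haveI : Fact q.Prime := ⟨hq⟩
  have hline : ∀ y, y ∉ commutator P → σ y * y⁻¹ ∉ commutator P := by
    intro y hy hmem
    have h1 := hR (commutator P ⊔ Subgroup.zpowers y) le_sup_left fun r hr => by
      have hle : commutator P ⊔ Subgroup.zpowers y ≤
          (commutator P ⊔ Subgroup.zpowers y).comap σ.toMonoidHom := by
        refine sup_le (fun z hz => ?_) (Subgroup.zpowers_le.2 ?_)
        · show σ z ∈ commutator P ⊔ Subgroup.zpowers y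
          rw [hfix z hz]
          exact Subgroup.mem_sup_left hz
        · show σ y ∈ commutator P ⊔ Subgroup.zpowers y
          have := mul_mem (Subgroup.mem_sup_left hmem :
            σ y * y⁻¹ ∈ commutator P ⊔ Subgroup.zpowers y)
            (Subgroup.mem_sup_right (Subgroup.mem_zpowers y))
          rwa [inv_mul_cancel_right] at this
      exact hle hr
    rcases h1 with h1 | h1
    · exact hy (h1 ▸ Subgroup.mem_sup_right (Subgroup.mem_zpowers y))
    · exact hnc (isMulCommutative_of_sup_zpowers hc h1)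
  have hq2 : q ≠ 2 := by
    rintro rfl
    have hinv : ∀ x, σ x * x ∈ commutator P := by
      intro x
      by_contra hx
      refine hline _ hx ?_
      have hσσ : σ (σ x) = x := by
        rw [← MulAut.mul_apply, ← sq, hσq, MulAut.one_apply]
      rw [map_mul, hσσ, mul_inv_rev]
      have : ⁅x, σ x⁆ ∈ commutator P := Subgroup.commutator_mem_commutator trivial trivial
      rwa [commutatorElement_def, mul_assoc] at this
    obtain ⟨a, ha⟩ : ∃ a, a ∉ commutator P := by
      by_contra h
      push Not at h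
      exact hnc ⟨⟨fun x y => Subgroup.mem_center_iff.1 (hc (h y)) x⟩⟩
    rcases hR (commutator P ⊔ Subgroup.zpowers a) le_sup_left (fun r hr => by
      have := mul_mem (Subgroup.mem_sup_left (hinv r) :
        σ r * r ∈ commutator P ⊔ Subgroup.zpowers a) (inv_mem hr)
      rwa [mul_inv_cancel_right] at this) with h1 | h1
    · exact ha (h1 ▸ Subgroup.mem_sup_right (Subgroup.mem_zpowers a))
    · exact hnc (isMulCommutative_of_sup_zpowers hc h1)
  -- the fixed points of `σ` are exactly `P'`
  have hF : ∀ x, σ x = x → x ∈ commutator P := fun x hx => by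
    by_contra h
    exact hline x h (by rw [hx, mul_inv_cancel]; exact one_mem _)
  have hσp : IsPGroup q (Subgroup.zpowers σ) :=
    IsPGroup.of_card (n := 1) (by rw [Nat.card_zpowers, orderOf_eq_prime hσq hσ, pow_one])
  have hmod := hσp.card_modEq_card_fixedPoints P
  have hfp : MulAction.fixedPoints (Subgroup.zpowers σ) P = (commutator P : Set P) := by
    ext x
    refine ⟨fun hx => hF x (hx ⟨σ, Subgroup.mem_zpowers σ⟩), fun hx g => ?_⟩
    have hle : Subgroup.zpowers σ ≤ MulAction.stabilizer (MulAut P) x :=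
      Subgroup.zpowers_le.2 (hfix x hx)
    exact hle g.2
  rw [hfp, SetLike.coe_sort_coe, ← Subgroup.card_mul_index (commutator P), hidx,
    card_commutator_of_index_sq hP hnc hc hpow hidx] at hmod
  replace hmod : p * p ^ 2 ≡ p [MOD q] := hmod
  have h2 : p ^ 2 ≡ 1 [MOD q] := by
    refine Nat.ModEq.cancel_left_of_coprime ((Nat.coprime_primes hq hp).2 hqp) ?_
    rwa [mul_one]
  have h3 : q ∣ p ^ 2 - 1 := (Nat.modEq_iff_dvd' (by nlinarith [hp.two_le])).1 h2.symm
  refine ⟨?_, σ, fun h2' => ⟨?_, hline⟩⟩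
  · rintro rfl
    exact hq2 ((Nat.prime_dvd_prime_iff_eq hq Nat.prime_two).1
      (hq.dvd_of_dvd_pow (show q ∣ 2 ^ 3 by simpa using h3)))
  · subst h2'
    have : q = 3 := (Nat.prime_dvd_prime_iff_eq hq Nat.prime_three).1 (by simpa using h3)
    rwa [this] at hσq

/-- If a subgroup `Y ⊇ P'` with cyclic quotient has smaller derived subgroup, then `|P/P'| = p²`. -/
theorem SchmidtType.index_eq_sq (h : SchmidtType p P) (hP : IsPGroup p P)
    (hnc : ¬ IsMulCommutative P) {Y : Subgroup P} {g : P} (hY : commutator P ≤ Y)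
    (hg : Y ⊔ Subgroup.zpowers g = ⊤) (hne : ¬ commutator P ≤ ⁅Y, Y⁆) :
    (commutator P).index = p ^ 2 := by
  obtain ⟨σ, q, hq, hqp, hσq, hσ, hc, hfix, hpow, hR⟩ := h
  have hp := (Fact.out : p.Prime)
  set Z := commutator P
  -- a maximal subgroup `N` of `P'` containing `[Y, Y]`
  have hW : ⁅Y, Y⁆ < Z :=
    lt_of_le_of_ne (Subgroup.commutator_mono le_top le_top) fun e => hne e.ge
  obtain ⟨N, hWN, hNZ, hNidx⟩ : ∃ N : Subgroup P, ⁅Y, Y⁆ ≤ N ∧ N ≤ Z ∧ N.relIndex Z = p := by
    obtain ⟨n, hn⟩ := (hP.to_subgroup Z).exists_card_eq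
    obtain ⟨m, hm⟩ := ((hP.to_subgroup Z).to_subgroup (⁅Y, Y⁆.subgroupOf Z)).exists_card_eq
    have hlt : p ^ m < p ^ n := by
      rw [← hm, ← hn, Nat.card_congr (Subgroup.subgroupOfEquivOfLe hW.le).toEquiv]
      by_contra hle
      push Not at hle
      exact hW.ne (Subgroup.eq_of_le_of_card_ge hW.le hle)
    have hmn := (Nat.pow_lt_pow_iff_right hp.one_lt).1 hlt
    obtain ⟨K, hK, hle⟩ := Sylow.exists_subgroup_card_pow_prime_le p (m := n - 1)
      (hn ▸ pow_dvd_pow p (Nat.sub_le _ _)) _ hm (by omega)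
    refine ⟨K.map Z.subtype, fun w hw => ⟨⟨w, hW.le hw⟩, hle hw, rfl⟩, Subgroup.map_subtype_le K, ?_⟩
    rw [Subgroup.relIndex, Subgroup.subgroupOf, Subgroup.comap_map_eq_self_of_injective
      Z.subtype_injective]
    have h1 := Subgroup.card_mul_index K
    rw [hK, hn] at h1
    have h2 : p ^ (n - 1) * K.index = p ^ (n - 1) * p := by
      rw [h1, ← pow_succ]
      congr 1
      omega
    exact Nat.eq_of_mul_eq_mul_left (pow_pos hp.pos _) h2
  have hNn : N.Normal := ⟨fun n hn x => by
    rwa [Subgroup.mem_center_iff.1 (hc (hNZ hn)) x, mul_inv_cancel_right]⟩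
  set f := QuotientGroup.mk' N with hf
  -- `f ⁅·, ·⁆` is bilinear
  have hcen : ∀ x y : P, ∀ d, d * ⁅x, y⁆ = ⁅x, y⁆ * d := fun x y =>
    Subgroup.mem_center_iff.1 (hc (Subgroup.commutator_mem_commutator trivial trivial))
  have hmul : ∀ r s x : P, ⁅r * s, x⁆ = ⁅s, x⁆ * ⁅r, x⁆ := by
    intro r s x
    calc ⁅r * s, x⁆ = r * ⁅s, x⁆ * r⁻¹ * ⁅r, x⁆ := by simp only [commutatorElement_def]; group
      _ = _ := by rw [hcen s x r, mul_inv_cancel_right]
  -- the radical is `P'`
  set Rad : Subgroup P :=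
    { carrier := {r | ∀ x, ⁅r, x⁆ ∈ N}
      one_mem' := fun x => by simp [N.one_mem]
      mul_mem' := fun {r s} hr hs x => by rw [hmul]; exact mul_mem (hs x) (hr x)
      inv_mem' := fun {r} hr x => by
        have h1 := hmul r r⁻¹ x
        rw [mul_inv_cancel, commutatorElement_one_left] at h1
        rw [eq_inv_of_mul_eq_one_left h1.symm]
        exact inv_mem (hr x) } with hRad
  have hRadZ : Rad = Z := by
    refine (hR Rad (fun z hz x => ?_) fun r hr x => ?_).resolve_right fun e => ?_
    · rw [commutatorElement_eq_one_iff_mul_comm.2 (Subgroup.mem_center_iff.1 (hc hz) x).symm]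
      exact one_mem _
    · have h1 := hr (σ⁻¹ x)
      have h2 := hfix _ (hNZ h1)
      rw [map_commutatorElement, MulAut.apply_inv_self] at h2
      rwa [h2]
    · refine (Nat.Prime.one_lt hp).ne' ?_
      rw [← hNidx, Subgroup.relIndex_eq_one]
      show commutator P ≤ N
      rw [commutator_def, Subgroup.commutator_le]
      intro r _ x _
      exact (e.ge (Subgroup.mem_top r) : r ∈ Rad) x
  -- the map `y ↦ f ⁅y, g⁆` on `Y`
  let ψ : Y →* P ⧸ N := MonoidHom.mk' (fun y => f ⁅(y : P), g⁆) fun y y' => by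
    rw [Subgroup.coe_mul, hmul, ← map_mul, ← hcen]
  have hker : ψ.ker ≤ Z.subgroupOf Y := by
    intro y hy
    have hyg : ⁅(y : P), g⁆ ∈ N := (QuotientGroup.eq_one_iff _).1 hy
    rw [Subgroup.mem_subgroupOf, ← hRadZ]
    intro x
    have hle : Y ⊔ Subgroup.zpowers g ≤ (Subgroup.centralizer {f y}).comap f := by
      refine sup_le (fun w hw => Subgroup.mem_centralizer_singleton_iff.2 ?_)
        (Subgroup.zpowers_le.2 (Subgroup.mem_centralizer_singleton_iff.2 ?_))
      · refine (commutatorElement_eq_one_iff_mul_comm.1 ?_).symm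
        rw [← map_commutatorElement]
        exact (QuotientGroup.eq_one_iff _).2 (hWN (Subgroup.commutator_mem_commutator y.2 hw))
      · refine (commutatorElement_eq_one_iff_mul_comm.1 ?_).symm
        rw [← map_commutatorElement]
        exact (QuotientGroup.eq_one_iff _).2 hyg
    have h1 := Subgroup.mem_centralizer_singleton_iff.1 (hle (hg ▸ Subgroup.mem_top x))
    refine (QuotientGroup.eq_one_iff _).1 ?_
    show f ⁅(y : P), x⁆ = 1
    rw [map_commutatorElement, commutatorElement_eq_one_iff_mul_comm]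
    exact h1.symm
  have hrange : ψ.range ≤ Z.map f := by
    rintro _ ⟨y, rfl⟩
    exact ⟨_, Subgroup.commutator_mem_commutator trivial trivial, rfl⟩
  have hYn : Y.Normal := normal_of_commutator_le hY
  have hYp : Y.index ≤ p := by
    have hsurj : ∀ x : P ⧸ Y, x ∈ Subgroup.zpowers (g : P ⧸ Y) := by
      intro x
      obtain ⟨x, rfl⟩ := QuotientGroup.mk'_surjective Y x
      have hle : Y ⊔ Subgroup.zpowers g ≤
          (Subgroup.zpowers (g : P ⧸ Y)).comap (QuotientGroup.mk' Y) :=
        sup_le (fun w hw => by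
            show (w : P ⧸ Y) ∈ Subgroup.zpowers (g : P ⧸ Y)
            rw [(QuotientGroup.eq_one_iff w).2 hw]
            exact one_mem _)
          (Subgroup.zpowers_le.2 (Subgroup.mem_zpowers (g : P ⧸ Y)))
      exact hle (hg ▸ Subgroup.mem_top x)
    rw [Subgroup.index, ← Nat.card_congr (Subgroup.topEquiv (G := P ⧸ Y)).toEquiv,
      ← (Subgroup.eq_top_iff' _).2 hsurj, Nat.card_zpowers]
    refine Nat.le_of_dvd hp.pos (orderOf_dvd_of_pow_eq_one ?_)
    exact (QuotientGroup.eq_one_iff _).2 (hY (hpow g))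
  have hYc : Nat.card Y ≤ Nat.card Z * p := by
    rw [← Subgroup.card_mul_index ψ.ker, Subgroup.index_ker]
    refine Nat.mul_le_mul ?_ ?_
    · exact (Subgroup.card_le_of_le hker).trans
        (le_of_eq (Nat.card_congr (Subgroup.subgroupOfEquivOfLe hY).toEquiv))
    · refine (Subgroup.card_le_of_le hrange).trans (le_of_eq ?_)
      rw [← hNidx, ← Subgroup.relIndex_ker, hf, QuotientGroup.ker_mk']
  obtain ⟨k, hk⟩ := (hP.to_quotient Z).exists_card_eq
  change Z.index = p ^ k at hk
  have hk2 : k ≤ 2 := by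
    have h1 := Subgroup.card_mul_index Z
    have h2 := Subgroup.card_mul_index Y
    have hle : Nat.card Z * p ^ k ≤ Nat.card Z * p ^ 2 := by
      rw [← hk, h1, ← h2, sq, ← mul_assoc]
      exact Nat.mul_le_mul hYc hYp
    exact (Nat.pow_le_pow_iff_right hp.one_lt).1 (Nat.le_of_mul_le_mul_left hle Nat.card_pos)
  have hk1 : 1 < k := by
    by_contra hk1
    push Not at hk1
    refine hnc ?_
    obtain ⟨a, ha⟩ | h := (em (∃ a, a ∉ Z))
    · refine isMulCommutative_of_sup_zpowers hc (a := a) (Subgroup.index_eq_one.1 ?_)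
      have h1 : Z < Z ⊔ Subgroup.zpowers a := lt_of_le_of_ne le_sup_left fun e =>
        ha (e ▸ Subgroup.mem_sup_right (Subgroup.mem_zpowers a))
      have j1 := Subgroup.index_strictAnti h1
      obtain ⟨l, hl, e⟩ := (Nat.dvd_prime_pow hp).1 (hk ▸ Subgroup.index_dvd_of_le h1.le)
      rw [hk, e] at j1
      have := (Nat.pow_lt_pow_iff_right hp.one_lt).1 j1
      rw [e, show l = 0 by omega, pow_zero]
    · push Not at h
      exact ⟨⟨fun x y => Subgroup.mem_center_iff.1 (hc (h y)) x⟩⟩
  rw [hk, show k = 2 by omega]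

/-- In the quaternion case every maximal subgroup has exponent 4. -/
theorem SchmidtType.exists_orderOf_four (h : SchmidtType 2 P) (hP : IsPGroup 2 P)
    (hnc : ¬ IsMulCommutative P) (hidx : (commutator P).index = 2 ^ 2) {Y : Subgroup P}
    (hY : commutator P < Y) : ∃ y ∈ Y, y ^ 2 ≠ 1 := by
  have : Fact (Nat.Prime 2) := ⟨Nat.prime_two⟩
  obtain ⟨σ, q, -, -, -, -, hc, hfix, hpow, -⟩ := id h
  obtain ⟨-, τ, hτ⟩ := h.ne_three hP hnc hidx
  obtain ⟨hτ3, hline⟩ := hτ rfl
  by_contra hexp
  push Not at hexp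
  obtain ⟨y, hy, hyZ⟩ := SetLike.exists_of_lt hY
  set Z := commutator P
  set f := QuotientGroup.mk' Z
  have hτZ : ∀ z ∈ Z, τ z ∈ Z := fun z hz =>
    (Subgroup.characteristic_iff_map_le.1 inferInstance τ) ⟨z, hz, rfl⟩
  have hne1 : ∀ w, w ∉ Z → f w ≠ 1 := fun w hw e => hw ((QuotientGroup.eq_one_iff w).1 e)
  have hne : ∀ w, w ∉ Z → f (τ w) ≠ f w := fun w hw e => hline w hw ((QuotientGroup.eq_one_iff _).1 (by
    show f (τ w * w⁻¹) = 1
    rw [map_mul, e, map_inv, mul_inv_cancel]))
  have h3 : τ (τ (τ y)) = y := by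
    rw [← MulAut.mul_apply, ← MulAut.mul_apply, mul_assoc, ← pow_three, hτ3, MulAut.one_apply]
  have hy2 : τ (τ y) ∉ Z := fun h' => hyZ (h3 ▸ hτZ _ h')
  have hy1 : τ y ∉ Z := fun h' => hy2 (hτZ _ h')
  classical
  have := Fintype.ofFinite (P ⧸ Z)
  have huniv : ({1, f y, f (τ y), f (τ (τ y))} : Finset (P ⧸ Z)) = Finset.univ := by
    refine Finset.eq_univ_of_card _ ?_
    rw [← Nat.card_eq_fintype_card, ← Subgroup.index, hidx]
    refine Finset.card_eq_four.2 ⟨_, _, _, _, (hne1 y hyZ).symm, (hne1 _ hy1).symm, (hne1 _ hy2).symm,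
      (hne y hyZ).symm, ?_, (hne _ hy1).symm, rfl⟩
    intro e
    refine hne _ hy2 ?_
    rw [h3]
    exact e
  have hall : ∀ x : P, x ^ 2 = 1 := by
    intro x
    have key : ∀ w, (∀ z ∈ Z, (w * z) ^ 2 = 1) → f x = f w → x ^ 2 = 1 := by
      intro w hw e
      have := hw (w⁻¹ * x) ((QuotientGroup.eq (s := Z)).1 e.symm)
      rwa [mul_inv_cancel_left] at this
    have hstep : ∀ w, (∀ z ∈ Z, (w * z) ^ 2 = 1) → ∀ z ∈ Z, (τ w * z) ^ 2 = 1 := by
      intro w hw z hz
      obtain ⟨z', hz', rfl⟩ :=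
        (Subgroup.characteristic_iff_map_eq.1 (inferInstance : Z.Characteristic) τ).ge hz
      show (τ w * τ z') ^ 2 = 1
      rw [← map_mul, ← map_pow, hw z' hz', map_one]
    have h0 : ∀ z ∈ Z, (y * z) ^ 2 = 1 := fun z hz => hexp _ (mul_mem hy (hY.le hz))
    have hx := huniv ▸ Finset.mem_univ (f x)
    simp only [Finset.mem_insert, Finset.mem_singleton] at hx
    rcases hx with e | e | e | e
    · exact hexp x (hY.le ((QuotientGroup.eq_one_iff x).1 e))
    · exact key y h0 e
    · exact key _ (hstep y h0) e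
    · exact key _ (hstep _ (hstep y h0)) e
  refine hnc ⟨⟨fun a b => ?_⟩⟩
  have inv : ∀ a : P, a⁻¹ = a := fun a => inv_eq_of_mul_eq_one_left (by rw [← sq]; exact hall a)
  calc a * b = (a * b)⁻¹ := (inv _).symm
    _ = b * a := by rw [mul_inv_rev, inv, inv]

end Structure

section Main

variable {p : ℕ} [hp : Fact p.Prime]

theorem le_pCore_of_schmidtType {A : Type u} [Group A] [Finite A] (hsep : IsPiSeparable {p} A)
    (hO : Cfsg.pPrimeCore p A = ⊥) (S : Sylow p A) (hS : SchmidtType p (S : Subgroup A)) :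
    (S : Subgroup A) ≤ Cfsg.pCore p A := by
  classical
  have hCU := centralizer_pCore_le hsep hO
  set U := Cfsg.pCore p A with hUdef
  set Z : Subgroup A := ⁅(S : Subgroup A), (S : Subgroup A)⁆ with hZdef
  have hSp : IsPGroup p (S : Subgroup A) := S.2
  have hUp : IsPGroup p U := Cores.isPGroup_pCore p A
  have hUn : U.Normal := Cores.pCore_normal p A
  have hUS : U ≤ (S : Subgroup A) := Cores.pCore_le_sylow S
  have hmapZ : (commutator (S : Subgroup A)).map (S : Subgroup A).subtype = Z := by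
    rw [commutator_def, Subgroup.map_commutator, ← MonoidHom.range_eq_map, Subgroup.range_subtype]
  have hZS : Z ≤ (S : Subgroup A) := hmapZ ▸ Subgroup.map_subtype_le _
  obtain ⟨σ, q, -, -, -, -, hc, -, hpow, -⟩ := id hS
  have hZc : ∀ s ∈ (S : Subgroup A), ∀ z ∈ Z, s * z = z * s := by
    intro s hs z hz
    obtain ⟨w, hw, rfl⟩ := hmapZ.ge hz
    exact congrArg Subtype.val (Subgroup.mem_center_iff.1 (hc hw) ⟨s, hs⟩)
  have hcomm : ∀ a ∈ (S : Subgroup A), ∀ b ∈ (S : Subgroup A), ⁅a, b⁆ ∈ Z := fun a ha b hb =>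
    Subgroup.commutator_mem_commutator ha hb
  have hZU : Z ≤ U := fun z hz => hCU (Subgroup.mem_centralizer_iff.2 fun u hu => hZc u (hUS hu) z hz)
  by_contra hSU
  have hnc : ¬ IsMulCommutative (S : Subgroup A) := fun h => hSU fun s hs =>
    hCU (Subgroup.mem_centralizer_iff.2 fun u hu =>
      congrArg Subtype.val (h.is_comm.comm ⟨u, hUS hu⟩ ⟨s, hs⟩))
  set f := QuotientGroup.mk' U with hf
  set L0 := Cfsg.pPrimeCore p (A ⧸ U) with hL0
  have hkerf : f.ker = U := QuotientGroup.ker_mk' U
  set Sb := (S : Subgroup A).map f with hSb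
  have : IsMulCommutative Sb := ⟨⟨fun a b => Subtype.ext (by
    obtain ⟨x, hx, hxa⟩ := a.2
    obtain ⟨y, hy, hyb⟩ := b.2
    show (a : A ⧸ U) * b = b * a
    rw [← hxa, ← hyb]
    refine commutatorElement_eq_one_iff_mul_comm.1 ?_
    rw [← map_commutatorElement]
    exact (QuotientGroup.eq_one_iff _).2 (hZU (hcomm x hx y hy)))⟩⟩
  have hCL : Subgroup.centralizer (L0 : Set (A ⧸ U)) ≤ L0 := by
    have h := centralizer_piCore_le (π := ({p}ᶜ : Set ℕ)) (hsep.quotient U).compl
      (by rw [compl_compl, ← Cores.pCore_eq_piCore]; exact Cores.pCore_quotient_self p A)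
    rwa [piCore_compl_singleton_eq_pPrimeCore] at h
  have hcop : (Nat.card Sb).Coprime (Nat.card L0) := by
    obtain ⟨n, hn⟩ := (hSp.map f).exists_card_eq
    rw [show Nat.card Sb = p ^ n from hn]
    exact ((Cores.coprime_card_pPrimeCore (G := A ⧸ U) p).symm).pow_left n
  have hL0n : L0.Normal := Subgroup.sSup_normal _ fun _ h => h.1
  have hnormL : Sb ≤ Subgroup.normalizer (L0 : Set (A ⧸ U)) := by
    rw [Subgroup.normalizer_eq_top_iff.2 hL0n]; exact le_top
  -- a transfer of subgroups of `S` containing `Z`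
  have htype : ∀ Y : Subgroup A, Y ≤ (S : Subgroup A) → Z ≤ Y →
      commutator (S : Subgroup A) ≤ Y.subgroupOf S := fun Y _ hZY w hw =>
    hZY (hmapZ.le ⟨w, hw, rfl⟩)
  by_cases hgen : (commutator (S : Subgroup A)).index = p ^ 2
  · -- `|S| = p ^ 3`
    have hZp := card_commutator_of_index_sq hSp hnc hc hpow hgen
    rcases Nat.lt_or_ge p 5 with h5 | h5
    · have h3 : p ≠ 3 := (hS.ne_three hSp hnc hgen).1
      have h2 : p = 2 := by
        have := hp.out.two_le
        rcases (show p = 2 ∨ p = 3 ∨ p = 4 by omega) with e | e | e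
        · exact e
        · exact absurd e h3
        · exact absurd (e ▸ hp.out) (by norm_num)
      subst h2
      have hUlt : U < (S : Subgroup A) := lt_of_le_of_ne hUS fun e => hSU e.ge
      have hZltU : Z < U := lt_of_le_of_ne hZU fun e => hSU fun s hs =>
        hCU (Subgroup.mem_centralizer_iff.2 fun u hu => (hZc s hs u (e.ge hu)).symm)
      have hcS : Nat.card (S : Subgroup A) = 8 := by
        rw [← Subgroup.card_mul_index (commutator (S : Subgroup A)), hZp, hgen]; norm_num
      have hcU : Nat.card U = 4 := by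
        obtain ⟨n, hn⟩ := hUp.exists_card_eq
        have h1 : Nat.card U < 8 := hcS ▸ lt_of_le_of_ne (Subgroup.card_le_of_le hUS) fun e =>
          hUlt.ne (Subgroup.eq_of_le_of_card_ge hUS e.ge)
        have h2 : 2 < Nat.card U := by
          rw [← hZp, ← Subgroup.card_map_of_injective (S : Subgroup A).subtype_injective, hmapZ]
          exact lt_of_le_of_ne (Subgroup.card_le_of_le hZltU.le) fun e =>
            hZltU.ne (Subgroup.eq_of_le_of_card_ge hZltU.le e.ge)
        rw [hn] at h1 h2 ⊢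
        have : n < 3 := (Nat.pow_lt_pow_iff_right (le_refl 2)).1 (h1.trans_eq (by norm_num))
        interval_cases n <;> simp_all
      obtain ⟨y, hyU, hy2⟩ := hS.exists_orderOf_four hSp hnc hgen (Y := U.subgroupOf S)
        (lt_of_le_of_ne (htype U hUS hZU) fun e => hZltU.ne (by
          rw [← hmapZ, e, Subgroup.map_subgroupOf_eq_of_le hUS]))
      have hUcyc : IsCyclic U := by
        set u : U := ⟨y, hyU⟩
        refine isCyclic_of_orderOf_eq_card u ?_
        rw [hcU]
        refine orderOf_eq_prime_pow (p := 2) (n := 1) ?_ ?_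
        · intro e
          refine hy2 (Subtype.ext ?_)
          simpa [u] using congrArg Subtype.val e
        · have := pow_card_eq_one' (x := u)
          rwa [hcU] at this
      let c : A →* MulAut U := MulAut.conjNormal
      have hkerc : c.ker ≤ U := fun a ha => hCU (Subgroup.mem_centralizer_iff.2 fun u hu => by
        have h1 : (c a ⟨u, hu⟩ : A) = u := by rw [MonoidHom.mem_ker.1 ha]; rfl
        rw [MulAut.conjNormal_apply, mul_inv_eq_iff_eq_mul] at h1
        exact h1.symm)
      have hA2 : IsPGroup 2 A := by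
        have hrange : IsPGroup 2 c.range := by
          refine (IsPGroup.of_card (n := 1) ?_ : IsPGroup 2 (MulAut U)).to_subgroup _
          rw [IsCyclic.card_mulAut, hcU]; rfl
        have h1 := IsPGroup.comap_of_ker_isPGroup (hrange) c (hUp.to_le hkerc)
        rw [MonoidHom.range_eq_map, Subgroup.comap_map_eq, top_sup_eq] at h1
        exact h1.of_equiv Subgroup.topEquiv
      exact hSU (by rw [hUdef, Cores.pCore_eq_top_iff.2 hA2]; exact le_top)
    · obtain ⟨D⟩ := HallHigman.exists_frattiniData hCU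
      have := D.finiteDimensional
      obtain ⟨s, hs, hsU⟩ := SetLike.not_le_iff_exists.1 hSU
      have hx : orderOf (f s) = p ^ (0 + 1) := by
        rw [pow_one]
        refine orderOf_eq_prime ?_ fun e => hsU ((QuotientGroup.eq_one_iff s).1 e)
        rw [← map_pow]
        exact (QuotientGroup.eq_one_iff _).2 (hZU (hmapZ.le ⟨(⟨s, hs⟩ : (S : Subgroup A)) ^ p,
          hpow _, by simp⟩))
      have hr : (D.ρ (f s) - 1) ^ 2 = 0 := by
        refine LinearMap.ext fun x => ?_
        obtain ⟨v, rfl⟩ := D.pi_surjective x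
        have step : ∀ w : U, (D.ρ (f s) - 1) (D.pi w) =
            D.pi ⟨⁅s, (w : A)⁆, hZU (hcomm s hs w (hUS w.2))⟩ := by
          intro w
          rw [LinearMap.sub_apply, Module.End.one_apply]
          show D.ρ (s : A ⧸ U) (D.pi w) - D.pi w = _
          rw [D.pi_conj, sub_eq_iff_eq_add, ← D.pi_mul]
          refine D.pi_eq_of_eq ?_
          show s * w * s⁻¹ = ⁅s, (w : A)⁆ * w
          rw [commutatorElement_def]
          group
        rw [sq, Module.End.mul_apply, step, step, LinearMap.zero_apply]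
        rw [← D.pi_one]
        refine D.pi_eq_of_eq ?_
        show ⁅s, ⁅s, (v : A)⁆⁆ = 1
        rw [commutatorElement_eq_one_iff_mul_comm]
        exact hZc s hs _ (hcomm s hs v (hUS v.2))
      rcases HallHigman.theorem_b D.ρ D.injective (hsep.quotient U) (Cores.pCore_quotient_self p A)
        (f s) hx hr with h | ⟨n₀, q', m, h1, h2, -, -, -, -, h6, -⟩
      · rw [pow_one] at h; omega
      · obtain rfl : n₀ = 1 := by omega
        simp at h6
        omega
  -- generic case: every element of `O_{p'}(A/U)` normalizes `Z`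
  have hL0N : L0 ≤ (Subgroup.normalizer (Z : Set A)).map f := by
    refine Coprime.le_of_cyclic_quotient (A := Sb) hnormL hcop fun B hB hex k hk => ?_
    obtain ⟨g, hg, hgB⟩ := hex
    obtain ⟨g0, hg0, rfl⟩ := hg
    set Y := B.comap f with hYdef
    have hUY : U ≤ Y := fun u hu => by
      rw [hYdef, Subgroup.mem_comap, show f u = 1 from (QuotientGroup.eq_one_iff u).2 hu]
      exact one_mem _
    have hYS : Y ≤ (S : Subgroup A) := by
      refine (Subgroup.comap_mono hB).trans ?_
      rw [hSb, Subgroup.comap_map_eq, hkerf]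
      exact sup_le le_rfl hUS
    have hgS : Y.subgroupOf S ⊔ Subgroup.zpowers (⟨g0, hg0⟩ : (S : Subgroup A)) = ⊤ := by
      refine Subgroup.map_injective (S : Subgroup A).subtype_injective ?_
      rw [Subgroup.map_sup, Subgroup.map_subgroupOf_eq_of_le hYS, MonoidHom.map_zpowers,
        ← MonoidHom.range_eq_map, Subgroup.range_subtype]
      refine le_antisymm (sup_le hYS (Subgroup.zpowers_le.2 hg0)) fun x hx => ?_
      have h1 : f x ∈ B ⊔ Subgroup.zpowers (f g0) := hgB ⟨x, hx, rfl⟩
      rw [← MonoidHom.map_zpowers, ← Subgroup.map_comap_eq_self_of_surjective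
        (QuotientGroup.mk'_surjective U) B, ← Subgroup.map_sup] at h1
      obtain ⟨y, hy, hyx⟩ := h1
      have h2 : y⁻¹ * x ∈ U := QuotientGroup.eq.1 hyx
      have h3 := mul_mem hy ((le_sup_left : Y ≤ Y ⊔ _) (hUY h2))
      rwa [mul_inv_cancel_left] at h3
    have hYZ : ⁅Y, Y⁆ = Z := by
      refine le_antisymm (Subgroup.commutator_mono hYS hYS) ?_
      by_contra hne
      refine hgen (hS.index_eq_sq hSp hnc (htype Y hYS (hZU.trans hUY)) hgS fun hle => hne ?_)
      intro z hz
      obtain ⟨w, hw, rfl⟩ := hmapZ.ge hz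
      have h1 := Subgroup.mem_map_of_mem (S : Subgroup A).subtype (hle hw)
      rwa [Subgroup.map_commutator, Subgroup.map_subgroupOf_eq_of_le hYS] at h1
    obtain ⟨k0, rfl⟩ := QuotientGroup.mk'_surjective U k
    refine ⟨k0, ?_, rfl⟩
    have hkC := (Subgroup.mem_inf.1 hk).2
    have hk0 : k0 ∈ Subgroup.normalizer (Y : Set A) := by
      refine Subgroup.mem_normalizer_fintype fun y hy => ?_
      show f (k0 * y * k0⁻¹) ∈ B
      rw [map_mul, map_mul, map_inv, ← Subgroup.mem_centralizer_iff.1 hkC _ hy,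
        mul_inv_cancel_right]
      exact hy
    show k0 ∈ Subgroup.normalizer (Z : Set A)
    rw [← hYZ]
    have e : (⁅Y, Y⁆).map (MulAut.conj k0).toMonoidHom ≤ ⁅Y, Y⁆ := by
      rw [Subgroup.map_commutator]
      have : Y.map (MulAut.conj k0).toMonoidHom ≤ Y := by
        rintro _ ⟨y, hy, rfl⟩
        exact (Subgroup.mem_normalizer_iff.1 hk0 y).1 hy
      exact Subgroup.commutator_mono this this
    exact Subgroup.mem_normalizer_fintype fun z hz => e ⟨z, hz, rfl⟩
  set L := L0.comap f with hLdef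
  have hLn : L.Normal := hL0n.comap f
  set H := L ⊔ (S : Subgroup A) with hHdef
  have hHZ : H ≤ Subgroup.normalizer (Z : Set A) := by
    refine sup_le (fun l hl => ?_) (fun s hs => ?_)
    · obtain ⟨n, hn, hnl⟩ := hL0N hl
      have h2 : n⁻¹ * l ∈ Subgroup.normalizer (Z : Set A) := by
        refine Subgroup.mem_normalizer_fintype fun z hz => ?_
        rwa [hZc _ (hUS (QuotientGroup.eq.1 hnl)) z hz, mul_inv_cancel_right]
      have := mul_mem hn h2
      rwa [mul_inv_cancel_left] at this
    · refine Subgroup.mem_normalizer_fintype fun z hz => ?_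
      rwa [hZc _ hs z hz, mul_inv_cancel_right]
  let c : H →* MulAut U := (MulAut.conjNormal (H := U)).comp H.subtype
  have hc_apply : ∀ (h : H) (u : U), (c h u : A) = h * u * (h : A)⁻¹ := fun h u =>
    MulAut.conjNormal_apply _ _
  set K : Subgroup H := (Cfsg.pCore p c.range).comap c.rangeRestrict with hKdef
  have hKp : IsPGroup p K := by
    refine (Cores.isPGroup_pCore p c.range).comap_of_ker_isPGroup _ ?_
    rw [MonoidHom.ker_rangeRestrict]
    have hle : c.ker ≤ U.subgroupOf H := fun h hh => by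
      refine hCU (Subgroup.mem_centralizer_iff.2 fun u hu => ?_)
      have h1 := hc_apply h ⟨u, hu⟩
      rw [MonoidHom.mem_ker.1 hh, MulAut.one_apply, eq_mul_inv_iff_mul_eq] at h1
      exact h1
    exact ((hUp.comap_of_injective H.subtype H.subtype_injective)).to_le hle
  have hKn : K.Normal := (Cores.pCore_normal p _).comap _
  have hSK : (S : Subgroup A).subgroupOf H ≤ K := by
    intro s hs
    refine FusionChain.mem_pCore_of_stabilizes_chain hUp c.range 2
      (fun i => if i = 0 then ⊥ else if i = 1 then Z.subgroupOf U else ⊤) (by simp) (by simp)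
      ?_ ?_ (c.rangeRestrict s) ?_
    · intro i hi
      interval_cases i <;> simp
    · rintro _ ⟨h, rfl⟩ i hi x hx
      interval_cases i
      · simp only [if_pos, Subgroup.mem_bot] at hx ⊢
        simp [hx]
      · simp only [if_pos, if_neg, one_ne_zero, Nat.one_ne_zero, not_false_eq_true,
          Subgroup.mem_subgroupOf] at hx ⊢
        rw [hc_apply]
        exact (Subgroup.mem_normalizer_iff.1 (hHZ h.2) _).1 hx
      · simp
    · intro i hi x hx
      have hval : ((x⁻¹ * (c s x) : U) : A) = ⁅(x : A)⁻¹, (s : A)⁆ := by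
        rw [Subgroup.coe_mul, Subgroup.coe_inv, hc_apply, commutatorElement_def]
        group
      interval_cases i
      · simp only [Nat.zero_add, if_pos, if_neg, one_ne_zero, Nat.one_ne_zero, not_false_eq_true,
          Subgroup.mem_subgroupOf, Subgroup.mem_bot] at hx ⊢
        refine Subtype.ext ?_
        show ((x⁻¹ * (c s x) : U) : A) = 1
        rw [hval, commutatorElement_eq_one_iff_mul_comm]
        exact (hZc _ hs _ (inv_mem hx)).symm
      · simp only [if_pos, if_neg, one_ne_zero, Nat.one_ne_zero, not_false_eq_true,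
          Subgroup.mem_subgroupOf]
        show ((x⁻¹ * (c s x) : U) : A) ∈ Z
        rw [hval]
        exact hcomm _ (inv_mem (hUS x.2)) _ hs
  obtain ⟨s, hs, hsU⟩ := SetLike.not_le_iff_exists.1 hSU
  refine hsU ((QuotientGroup.eq_one_iff s).1 ?_)
  have hsH : s ∈ H := Subgroup.mem_sup_right hs
  have hcent : f s ∈ Subgroup.centralizer (L0 : Set (A ⧸ U)) := by
    refine Subgroup.mem_centralizer_iff.2 fun k hk => ?_
    obtain ⟨l, rfl⟩ := QuotientGroup.mk'_surjective U k
    have hlL : l ∈ L := hk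
    refine commutatorElement_eq_one_iff_mul_comm.1 ?_
    rw [← map_commutatorElement]
    set w : H := ⁅(⟨l, Subgroup.mem_sup_left hlL⟩ : H), (⟨s, hsH⟩ : H)⁆
    have hwK : w ∈ K := by
      show _ * _ * _ * _ ∈ K
      exact mul_mem (hKn.conj_mem _ (hSK hs) _) (inv_mem (hSK hs))
    have hwL : (w : A) ∈ L := by
      show l * s * l⁻¹ * s⁻¹ ∈ L
      rw [mul_assoc, mul_assoc]
      exact mul_mem hlL (by rw [← mul_assoc]; exact hLn.conj_mem _ (inv_mem hlL) s)
    -- the image of `w` is both a `p`-element and in the `p'`-core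
    obtain ⟨n, hn⟩ := hKp ⟨w, hwK⟩
    have hwp : f (w : A) ^ p ^ n = 1 := by
      rw [← map_pow]
      have := congrArg (fun z : K => ((z : H) : A)) hn
      simp only [SubmonoidClass.coe_pow, OneMemClass.coe_one] at this
      rw [this, map_one]
    refine orderOf_eq_one_iff.1 (Nat.eq_one_of_dvd_coprimes
      ((Cores.coprime_card_pPrimeCore (G := A ⧸ U) p).symm.pow_left n)
      (orderOf_dvd_of_pow_eq_one hwp) ?_)
    exact Subgroup.orderOf_dvd_natCard L0 hwL
  have h1 : f s ∈ L0 := hCL hcent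
  refine orderOf_eq_one_iff.1 (Nat.eq_one_of_dvd_coprimes hcop
    (Subgroup.orderOf_dvd_natCard Sb ⟨s, hs, rfl⟩) (Subgroup.orderOf_dvd_natCard L0 h1))

theorem pLengthLE_one_of_schmidtType {G : Type u} [Group G] [Finite G] (hG : Cfsg.IsPSolvable p G)
    (Q : Sylow p G) (hQ : SchmidtType p (Q : Subgroup G)) : Cfsg.PLengthLE p 1 G := by
  set K := Cfsg.pPrimeCore p G
  have hKn : K.Normal := Subgroup.sSup_normal _ fun _ h => h.1
  set f := QuotientGroup.mk' K
  refine PLengthComm.pLengthLE_of_coprime_ker f (QuotientGroup.mk'_surjective K)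
    (by rw [QuotientGroup.ker_mk']; exact Cores.coprime_card_pPrimeCore p) ?_
  set S := Q.mapSurjective (QuotientGroup.mk'_surjective K)
  have hinj : Function.Injective (f.comp (Q : Subgroup G).subtype) := by
    rw [injective_iff_map_eq_one]
    intro x hx
    obtain ⟨n, hn⟩ := Q.2 x
    refine orderOf_eq_one_iff.1 (Nat.eq_one_of_dvd_coprimes
      ((Cores.coprime_card_pPrimeCore (G := G) p).symm.pow_left n)
      (orderOf_dvd_of_pow_eq_one hn) ?_)
    rw [← Subgroup.orderOf_coe]
    exact Subgroup.orderOf_dvd_natCard K ((QuotientGroup.eq_one_iff _).1 hx)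
  have hrange : (f.comp (Q : Subgroup G).subtype).range = (S : Subgroup (G ⧸ K)) := by
    rw [MonoidHom.range_comp, Subgroup.range_subtype]
    rfl
  have hS : SchmidtType p (S : Subgroup (G ⧸ K)) :=
    hQ.congr ((MonoidHom.ofInjective hinj).trans (MulEquiv.subgroupCongr hrange))
  have hle := le_pCore_of_schmidtType ((isPiSeparable_of_isPSolvable hG).quotient K)
    (Cores.pPrimeCore_quotient_self p) S hS
  refine PLengthComm.pLengthLE_of_le_pCore fun R hR => ?_
  obtain ⟨T, hT⟩ := hR.exists_le_sylow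
  obtain ⟨g, rfl⟩ := MulAction.exists_smul_eq (G ⧸ K) S T
  refine hT.trans ?_
  rintro _ ⟨x, hx, rfl⟩
  exact (Cores.pCore_normal p _).conj_mem x (hle hx) g

end Main

/-- The normal Sylow subgroup of a minimal non-nilpotent group is of Schmidt type. -/
theorem schmidtType_of_minimalNonNilpotent {X : Type u} [Group X] [Finite X] {p : ℕ} [hp : Fact p.Prime]
    (hX : Cfsg.IsMinimalNonNilpotent X) (P : Sylow p X) (hPn : (P : Subgroup X).Normal)
    (hP1 : (P : Subgroup X) ≠ ⊥) : SchmidtType p (P : Subgroup X) := by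
  classical
  obtain ⟨r, q, hr, hq, hrq, C, T, hCc, hTn, htop⟩ := S0536.result hX
  obtain ⟨hnn, hmin⟩ := hX
  haveI := Fact.mk hr
  haveI := Fact.mk hq
  haveI := hTn
  haveI := hPn
  have hcardX : Nat.card X = Nat.card (C : Subgroup X) * Nat.card (T : Subgroup X) := by
    rw [← Subgroup.card_top (G := X), ← htop, Solvable.card_sup_of_disjoint _ _
      (disjoint_iff.1 (IsPGroup.disjoint_of_ne r q hrq _ _ C.2 T.2))]
  have hpd : p ∣ Nat.card (P : Subgroup X) := by
    obtain ⟨n, hn⟩ := P.2.exists_card_eq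
    rw [hn]
    refine dvd_pow_self p fun h0 => hP1 (Subgroup.card_eq_one.1 ?_)
    rw [hn, h0, pow_zero]
  have hpq : p = q := by
    by_contra hne
    have hd : p ∣ Nat.card (C : Subgroup X) := by
      have := hpd.trans (Subgroup.card_subgroup_dvd_card _)
      rw [hcardX] at this
      rcases hp.out.dvd_mul.1 this with h | h
      · exact h
      · obtain ⟨n, hn⟩ := T.2.exists_card_eq
        rw [hn] at h
        exact absurd ((Nat.prime_dvd_prime_iff_eq hp.out hq).1 (hp.out.dvd_of_dvd_pow h)) hne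
    obtain ⟨n, hn⟩ := C.2.exists_card_eq
    rw [hn] at hd
    obtain rfl := (Nat.prime_dvd_prime_iff_eq hp.out hr).1 (hp.out.dvd_of_dvd_pow hd)
    haveI := Sylow.unique_of_normal P hPn
    obtain rfl : C = P := Subsingleton.elim _ _
    refine hnn ((Group.isNilpotent_of_finite_tfae.out 0 3).2 fun l hl R => ?_)
    haveI := hl
    by_cases hlp : l = p
    · subst hlp
      rw [Subsingleton.elim R C]; exact hPn
    by_cases hlq : l = q
    · subst hlq
      haveI := Sylow.unique_of_normal T hTn
      rw [Subsingleton.elim R T]; exact hTn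
    · suffices (R : Subgroup X) = ⊥ by rw [this]; infer_instance
      refine Subgroup.card_eq_one.1 ?_
      obtain ⟨a, ha⟩ := R.2.exists_card_eq
      obtain ⟨b, hb⟩ := C.2.exists_card_eq
      obtain ⟨c, hc'⟩ := T.2.exists_card_eq
      refine Nat.eq_one_of_dvd_coprimes (a := Nat.card (R : Subgroup X)) (b := Nat.card X) ?_ dvd_rfl (Subgroup.card_subgroup_dvd_card _)
      rw [ha, hcardX, hb, hc']
      exact Nat.Coprime.mul_right (((Nat.coprime_primes hl.out hp.out).2 hlp).pow _ _)
        (((Nat.coprime_primes hl.out hq).2 hlq).pow _ _)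
  subst hpq
  haveI := Sylow.unique_of_normal T hTn
  obtain rfl : P = T := Subsingleton.elim _ _
  set Pg := (P : Subgroup X)
  set Cg := (C : Subgroup X)
  obtain ⟨c, hc⟩ := (Subgroup.isCyclic_iff_exists_zpowers_eq_top Cg).1 hCc
  have hcC : c ∈ Cg := hc ▸ Subgroup.mem_zpowers c
  have hC1 : c ≠ 1 := by
    rintro rfl
    refine hnn ?_
    rw [Subgroup.zpowers_one_eq_bot] at hc
    have : Pg = ⊤ := by rw [← htop, show Cg = ⊥ from hc.symm, bot_sup_eq]
    have h' : IsPGroup p (⊤ : Subgroup X) := this ▸ P.2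
    exact (h'.of_equiv Subgroup.topEquiv).isNilpotent
  -- proper subgroups centralize
  have hcent : ∀ (R : Subgroup X) (d : X), R ≤ Pg → d ∈ Cg → R ⊔ Subgroup.zpowers d ≠ ⊤ →
      ∀ x ∈ R, d * x = x * d := by
    intro R d hR hd hne x hx
    refine ((NilGroup.commute_of_coprime (hmin _ hne)
      (x := (⟨d, Subgroup.mem_sup_right (Subgroup.mem_zpowers d)⟩ : ↥(R ⊔ Subgroup.zpowers d)))
      (y := ⟨x, Subgroup.mem_sup_left hx⟩) ?_).map (R ⊔ Subgroup.zpowers d).subtype)
    rw [← Subgroup.orderOf_coe, ← Subgroup.orderOf_coe]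
    obtain ⟨a, ha⟩ := C.2.exists_card_eq
    obtain ⟨b, hb⟩ := P.2.exists_card_eq
    exact Nat.Coprime.coprime_dvd_left (Subgroup.orderOf_dvd_natCard Cg hd)
      (Nat.Coprime.coprime_dvd_right (Subgroup.orderOf_dvd_natCard Pg (hR hx))
        (by rw [ha, hb]; exact Nat.coprime_pow_primes _ _ hr hp.out hrq))
  have hnot : ¬ ∀ x ∈ Pg, c * x = x * c := by
    intro hall
    refine hnn ?_
    have hPC : Pg ≤ Subgroup.centralizer (Cg : Set X) := fun x hx => by
      rw [← hc, Subgroup.mem_centralizer_iff]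
      intro y hy
      obtain ⟨k, rfl⟩ := Subgroup.mem_zpowers_iff.1 hy
      exact ((show Commute c x from hall x hx).zpow_left k).eq
    have hCn : Cg.Normal := by
      rw [← Subgroup.normalizer_eq_top_iff, eq_top_iff, ← htop]
      refine sup_le Subgroup.le_normalizer fun x hx => ?_
      exact Subgroup.centralizer_le_normalizer _ (hPC hx)
    refine (Group.isNilpotent_of_finite_tfae.out 0 3).2 fun l hl R => ?_
    haveI := hl
    by_cases hlp : l = p
    · subst hlp
      haveI := Sylow.unique_of_normal P hPn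
      rw [Subsingleton.elim R P]; exact hPn
    by_cases hlq : l = r
    · subst hlq
      haveI := Sylow.unique_of_normal C hCn
      rw [Subsingleton.elim R C]; exact hCn
    · suffices (R : Subgroup X) = ⊥ by rw [this]; infer_instance
      refine Subgroup.card_eq_one.1 ?_
      obtain ⟨a, ha⟩ := R.2.exists_card_eq
      obtain ⟨b, hb⟩ := C.2.exists_card_eq
      obtain ⟨b', hb'⟩ := P.2.exists_card_eq
      refine Nat.eq_one_of_dvd_coprimes (a := Nat.card (R : Subgroup X)) (b := Nat.card X) ?_ dvd_rfl (Subgroup.card_subgroup_dvd_card _)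
      rw [ha, hcardX, hb, hb']
      exact Nat.Coprime.mul_right (((Nat.coprime_primes hl.out hr).2 hlq).pow _ _)
        (((Nat.coprime_primes hl.out hp.out).2 hlp).pow _ _)
  let σ : MulAut Pg := MulAut.conjNormal c
  have hσ : ∀ x : Pg, (σ x : X) = c * x * c⁻¹ := fun x => MulAut.conjNormal_apply _ _
  -- invariant proper subgroups are fixed
  have hfixed : ∀ R : Subgroup Pg, (∀ x ∈ R, σ x ∈ R) → R ≠ ⊤ → ∀ x ∈ R, σ x = x := by
    intro R hR hne x hx
    have hR' : ∀ y ∈ R.map Pg.subtype, c * y * c⁻¹ ∈ R.map Pg.subtype := by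
      rintro _ ⟨y, hy, rfl⟩
      exact ⟨σ y, hR y hy, hσ y⟩
    have hnorm : c ∈ Subgroup.normalizer ((R.map Pg.subtype : Subgroup X) : Set X) :=
      Subgroup.mem_normalizer_fintype hR'
    have hne' : R.map Pg.subtype ⊔ Subgroup.zpowers c ≠ ⊤ := by
      intro e
      refine hne ((Subgroup.eq_top_iff' R).2 fun y => ?_)
      have h1 : (y : X) ∈ (↑(Subgroup.zpowers c ⊔ R.map Pg.subtype) : Set X) := by
        rw [sup_comm, e]; trivial
      rw [Subgroup.coe_mul_of_left_le_normalizer_right _ _ (Subgroup.zpowers_le.2 hnorm)] at h1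
      obtain ⟨d, hd, _, ⟨w, hw, rfl⟩, hdw⟩ := h1
      have hdC : d ∈ Cg := (Subgroup.zpowers_le.2 hcC) hd
      have hdP : d ∈ Pg := by
        have := mul_mem y.2 (inv_mem w.2)
        rw [← hdw] at this
        simpa using this
      have hd1 : d = 1 := Subgroup.mem_bot.1 ((disjoint_iff.1 (IsPGroup.disjoint_of_ne p r
        (Ne.symm hrq) _ _ P.2 C.2)).le (Subgroup.mem_inf.2 ⟨hdP, hdC⟩))
      rw [hd1] at hdw
      have hwy : w = y := Subtype.ext ((one_mul _).symm.trans hdw)
      exact hwy ▸ hw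
    refine Subtype.ext ?_
    rw [hσ, hcent _ c (Subgroup.map_subtype_le R) hcC hne' x ⟨x, hx, rfl⟩, mul_inv_cancel_right]
  have hproperZ : commutator Pg ≠ ⊤ := by
    intro e
    haveI : Nontrivial Pg := (Subgroup.nontrivial_iff_ne_bot Pg).2 hP1
    haveI : Group.IsNilpotent Pg := P.2.isNilpotent
    exact (Group.IsSolvable.commutator_lt_top_of_nontrivial Pg).ne e
  have hZinv : ∀ z ∈ commutator Pg, σ z ∈ commutator Pg := fun z hz =>
    (Subgroup.characteristic_iff_map_le.1 inferInstance σ) ⟨z, hz, rfl⟩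
  have hfixZ := hfixed _ hZinv hproperZ
  -- `[P, C] = P`
  have hPC : ⁅Pg, Subgroup.zpowers c⁆ = Pg := by
    rw [hc]
    have hCnorm : Cg ≤ Subgroup.normalizer (Pg : Set X) := by
      rw [Subgroup.normalizer_eq_top_iff.2 hPn]; exact le_top
    have hcop : (Nat.card Cg).Coprime (Nat.card Pg) := by
      obtain ⟨a, ha⟩ := C.2.exists_card_eq
      obtain ⟨b, hb⟩ := P.2.exists_card_eq
      rw [ha, hb]; exact Nat.coprime_pow_primes _ _ hr hp.out hrq
    have hle : ⁅Pg, Cg⁆ ≤ Pg := Subgroup.commutator_le_left _ _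
    by_contra hne
    have hinv : ∀ x ∈ (⁅Pg, Cg⁆).subgroupOf Pg, σ x ∈ (⁅Pg, Cg⁆).subgroupOf Pg := by
      intro x hx
      rw [Subgroup.mem_subgroupOf, hσ]
      exact (Subgroup.mem_normalizer_iff.1 ((Subgroup.normalizer_commutator_ge_right Pg Cg) hcC) _).1 hx
    have hfx := hfixed _ hinv fun e => hne (le_antisymm hle (Subgroup.subgroupOf_eq_top.1 e))
    refine hnot fun x hx => ?_
    have h1 : ⁅⁅Pg, Cg⁆, Cg⁆ = ⊥ := by
      rw [Subgroup.commutator_eq_bot_iff_le_centralizer]
      intro y hy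
      rw [← hc, Subgroup.mem_centralizer_iff]
      intro d hd
      obtain ⟨k, rfl⟩ := Subgroup.mem_zpowers_iff.1 hd
      have h2 := congrArg Subtype.val (hfx ⟨y, hle hy⟩ hy)
      rw [hσ, mul_inv_eq_iff_eq_mul] at h2
      exact ((show Commute c y from h2).zpow_left k).eq
    rw [Coprime.commutator_commutator_eq hCnorm hcop (Or.inr ((haveI := P.2.isNilpotent; inferInstance)))] at h1
    exact (Subgroup.mem_centralizer_iff.1 (Subgroup.commutator_eq_bot_iff_le_centralizer.1 h1 hx) c hcC)
  have hgenP : ∀ K : Subgroup X, (∀ x ∈ Pg, x * c * x⁻¹ * c⁻¹ ∈ K) → K ≤ Pg → Pg ≤ Subgroup.normalizer (K : Set X) →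
      c ∈ Subgroup.normalizer (K : Set X) → Pg ≤ K := by
    intro K hK hKP hPK hcK
    conv_lhs => rw [← hPC]
    rw [Subgroup.commutator_le]
    intro x hx d hd
    obtain ⟨k, rfl⟩ := Subgroup.mem_zpowers_iff.1 hd
    have hKn : K.Normal := by
      rw [← Subgroup.normalizer_eq_top_iff, eq_top_iff, ← htop]
      exact sup_le (by rw [show Cg = Subgroup.zpowers c from hc.symm, Subgroup.zpowers_le]; exact hcK) hPK
    have h1 : (QuotientGroup.mk' K x) * (QuotientGroup.mk' K c) =
        (QuotientGroup.mk' K c) * (QuotientGroup.mk' K x) := by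
      refine commutatorElement_eq_one_iff_mul_comm.1 ?_
      rw [← map_commutatorElement]
      exact (QuotientGroup.eq_one_iff _).2 (hK x hx)
    refine (QuotientGroup.eq_one_iff _).1 ?_
    show QuotientGroup.mk' K ⁅x, c ^ k⁆ = 1
    rw [map_commutatorElement, map_zpow, commutatorElement_eq_one_iff_mul_comm]
    exact ((show Commute _ _ from h1).zpow_right k).eq
  have hfixC : ∀ z ∈ commutator Pg, (z : X) * c = c * z := fun z hz => by
    have h2 := congrArg Subtype.val (hfixZ z hz)
    rw [hσ, mul_inv_eq_iff_eq_mul] at h2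
    exact h2.symm
  have hcenter : commutator Pg ≤ Subgroup.center Pg := by
    intro z hz
    refine Subgroup.mem_center_iff.2 fun y => Subtype.ext ?_
    -- the subgroup centralizing `P'` contains all `[x, c]`
    set K := Pg ⊓ Subgroup.centralizer (((commutator Pg).map Pg.subtype : Subgroup X) : Set X) with hKdef
    have hnormK : ∀ d ∈ Subgroup.normalizer (((commutator Pg).map Pg.subtype : Subgroup X) : Set X),
        d ∈ Subgroup.normalizer (K : Set X) := by
      intro d hd
      refine Subgroup.mem_normalizer_fintype fun w hw => Subgroup.mem_inf.2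
        ⟨hPn.conj_mem _ (Subgroup.mem_inf.1 hw).1 d, Subgroup.mem_centralizer_iff.2 fun v hv => ?_⟩
      have hv' : d⁻¹ * v * d ∈ ((commutator Pg).map Pg.subtype : Subgroup X) := by
        have := (Subgroup.mem_normalizer_iff.1 (inv_mem hd) v).1 hv
        rwa [inv_inv] at this
      have := Subgroup.mem_centralizer_iff.1 (Subgroup.mem_inf.1 hw).2 _ hv'
      calc v * (d * w * d⁻¹) = d * (d⁻¹ * v * d * w) * d⁻¹ := by group
        _ = d * (w * (d⁻¹ * v * d)) * d⁻¹ := by rw [this]
        _ = d * w * d⁻¹ * v := by group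
    have hPz : Pg ≤ Subgroup.normalizer (((commutator Pg).map Pg.subtype : Subgroup X) : Set X) :=
      fun d hd => Subgroup.le_normalizer_map Pg.subtype
        ⟨⟨d, hd⟩, by rw [Subgroup.normalizer_eq_top_iff.2 inferInstance]; trivial, rfl⟩
    have hle := hgenP K (fun x hx => ?_) inf_le_left (fun d hd => hnormK d (hPz hd))
      (hnormK c (Subgroup.mem_normalizer_fintype ?_))
    · exact (Subgroup.mem_centralizer_iff.1 (Subgroup.mem_inf.1 (hle y.2)).2 z ⟨z, hz, rfl⟩).symm
    · refine Subgroup.mem_inf.2 ⟨?_, Subgroup.mem_centralizer_iff.2 ?_⟩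
      · rw [mul_assoc, mul_assoc]
        exact mul_mem hx (by rw [← mul_assoc]; exact hPn.conj_mem _ (inv_mem hx) c)
      · rintro _ ⟨w, hw, rfl⟩
        have hw1 : (w : X) * c = c * w := hfixC w hw
        have hwx : (⟨x, hx⟩ : Pg)⁻¹ * w * ⟨x, hx⟩ ∈ commutator Pg := by
          simpa using (inferInstance : (commutator Pg).Normal).conj_mem w hw (⟨x, hx⟩ : Pg)⁻¹
        have hw2 : x⁻¹ * w * x * c = c * (x⁻¹ * w * x) := hfixC _ hwx
        show (w : X) * (x * c * x⁻¹ * c⁻¹) = x * c * x⁻¹ * c⁻¹ * w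
        calc (w : X) * (x * c * x⁻¹ * c⁻¹) = x * (x⁻¹ * w * x * c) * x⁻¹ * c⁻¹ := by group
          _ = x * (c * (x⁻¹ * w * x)) * x⁻¹ * c⁻¹ := by rw [hw2]
          _ = x * c * x⁻¹ * ((w : X) * c⁻¹) := by group
          _ = x * c * x⁻¹ * (c⁻¹ * w) := by
            rw [(show Commute (w : X) c from hw1).inv_right.eq]
          _ = _ := by group
    · rintro _ ⟨w, hw, rfl⟩
      exact ⟨σ w, hZinv w hw, hσ w⟩
  have hcop : (Nat.card (Subgroup.zpowers c)).Coprime (Nat.card Pg) := by
    obtain ⟨a, ha⟩ := C.2.exists_card_eq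
    obtain ⟨b, hb⟩ := P.2.exists_card_eq
    rw [hc, ha, hb]; exact Nat.coprime_pow_primes _ _ hr hp.out hrq
  have hfixmem : ∀ x : Pg, σ x = x → x ∈ commutator Pg := by
    intro x hx
    refine BaerTrick.mem_commutator_of_fixed (A := Subgroup.zpowers c)
      (by rw [Subgroup.normalizer_eq_top_iff.2 hPn]; exact le_top) hcop hPC ?_
    refine Subgroup.mem_centralizer_iff.2 fun d hd => ?_
    obtain ⟨k, rfl⟩ := Subgroup.mem_zpowers_iff.1 hd
    have h2 := congrArg Subtype.val hx
    rw [hσ, mul_inv_eq_iff_eq_mul] at h2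
    exact ((show Commute c (x : X) from h2).zpow_left k).eq
  have hR : ∀ R : Subgroup Pg, commutator Pg ≤ R → (∀ x ∈ R, σ x ∈ R) → R = commutator Pg ∨ R = ⊤ :=
    fun R h1 h2 => or_iff_not_imp_right.2 fun hne =>
      le_antisymm (fun x hx => hfixmem x (hfixed R h2 hne x hx)) h1
  refine ⟨σ, r, hr, hrq, ?_, ?_, hcenter, hfixZ, ?_, hR⟩
  · -- `c ^ r` centralizes `P`
    have hne : Pg ⊔ Subgroup.zpowers (c ^ r) ≠ ⊤ := by
      intro e
      have h1 : c ∈ (↑(Subgroup.zpowers (c ^ r) ⊔ Pg) : Set X) := by rw [sup_comm, e]; trivial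
      rw [Subgroup.coe_mul_of_left_le_normalizer_right _ _ (by
        rw [Subgroup.normalizer_eq_top_iff.2 hPn]; exact le_top)] at h1
      obtain ⟨d, hd, y, hy, hdy⟩ := h1
      obtain ⟨k, rfl⟩ := Subgroup.mem_zpowers_iff.1 hd
      have hdC : (c ^ r) ^ k ∈ Cg := zpow_mem (pow_mem hcC r) k
      change (c ^ r) ^ k * y = c at hdy
      have hyC : y ∈ Cg := by
        have e : y = ((c ^ r) ^ k)⁻¹ * c := eq_inv_mul_of_mul_eq hdy
        exact e ▸ mul_mem (inv_mem hdC) hcC
      have hy1 : y = 1 := Subgroup.mem_bot.1 ((disjoint_iff.1 (IsPGroup.disjoint_of_ne p r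
        (Ne.symm hrq) _ _ P.2 C.2)).le (Subgroup.mem_inf.2 ⟨hy, hyC⟩))
      rw [hy1, mul_one, ← zpow_natCast, ← zpow_mul] at hdy
      have hd' : (orderOf c : ℤ) ∣ (r : ℤ) * k - 1 := by
        rw [orderOf_dvd_iff_zpow_eq_one, zpow_sub, hdy, zpow_one, mul_inv_cancel]
      obtain ⟨a, ha⟩ := C.2.exists_card_eq
      change Nat.card Cg = _ at ha
      rw [show Cg = Subgroup.zpowers c from hc.symm, Nat.card_zpowers] at ha
      have hrd : (r : ℤ) ∣ (orderOf c : ℤ) := by
        rw [ha]
        refine Int.natCast_dvd_natCast.2 (dvd_pow_self r fun h0 => hC1 (orderOf_eq_one_iff.1 ?_))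
        rw [ha, h0, pow_zero]
      have h2 : (r : ℤ) ∣ 1 := by
        have := dvd_sub (dvd_mul_right (r : ℤ) k) (hrd.trans hd')
        simpa using this
      exact hr.one_lt.ne' (Nat.dvd_one.1 (Int.natCast_dvd_natCast.1 h2))
    refine MulEquiv.ext fun x => Subtype.ext ?_
    have hσr : σ ^ r = MulAut.conjNormal (c ^ r) := (map_pow _ c r).symm
    rw [hσr, MulAut.conjNormal_apply, hcent Pg (c ^ r) le_rfl (pow_mem hcC r) hne x x.2,
      mul_inv_cancel_right]
    rfl
  · intro e
    refine hnot fun x hx => ?_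
    have h2 := hσ ⟨x, hx⟩
    rw [e, MulAut.one_apply, eq_mul_inv_iff_mul_eq] at h2
    exact h2.symm
  · -- exponent
    intro x
    set f := QuotientGroup.mk' (commutator Pg)
    have hfc : ∀ a b : Pg, Commute (f a) (f b) := fun a b => by
      refine commutatorElement_eq_one_iff_mul_comm.1 ?_
      rw [← map_commutatorElement]
      exact (QuotientGroup.eq_one_iff _).2 (Subgroup.commutator_mem_commutator trivial trivial)
    let R : Subgroup Pg :=
      { carrier := {y | f y ^ p = 1}
        one_mem' := by simp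
        mul_mem' := fun {a b} ha hb => by
          show f (a * b) ^ p = 1
          rw [map_mul, (hfc a b).mul_pow, ha, hb, one_mul]
        inv_mem' := fun {a} ha => by
          show f a⁻¹ ^ p = 1
          rw [map_inv, inv_pow, ha, inv_one] }
    have hmem : ∀ y, y ∈ R ↔ y ^ p ∈ commutator Pg := fun y => by
      show f y ^ p = 1 ↔ _
      rw [← map_pow]
      exact QuotientGroup.eq_one_iff _
    refine (hmem x).1 ?_
    have hinv : ∀ y ∈ R, σ y ∈ R := fun y hy => by
      rw [hmem, ← map_pow]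
      exact hZinv _ ((hmem y).1 hy)
    rcases hR R (fun z hz => (hmem z).2 (pow_mem hz p)) hinv with e | e
    · exfalso
      refine hproperZ (Subgroup.eq_top_iff' _ |>.2 fun w => ?_)
      obtain ⟨k, hk⟩ := P.2 w
      have : ∀ j, w ^ p ^ j ∈ commutator Pg → w ∈ commutator Pg := by
        intro j
        induction j with
        | zero => simp
        | succ j ih =>
          intro hj
          rw [pow_succ, pow_mul] at hj
          exact ih (e.le ((hmem _).2 hj))
      exact this k (hk ▸ one_mem _)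
    · exact e ▸ Subgroup.mem_top x

end Cfsg.Agent.Solvable
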