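import Cfsg.Agent.Lib.Solvable.Supersolvable
import Cfsg.Agent.Lib.Cores.Fitting

/-!
# Supersolvable groups: Sylow tower, subgroups of every order (owner: helper2)

* `exists_normal_card_largest`, `supersolvable_normal_sylow_largest`, `exists_decreasing_chain`
* `supersolvable_hasSubgroupOfEveryOrder`
* `isSupersolvable_of_card_two_mul_prime_pow`
* hereditary CLT: `hereditary_normal_sylow_largest`, `isSupersolvable_of_hereditary`
-/

open Pointwise

namespace Cfsg.Agent.Solvable

universe u

variable {G : Type u} [Group G]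

/-- A group of order `q * p` with `q < p` primes has only one Sylow `p`-subgroup. -/
theorem subsingleton_sylow_of_card_mul [Finite G] {p q : ℕ} [hp : Fact p.Prime] (hq : q.Prime)
    (hqp : q < p) (hG : Nat.card G = q * p) : Subsingleton (Sylow p G) := by
  obtain ⟨P⟩ := (inferInstance : Nonempty (Sylow p G))
  have hP : Nat.card P = p := by
    rw [P.card_eq_multiplicity, hG, Nat.factorization_mul hq.ne_zero hp.out.ne_zero]
    simp [hq.factorization, hp.out.factorization, hqp.ne]
  have hidx : (P : Subgroup G).index = q := by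
    have h := (P : Subgroup G).card_mul_index
    rw [hG] at h
    change Nat.card (P : Subgroup G) = p at hP
    rw [hP, mul_comm q p] at h
    exact Nat.eq_of_mul_eq_mul_left hp.out.pos h
  have h1 := P.card_dvd_index
  rw [hidx] at h1
  rcases hq.eq_one_or_self_of_dvd _ h1 with e | e
  · exact (Nat.card_eq_one_iff_unique.1 e).1
  · have h2 := card_sylow_modEq_one (p := p) (G := G)
    rw [e, Nat.ModEq, Nat.mod_eq_of_lt hqp, Nat.mod_eq_of_lt hp.out.one_lt] at h2
    exact absurd h2 hq.ne_one

theorem exists_normal_card_largest_aux (n : ℕ) : ∀ {G : Type u} [Group G] [Finite G], Nat.card G = n →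
    Cfsg.IsSupersolvable G → ∀ p : ℕ, p.Prime → p ∣ Nat.card G →
    (∀ q : ℕ, q.Prime → q ∣ Nat.card G → q ≤ p) → ∃ N : Subgroup G, N.Normal ∧ Nat.card N = p := by
  induction n using Nat.strongRecOn with
  | _ c ih =>
    intro G _ _ hc h p hp hdvd hmax
    subst hc
    have := Fact.mk hp
    have : Nontrivial G := by
      rw [← Finite.one_lt_card_iff_nontrivial]
      exact hp.one_lt.trans_le (Nat.le_of_dvd Nat.card_pos hdvd)
    obtain ⟨N, hN, -, hq⟩ := supersolvable_exists_normal_card_prime h (B := (⊤ : Subgroup G)) top_ne_bot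
    set q := Nat.card N
    rcases eq_or_ne q p with e | hqp
    · exact ⟨N, hN, e⟩
    have hqlt : q < p := lt_of_le_of_ne (hmax q hq N.card_subgroup_dvd_card) hqp
    have hNne : N ≠ ⊥ := fun e => hq.ne_one (show Nat.card N = 1 by rw [e, Subgroup.card_bot])
    have hpq : p ∣ Nat.card (G ⧸ N) := by
      have h1 : p ∣ Nat.card (G ⧸ N) * q := Subgroup.card_eq_card_quotient_mul_card_subgroup N ▸ hdvd
      exact ((Nat.coprime_primes hp hq).2 (Ne.symm hqp)).dvd_of_dvd_mul_right h1
    obtain ⟨M', hM', hM'c⟩ := ih _ (card_quotient_lt hNne) rfl (supersolvable_quotient h N) p hp hpq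
      (fun r hr hrd => hmax r hr (hrd.trans (Subgroup.card_quotient_dvd_card N)))
    let f := QuotientGroup.mk' N
    set M := M'.comap f
    have hMn : M.Normal := hM'.comap f
    have hMc : Nat.card M = q * p := by
      have h1 := card_eq_card_map_mul f M
      rw [Subgroup.map_comap_eq_self_of_surjective (QuotientGroup.mk'_surjective N), hM'c,
        QuotientGroup.ker_mk', inf_of_le_right (QuotientGroup.le_comap_mk' N M')] at h1
      rw [h1, mul_comm]
    have := subsingleton_sylow_of_card_mul (G := M) hq hqlt hMc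
    obtain ⟨P⟩ := (inferInstance : Nonempty (Sylow p M))
    refine ⟨(P : Subgroup M).map M.subtype, ConjAct.normal_of_characteristic_of_normal, ?_⟩
    rw [Subgroup.card_map_of_injective M.subtype_injective, P.card_eq_multiplicity, hMc,
      Nat.factorization_mul hq.ne_zero hp.ne_zero]
    simp [hq.factorization, hp.factorization, hqp]

theorem exists_normal_card_largest [Finite G] (h : Cfsg.IsSupersolvable G) {p : ℕ} (hp : p.Prime)
    (hdvd : p ∣ Nat.card G) (hmax : ∀ q : ℕ, q.Prime → q ∣ Nat.card G → q ≤ p) :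
    ∃ N : Subgroup G, N.Normal ∧ Nat.card N = p :=
  exists_normal_card_largest_aux _ rfl h p hp hdvd hmax

theorem exists_largest_prime {n : ℕ} (hn : 1 < n) :
    ∃ p : ℕ, p.Prime ∧ p ∣ n ∧ ∀ q : ℕ, q.Prime → q ∣ n → q ≤ p := by
  have hne : n.primeFactors.Nonempty := by rwa [Nat.nonempty_primeFactors]
  refine ⟨n.primeFactors.max' hne, (Nat.mem_primeFactors.1 (Finset.max'_mem _ hne)).1,
    (Nat.mem_primeFactors.1 (Finset.max'_mem _ hne)).2.1, fun q hq hd => ?_⟩
  exact Finset.le_max' _ q (Nat.mem_primeFactors.2 ⟨hq, hd, by omega⟩)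

theorem exists_decreasing_chain [Finite G] (h : Cfsg.IsSupersolvable G) :
    ∃ (n : ℕ) (H : Fin (n + 1) → Subgroup G), H 0 = ⊥ ∧ H (Fin.last n) = ⊤ ∧ (∀ i, (H i).Normal) ∧
      (∀ i : Fin n, H i.castSucc ≤ H i.succ ∧ ((H i.castSucc).relIndex (H i.succ)).Prime) ∧
      ∀ i j : Fin n, i ≤ j →
        (H j.castSucc).relIndex (H j.succ) ≤ (H i.castSucc).relIndex (H i.succ) := by
  suffices key : ∀ N : Subgroup G, N.Normal → ∃ (n : ℕ) (H : Fin (n + 1) → Subgroup G),
      H 0 = N ∧ H (Fin.last n) = ⊤ ∧ (∀ i, (H i).Normal) ∧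
      (∀ i : Fin n, H i.castSucc ≤ H i.succ ∧ ((H i.castSucc).relIndex (H i.succ)).Prime) ∧
      (∀ i : Fin n, (H i.castSucc).relIndex (H i.succ) ∣ N.index) ∧
      ∀ i j : Fin n, i ≤ j →
        (H j.castSucc).relIndex (H j.succ) ≤ (H i.castSucc).relIndex (H i.succ) by
    obtain ⟨n, H, a, b, c, d, -, e⟩ := key ⊥ inferInstance
    exact ⟨n, H, a, b, c, d, e⟩
  intro N
  induction N using WellFoundedGT.induction with
  | _ N ih =>
    intro hN
    by_cases hT : N = ⊤
    · exact ⟨0, fun _ => N, rfl, hT, fun _ => hN, fun i => i.elim0, fun i => i.elim0, fun i => i.elim0⟩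
    obtain ⟨p, hp, hpd, hpmax⟩ := exists_largest_prime (n := N.index)
      (Subgroup.one_lt_index_of_ne_top hT)
    obtain ⟨M', hM', hM'c⟩ := exists_normal_card_largest (supersolvable_quotient h N) hp
      (by rwa [← Subgroup.index_eq_card]) (by rwa [← Subgroup.index_eq_card])
    let f := QuotientGroup.mk' N
    set M := M'.comap f
    have hNM : N ≤ M := QuotientGroup.le_comap_mk' N M'
    have hidx : N.relIndex M = p := by
      have h1 := Subgroup.relIndex_ker f (K := M)
      rwa [QuotientGroup.ker_mk', Subgroup.map_comap_eq_self_of_surjective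
        (QuotientGroup.mk'_surjective N), hM'c] at h1
    have hlt : N < M := lt_of_le_of_ne hNM fun e => hp.ne_one (by
      rw [← hidx, ← e, Subgroup.relIndex_self])
    have hMd : M.index ∣ N.index := Subgroup.index_dvd_of_le hNM
    obtain ⟨n, H, h0, hl, hn, hs, hd, hdec⟩ := ih M hlt (hM'.comap f)
    have hfirst : ((Fin.cons N H : Fin (n + 2) → Subgroup G) (0 : Fin (n + 1)).castSucc).relIndex
        ((Fin.cons N H : Fin (n + 2) → Subgroup G) (0 : Fin (n + 1)).succ) = p := by
      rw [Fin.castSucc_zero, Fin.cons_zero, Fin.cons_succ, h0, hidx]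
    refine ⟨n + 1, Fin.cons N H, rfl, ?_, ?_, ?_, ?_, ?_⟩
    · rw [← Fin.succ_last, Fin.cons_succ, hl]
    · intro i
      refine Fin.cases ?_ (fun j => ?_) i
      · rw [Fin.cons_zero]; exact hN
      · rw [Fin.cons_succ]; exact hn j
    · intro i
      refine Fin.cases ⟨?_, hfirst ▸ hp⟩ (fun j => ?_) i
      · rw [Fin.castSucc_zero, Fin.cons_zero, Fin.cons_succ, h0]; exact hNM
      · simp only [Fin.cons_succ, ← Fin.succ_castSucc]; exact hs j
    · intro i
      refine Fin.cases (hfirst ▸ hpd) (fun j => ?_) i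
      simp only [Fin.cons_succ, ← Fin.succ_castSucc]; exact (hd j).trans hMd
    · intro i
      refine Fin.cases (fun j hij => ?_) (fun i j hij => ?_) i
      · rw [hfirst]
        refine Fin.cases hfirst.le (fun j => ?_) j
        simp only [Fin.cons_succ, ← Fin.succ_castSucc]
        exact hpmax _ (hs j).2 ((hd j).trans hMd)
      · revert hij
        refine Fin.cases (fun h => absurd h (by simp)) (fun j hij => ?_) j
        simp only [Fin.cons_succ, ← Fin.succ_castSucc]
        exact hdec i j (Fin.succ_le_succ_iff.1 hij)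

theorem supersolvable_normal_sylow_largest_aux (n : ℕ) : ∀ {G : Type u} [Group G] [Finite G],
    Nat.card G = n → Cfsg.IsSupersolvable G → ∀ p : ℕ, p.Prime →
    (∀ q : ℕ, q.Prime → q ∣ Nat.card G → q ≤ p) →
    ∃ P : Subgroup G, P.Normal ∧ IsPGroup p P ∧ ¬ p ∣ P.index := by
  induction n using Nat.strongRecOn with
  | _ c ih =>
    intro G _ _ hc h p hp hmax
    subst hc
    have := Fact.mk hp
    by_cases hd : p ∣ Nat.card G
    · obtain ⟨N, hN, hNc⟩ := exists_normal_card_largest h hp hd hmax
      have hN0 : N ≠ ⊥ := fun e => hp.ne_one (by rw [← hNc, e, Subgroup.card_bot])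
      obtain ⟨Q, hQn, hQp, hQi⟩ := ih _ (card_quotient_lt hN0) rfl (supersolvable_quotient h N) p hp
        (fun r hr hrd => hmax r hr (hrd.trans (Subgroup.card_quotient_dvd_card N)))
      refine ⟨Q.comap (QuotientGroup.mk' N), hQn.comap _, hQp.comap_of_ker_isPGroup _ ?_, ?_⟩
      · rw [QuotientGroup.ker_mk']; exact IsPGroup.of_card (n := 1) (by rw [hNc, pow_one])
      · rwa [Subgroup.index_comap_of_surjective _ (QuotientGroup.mk'_surjective N)]
    · exact ⟨⊥, inferInstance, IsPGroup.of_bot, by rwa [Subgroup.index_bot]⟩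

theorem supersolvable_normal_sylow_largest [Finite G] (h : Cfsg.IsSupersolvable G) {p : ℕ}
    [hp : Fact p.Prime] (hmax : ∀ q : ℕ, q.Prime → q ∣ Nat.card G → q ≤ p) (P : Sylow p G) :
    (P : Subgroup G).Normal := by
  obtain ⟨Q, hQn, hQp, hQi⟩ := supersolvable_normal_sylow_largest_aux _ rfl h p hp.out hmax
  have hQ : (hQp.toSylow hQi : Subgroup G) = Q := rfl
  have hle : Q ≤ P := hQp.le_sylow_of_normal P
  have := (hQp.toSylow hQi).is_maximal' P.2 (hQ.le.trans hle)
  rw [this, hQ]; exact hQn

theorem supersolvable_hasSubgroupOfEveryOrder_aux (n : ℕ) : ∀ {G : Type u} [Group G] [Finite G],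
    Nat.card G = n → Cfsg.IsSupersolvable G → Cfsg.HasSubgroupOfEveryOrder G := by
  induction n using Nat.strongRecOn with
  | _ c ih =>
    intro G _ _ hc h d hd
    subst hc
    rcases eq_or_ne d (Nat.card G) with rfl | hne
    · exact ⟨⊤, Subgroup.card_top⟩
    have h1 : 1 < Nat.card G := by
      by_contra hle
      have h2 : Nat.card G = 1 := le_antisymm (not_lt.1 hle) Nat.card_pos
      exact hne (by rw [h2] at hd ⊢; exact Nat.dvd_one.1 hd)
    obtain ⟨p, hp, hpd, hmax⟩ := exists_largest_prime h1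
    obtain ⟨N, hN, hNc⟩ := exists_normal_card_largest h hp hpd hmax
    have hN0 : N ≠ ⊥ := fun e => hp.ne_one (by rw [← hNc, e, Subgroup.card_bot])
    let f := QuotientGroup.mk' N
    have hq := ih _ (card_quotient_lt hN0) rfl (supersolvable_quotient h N)
    have hmul : Nat.card (G ⧸ N) * p = Nat.card G := by
      rw [← hNc]; exact (Subgroup.card_eq_card_quotient_mul_card_subgroup N).symm
    have hcomap : ∀ X : Subgroup (G ⧸ N), Nat.card (X.comap f) = Nat.card X * p := by
      intro X
      have h1 := card_eq_card_map_mul f (X.comap f)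
      rwa [Subgroup.map_comap_eq_self_of_surjective (QuotientGroup.mk'_surjective N),
        QuotientGroup.ker_mk', inf_of_le_right (QuotientGroup.le_comap_mk' N X), hNc] at h1
    by_cases hpd' : p ∣ d
    · obtain ⟨e, rfl⟩ := hpd'
      obtain ⟨X, hX⟩ := hq e (by
        rw [← hmul, mul_comm p e] at hd
        exact Nat.dvd_of_mul_dvd_mul_right hp.pos hd)
      exact ⟨X.comap f, by rw [hcomap, hX, mul_comm]⟩
    · have hcop : d.Coprime p := ((hp.coprime_iff_not_dvd).2 hpd').symm
      obtain ⟨X, hX⟩ := hq d (hcop.dvd_of_dvd_mul_right (hmul ▸ hd))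
      have hidx : N.relIndex (X.comap f) = d := by
        have h1 := Subgroup.relIndex_ker f (K := X.comap f)
        rwa [QuotientGroup.ker_mk', Subgroup.map_comap_eq_self_of_surjective
          (QuotientGroup.mk'_surjective N), hX] at h1
      obtain ⟨U, -, hU, -⟩ := exists_lift_of_coprime (QuotientGroup.le_comap_mk' N X)
        (by rw [hidx, hNc]; exact hcop.symm)
      exact ⟨U, hU.trans hidx⟩

theorem supersolvable_hasSubgroupOfEveryOrder [Finite G] (h : Cfsg.IsSupersolvable G) :
    Cfsg.HasSubgroupOfEveryOrder G :=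
  supersolvable_hasSubgroupOfEveryOrder_aux _ rfl h

theorem two_mul_prime_pow_aux (n : ℕ) : ∀ {G : Type u} [Group G] [Finite G] (p : ℕ), p.Prime → p ≠ 2 →
    Nat.card G = 2 * p ^ n → Cfsg.IsSupersolvable G := by
  induction n with
  | zero =>
    intro G _ _ p _ _ hG
    have := Fact.mk Nat.prime_two
    have := (IsPGroup.of_card (n := 1) (hG.trans (by rw [pow_zero]; rfl)) : IsPGroup 2 G).isNilpotent
    exact isSupersolvable_of_isNilpotent
  | succ n ih =>
    intro G _ _ p hp hp2 hG
    have := Fact.mk hp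
    obtain ⟨P⟩ := (inferInstance : Nonempty (Sylow p G))
    have hPc : Nat.card P = p ^ (n + 1) := by
      rw [P.card_eq_multiplicity, hG, Nat.factorization_mul two_ne_zero (pow_ne_zero _ hp.ne_zero)]
      simp [Nat.prime_two.factorization, hp.factorization, Ne.symm hp2]
    have hPi : (P : Subgroup G).index = 2 := by
      have h := (P : Subgroup G).card_mul_index
      change Nat.card (P : Subgroup G) = _ at hPc
      rw [hG, hPc, mul_comm 2] at h
      exact Nat.eq_of_mul_eq_mul_left (pow_pos hp.pos _) h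
    have hPn : (P : Subgroup G).Normal := Subgroup.normal_of_index_eq_two hPi
    obtain ⟨t, ht⟩ : ∃ t, t ∉ (P : Subgroup G) := by
      by_contra hcon
      simp only [not_exists, not_not] at hcon
      rw [(Subgroup.eq_top_iff' _).2 hcon, Subgroup.index_top] at hPi
      omega
    have hcases : ∀ g : G, g ∈ (P : Subgroup G) ∨ ∃ x ∈ (P : Subgroup G), g = x * t := by
      intro g
      by_cases hg : g ∈ (P : Subgroup G)
      · exact Or.inl hg
      · refine Or.inr ⟨g * t⁻¹, ?_, by group⟩
        rw [Subgroup.mul_mem_iff_of_index_two hPi, inv_mem_iff]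
        exact iff_of_false hg ht
    have := P.2.isNilpotent
    obtain ⟨⟨z, hz⟩, hzord⟩ := exists_prime_orderOf_dvd_card' p (G := Subgroup.center P) (by
      have h1 : Subgroup.center P ≠ ⊥ := by
        have : Nontrivial P := by
          rw [← Finite.one_lt_card_iff_nontrivial, hPc]; exact Nat.one_lt_pow (by omega) hp.one_lt
        exact Group.IsNilpotent.center_ne_bot _
      obtain ⟨k, hk⟩ := IsPGroup.iff_card.1 (P.2.to_subgroup (Subgroup.center P))
      rw [hk]
      refine dvd_pow_self p fun h0 => h1 (Subgroup.eq_bot_of_card_eq _ ?_)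
      rw [hk, h0, pow_zero])
    set v : G := (z : G) with hv
    have hvP : v ∈ (P : Subgroup G) := z.2
    have hvord : orderOf v = p := by
      rw [Subgroup.orderOf_mk] at hzord
      rwa [hv, Subgroup.orderOf_coe]
    have hvc : ∀ x ∈ (P : Subgroup G), Commute v x := fun x hx =>
      (congrArg Subtype.val (Subgroup.mem_center_iff.1 hz ⟨x, hx⟩)).symm
    set w := t * v * t⁻¹ with hw
    have hwP : w ∈ (P : Subgroup G) := hPn.conj_mem v hvP t
    have hwc : ∀ x ∈ (P : Subgroup G), Commute w x := fun x hx => by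
      have h1 := ((hvc (t⁻¹ * x * t) (by simpa using hPn.conj_mem x hx t⁻¹)).map (MulAut.conj t))
      simpa [hw, MulAut.conj_apply, mul_assoc] using h1
    have ht2 : t * t ∈ (P : Subgroup G) := Subgroup.mul_self_mem_of_index_two hPi t
    have htw : t * w * t⁻¹ = v := by
      rw [hw, show t * (t * v * t⁻¹) * t⁻¹ = t * t * v * (t * t)⁻¹ by group, ← (hvc _ ht2).eq]
      group
    obtain ⟨u, hu, huord, hconj⟩ : ∃ u, (∀ x ∈ (P : Subgroup G), Commute u x) ∧ orderOf u = p ∧
        (t * u * t⁻¹ = u ∨ t * u * t⁻¹ = u⁻¹) := by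
      by_cases hvw : v * w = 1
      · refine ⟨v, hvc, hvord, Or.inr ?_⟩
        rw [← hw]; exact eq_inv_of_mul_eq_one_right hvw
      · refine ⟨v * w, fun x hx => (hvc x hx).mul_left (hwc x hx), orderOf_eq_prime ?_ hvw, Or.inl ?_⟩
        · have h1 : v ^ p = 1 := hvord ▸ pow_orderOf_eq_one v
          have h2 : w ^ p = 1 := by rw [hw, conj_pow, h1, mul_one, mul_inv_cancel]
          rw [(hvc w hwP).mul_pow, h1, h2, one_mul]
        · rw [← conj_mul, ← hw, htw]; exact (hvc w hwP).eq.symm
    have hmem : ∀ g : G, g * u * g⁻¹ ∈ Subgroup.zpowers u := by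
      intro g
      rcases hcases g with hg | ⟨x, hx, rfl⟩
      · rw [← (hu g hg).eq, mul_inv_cancel_right]; exact Subgroup.mem_zpowers u
      · rw [show x * t * u * (x * t)⁻¹ = x * (t * u * t⁻¹) * x⁻¹ by group]
        rcases hconj with e | e <;> rw [e]
        · rw [← (hu x hx).eq, mul_inv_cancel_right]; exact Subgroup.mem_zpowers u
        · rw [← ((hu x hx).inv_left).eq, mul_inv_cancel_right]
          exact inv_mem (Subgroup.mem_zpowers u)
    have hUn : (Subgroup.zpowers u).Normal := ⟨fun y ⟨k, hk⟩ g => by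
      rw [← hk]; exact (conj_zpow (i := k) (a := g) (b := u)) ▸ zpow_mem (hmem g) k⟩
    have hUc : Nat.card (Subgroup.zpowers u) = p := by rw [Nat.card_zpowers, huord]
    refine isSupersolvable_of_cyclic_normal (Subgroup.zpowers u) (ih p hp hp2 ?_)
    have h1 := Subgroup.card_eq_card_quotient_mul_card_subgroup (Subgroup.zpowers u)
    rw [hG, hUc, pow_succ, ← mul_assoc] at h1
    exact (Nat.eq_of_mul_eq_mul_right hp.pos h1).symm

theorem isSupersolvable_of_card_two_mul_prime_pow [Finite G] {p n : ℕ} (hp : p.Prime)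
    (hG : Nat.card G = 2 * p ^ n) : Cfsg.IsSupersolvable G := by
  rcases eq_or_ne p 2 with rfl | hp2
  · have := Fact.mk Nat.prime_two
    have := (IsPGroup.of_card (n := n + 1) (hG.trans (by rw [pow_succ, mul_comm])) :
      IsPGroup 2 G).isNilpotent
    exact isSupersolvable_of_isNilpotent
  · exact two_mul_prime_pow_aux n p hp hp2 hG

theorem hasSubgroupOfEveryOrder_congr {G' : Type*} [Group G'] (e : G ≃* G')
    (h : Cfsg.HasSubgroupOfEveryOrder G) : Cfsg.HasSubgroupOfEveryOrder G' := fun d hd => by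
  obtain ⟨H, hH⟩ := h d (by rwa [Nat.card_congr e.toEquiv])
  exact ⟨H.map e.toMonoidHom, by rwa [Subgroup.card_map_of_injective e.injective]⟩

theorem hereditary_subgroup (h : ∀ H : Subgroup G, Cfsg.HasSubgroupOfEveryOrder H) (K : Subgroup G) :
    ∀ H : Subgroup K, Cfsg.HasSubgroupOfEveryOrder H := fun H =>
  hasSubgroupOfEveryOrder_congr (H.equivMapOfInjective K.subtype K.subtype_injective).symm (h _)

theorem exists_subgroup_index_of_hereditary [Finite G]
    (h : ∀ H : Subgroup G, Cfsg.HasSubgroupOfEveryOrder H) {d : ℕ} (hd : d ∣ Nat.card G) :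
    ∃ H : Subgroup G, H.index = d := by
  obtain ⟨e, he⟩ := hd
  obtain ⟨H, hH⟩ := h ⊤ e (by rw [Subgroup.card_top, he]; exact dvd_mul_left e d)
  refine ⟨H.map (⊤ : Subgroup G).subtype, ?_⟩
  have h1 := (H.map (⊤ : Subgroup G).subtype).card_mul_index
  rw [Subgroup.card_map_of_injective (⊤ : Subgroup G).subtype_injective, hH, he, mul_comm d e] at h1
  refine Nat.eq_of_mul_eq_mul_left (Nat.pos_of_ne_zero fun e0 => ?_) h1
  rw [e0, mul_zero] at he
  exact Nat.card_pos.ne' he

theorem hereditary_normal_sylow_aux (n : ℕ) : ∀ {G : Type u} [Group G] [Finite G], Nat.card G = n →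
    (∀ H : Subgroup G, Cfsg.HasSubgroupOfEveryOrder H) → ∀ p : ℕ, p.Prime →
    (∀ q : ℕ, q.Prime → q ∣ Nat.card G → q ≤ p) → p ∣ Nat.card G →
    ∃ P : Subgroup G, P.Normal ∧ IsPGroup p P ∧ ¬ p ∣ P.index := by
  induction n using Nat.strongRecOn with
  | _ c ih =>
    intro G _ _ hc h p hp hmax hdvd
    subst hc
    have := Fact.mk hp
    have h1 : Nat.card G ≠ 1 := fun e => hp.ne_one (Nat.dvd_one.1 (e ▸ hdvd))
    set q := (Nat.card G).minFac with hqdef
    have hq : q.Prime := Nat.minFac_prime h1
    rcases eq_or_ne q p with e | hqp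
    · refine ⟨⊤, inferInstance, ?_, by rw [Subgroup.index_top]; exact hp.not_dvd_one⟩
      refine IsPGroup.of_card (n := (Nat.card G).primeFactorsList.length) ?_
      rw [Subgroup.card_top]
      exact Nat.eq_prime_pow_of_unique_prime_dvd Nat.card_pos.ne' fun hr hrd =>
        le_antisymm (hmax _ hr hrd) (e ▸ Nat.minFac_le_of_dvd hr.two_le hrd)
    · obtain ⟨H, hH⟩ := exists_subgroup_index_of_hereditary h (Nat.minFac_dvd _)
      have hHn : H.Normal := Subgroup.normal_of_index_eq_minFac_card hH
      have hne : H ≠ ⊤ := fun e => hq.ne_one (by rw [hqdef, ← hH, e, Subgroup.index_top])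
      have hpH : p ∣ Nat.card H := by
        rw [← H.card_mul_index, hH] at hdvd
        exact ((Nat.coprime_primes hp hq).2 (Ne.symm hqp)).dvd_of_dvd_mul_right hdvd
      obtain ⟨P, hPn, hPp, hPi⟩ := ih _ (card_lt_of_ne_top hne) rfl (hereditary_subgroup h H) p hp
        (fun r hr hrd => hmax r hr (hrd.trans H.card_subgroup_dvd_card)) hpH
      have hchar : P.Characteristic := by
        have : (hPp.toSylow hPi : Subgroup H).Normal := hPn
        have hsub : Subsingleton (Sylow p H) :=
          (Sylow.unique_of_normal (hPp.toSylow hPi) this).instSubsingleton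
        exact Sylow.characteristic_of_subsingleton (hPp.toSylow hPi)
      refine ⟨P.map H.subtype, ConjAct.normal_of_characteristic_of_normal, hPp.map _, ?_⟩
      rw [Subgroup.index_map_subtype, hH]
      exact fun hd => (hp.dvd_mul.1 hd).elim hPi fun hd' =>
        hqp ((Nat.prime_dvd_prime_iff_eq hp hq).1 hd').symm

theorem hereditary_normal_sylow_largest [Finite G] (h : ∀ H : Subgroup G, Cfsg.HasSubgroupOfEveryOrder H)
    {p : ℕ} [hp : Fact p.Prime] (hdvd : p ∣ Nat.card G)
    (hmax : ∀ q : ℕ, q.Prime → q ∣ Nat.card G → q ≤ p) (P : Sylow p G) :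
    (P : Subgroup G).Normal := by
  obtain ⟨Q, hQn, hQp, hQi⟩ := hereditary_normal_sylow_aux _ rfl h p hp.out hmax hdvd
  have hQ : (hQp.toSylow hQi : Subgroup G) = Q := rfl
  have := (hQp.toSylow hQi).is_maximal' P.2 (hQ.le.trans (hQp.le_sylow_of_normal P))
  rw [this, hQ]; exact hQn

theorem exists_step_of_quotient [Finite G] {C : Subgroup G} [C.Normal]
    (h : Cfsg.IsSupersolvable (G ⧸ C)) {N : Subgroup G} [hN : N.Normal] (hC : C ≤ N) (hT : N ≠ ⊤) :
    ∃ g, g ∉ N ∧ (N ⊔ Subgroup.zpowers g).Normal := by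
  set f := QuotientGroup.mk' C
  have hf : f.ker = C := QuotientGroup.ker_mk' C
  have := hN.map f (QuotientGroup.mk'_surjective C)
  obtain ⟨g', hg, hgn⟩ := supersolvable_exists_step h (N := N.map f) (fun e => hT (eq_of_map_eq
    (hf.le.trans hC) le_top
    (e.trans (Subgroup.map_top_of_surjective f (QuotientGroup.mk'_surjective C)).symm)))
  obtain ⟨g, rfl⟩ := QuotientGroup.mk'_surjective C g'
  refine ⟨g, fun hgN => hg ⟨g, hgN, rfl⟩, ?_⟩
  have he : N ⊔ Subgroup.zpowers g = (N.map f ⊔ Subgroup.zpowers (f g)).comap f := by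
    rw [← MonoidHom.map_zpowers, ← Subgroup.map_sup, Subgroup.comap_map_eq_self]
    exact (hf.le.trans hC).trans le_sup_left
  rw [he]
  exact hgn.comap f

theorem hereditary_supersolvable_aux (n : ℕ) : ∀ {G : Type u} [Group G] [Finite G], Nat.card G = n →
    (∀ H : Subgroup G, Cfsg.HasSubgroupOfEveryOrder H) → Cfsg.IsSupersolvable G := by
  induction n using Nat.strongRecOn with
  | _ c ih =>
    intro G _ _ hc h
    subst hc
    rcases subsingleton_or_nontrivial G with hG | hG
    · exact isSupersolvable_of_isNilpotent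
    obtain ⟨p, hp, hdvd, hmax⟩ := exists_largest_prime (Finite.one_lt_card (α := G))
    have := Fact.mk hp
    obtain ⟨P, hPn, hPp, hPi⟩ := hereditary_normal_sylow_aux _ rfl h p hp hmax hdvd
    have hcop : (Nat.card P).Coprime P.index := by
      obtain ⟨k, hk⟩ := IsPGroup.iff_card.1 hPp
      rw [hk]; exact Nat.Coprime.pow_left _ (hp.coprime_iff_not_dvd.2 hPi)
    have hP0 : P ≠ ⊥ := fun e => hPi (by rwa [e, Subgroup.index_bot])
    -- the quotient by `P` is hereditary
    have hquot : Cfsg.IsSupersolvable (G ⧸ P) := by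
      refine ih _ (card_quotient_lt hP0) rfl fun Q d hd => ?_
      obtain ⟨A, hPA, rfl⟩ := exists_eq_map_mk' P Q
      have hA := card_eq_card_map_mul (QuotientGroup.mk' P) A
      rw [QuotientGroup.ker_mk', inf_of_le_right hPA] at hA
      obtain ⟨X', hX'⟩ := h A (d * Nat.card P) (by rw [hA]; exact mul_dvd_mul_right hd _)
      have hXA : X'.map A.subtype ≤ A := Subgroup.map_subtype_le X'
      have hXc : Nat.card (X'.map A.subtype) = d * Nat.card P := by
        rw [Subgroup.card_map_of_injective A.subtype_injective, hX']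
      generalize X'.map A.subtype = X at hXA hXc
      have h2 : P.relIndex X ∣ d := by
        refine Nat.Coprime.dvd_of_dvd_mul_right ?_ (hXc ▸ P.relIndex_dvd_card X)
        exact (hcop.coprime_dvd_right (P.relIndex_dvd_index_of_normal X)).symm
      have h3 : Nat.card (X.map (QuotientGroup.mk' P)) = d := by
        have h4 := card_eq_card_map_mul (QuotientGroup.mk' P) X
        rw [hXc, ← Subgroup.relIndex_ker, QuotientGroup.ker_mk'] at h4
        rw [← Subgroup.relIndex_ker, QuotientGroup.ker_mk']
        have h5 : d ≠ 0 := fun e => by rw [e, zero_dvd_iff] at hd; exact Nat.card_pos.ne' hd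
        refine le_antisymm (Nat.le_of_dvd (Nat.pos_of_ne_zero h5) h2) ?_
        refine Nat.le_of_mul_le_mul_right ?_ (Nat.card_pos (α := P))
        rw [h4]
        exact Nat.mul_le_mul_left _ (Nat.le_of_dvd Nat.card_pos (Subgroup.card_dvd_of_le inf_le_right))
      exact ⟨(X.map (QuotientGroup.mk' P)).subgroupOf _,
        by rw [Nat.card_congr (Subgroup.subgroupOfEquivOfLe (Subgroup.map_mono hXA)).toEquiv, h3]⟩
    -- a subgroup of index `p`
    obtain ⟨U, hU⟩ := exists_subgroup_index_of_hereditary h hdvd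
    have hUne : U ≠ ⊤ := fun e => hp.ne_one (by rw [← hU, e, Subgroup.index_top])
    have hUs : Cfsg.IsSupersolvable U := ih _ (card_lt_of_ne_top hUne) rfl (hereditary_subgroup h U)
    have hPU : ¬ P ≤ U := fun hle => hPi (hU ▸ Subgroup.index_dvd_of_le hle)
    have hUP : U ⊔ P = ⊤ := by
      have h1 := Subgroup.relIndex_mul_index (le_sup_left : U ≤ U ⊔ P)
      rw [hU] at h1
      rcases hp.eq_one_or_self_of_dvd _ ⟨_, (mul_comm _ _).trans h1 |>.symm⟩ with e | e
      · exact Subgroup.index_eq_one.1 e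
      · rw [e] at h1
        have h2 : U.relIndex (U ⊔ P) = 1 := by
          simpa [hp.ne_zero] using h1
        exact absurd (le_sup_right.trans (Subgroup.relIndex_eq_one.1 h2)) hPU
    set X := U ⊓ P
    have hXrel : U.relIndex P = p := by
      rw [← relIndex_sup_of_normal, hUP, Subgroup.relIndex_top_right, hU]
    have hXn : X.Normal := by
      refine Subgroup.normalizer_eq_top_iff.1 (top_le_iff.1 (hUP.ge.trans (sup_le ?_ ?_)))
      · intro u hu
        rw [mem_normalizer_iff_conj, Subgroup.smul_inf, conj_eq_self hu, conj_normal]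
      · have : (X.subgroupOf P).Normal := by
          refine Subgroup.normal_of_index_eq_minFac_card ?_
          show X.relIndex P = _
          rw [Subgroup.inf_relIndex_right, hXrel]
          obtain ⟨k, hk⟩ := IsPGroup.iff_card.1 hPp
          have hk0 : k ≠ 0 := fun e => hP0 (Subgroup.eq_bot_of_card_eq P (by rw [hk, e, pow_zero]))
          rw [hk, Nat.pow_minFac hk0, hp.minFac_eq]
        exact Subgroup.le_normalizer_of_normal_subgroupOf inf_le_right
    refine exists_chain_of_steps fun N hN hT => ?_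
    by_cases hPN : P ≤ N
    · exact exists_step_of_quotient hquot hPN hT
    by_cases hXN : X ≤ N
    · obtain ⟨g, hgP, hgN⟩ := SetLike.not_le_iff_exists.1 hPN
      refine ⟨g, hgN, ?_⟩
      have hd : N.relIndex (N ⊔ P) ∣ p := by
        rw [Subgroup.relIndex_sup_left, ← hXrel, ← Subgroup.inf_relIndex_right U P]
        exact Subgroup.relIndex_dvd_of_le_left _ hXN
      have hle : N ⊔ Subgroup.zpowers g ≤ N ⊔ P :=
        sup_le_sup_left (Subgroup.zpowers_le.2 hgP) N
      have h1 := Subgroup.relIndex_mul_relIndex N _ _ le_sup_left hle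
      rcases hp.eq_one_or_self_of_dvd _ ((Dvd.intro _ h1).trans hd) with e | e
      · exact absurd (Subgroup.relIndex_eq_one.1 e (Subgroup.mem_sup_right (Subgroup.mem_zpowers g))) hgN
      · rw [e] at h1
        have h2 : (N ⊔ Subgroup.zpowers g).relIndex (N ⊔ P) = 1 := by
          rcases hp.eq_one_or_self_of_dvd _ hd with e' | e' <;> rw [e'] at h1
          · exact Nat.eq_one_of_mul_eq_one_left h1
          · exact (Nat.mul_eq_left hp.ne_zero).1 h1
        rw [le_antisymm hle (Subgroup.relIndex_eq_one.1 h2)]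
        exact Subgroup.sup_normal _ _
    · let f := QuotientGroup.mk' N
      have hsurj : Function.Surjective f := QuotientGroup.mk'_surjective N
      have hPn' : (P.map f).Normal := hPn.map f hsurj
      have hXn' : (X.map f).Normal := hXn.map f hsurj
      have := (hPp.map f).isNilpotent
      have hXP : X.map f ≤ P.map f := Subgroup.map_mono inf_le_right
      set Z := X.map f ⊓ Subgroup.centralizer ((P.map f : Subgroup (G ⧸ N)) : Set (G ⧸ N))
      have hZ0 : Z ≠ ⊥ := by
        intro hZ
        refine Cores.inf_center_ne_bot ((X.map f).subgroupOf (P.map f))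
          (fun e => map_mk'_ne_bot hXN ?_) ?_
        · rw [Subgroup.subgroupOf_eq_bot, disjoint_iff, inf_of_le_left hXP] at e
          exact e
        · refine le_bot_iff.1 fun x hx => Subgroup.mem_bot.2 (Subtype.ext ?_)
          have h1 : (x : G ⧸ N) ∈ Z := Subgroup.mem_inf.2 ⟨hx.1, Subgroup.mem_centralizer_iff.2
            fun y hy => congrArg Subtype.val (Subgroup.mem_center_iff.1 hx.2 ⟨y, hy⟩)⟩
          rw [hZ] at h1
          exact h1
      have hUs' : Cfsg.IsSupersolvable (U.map f) :=
        supersolvable_of_surjective hUs (f.subgroupMap U) (f.subgroupMap_surjective U)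
      have hZU : Z ≤ U.map f := inf_le_left.trans (Subgroup.map_mono inf_le_left)
      obtain ⟨C, hCn, hCZ, hCp⟩ := supersolvable_exists_normal_card_prime hUs'
        (B := Z.subgroupOf (U.map f)) (fun e => hZ0 (by
          rw [Subgroup.subgroupOf_eq_bot, disjoint_iff, inf_of_le_left hZU] at e; exact e))
      have := Fact.mk hCp
      have : IsCyclic C := isCyclic_of_prime_card rfl
      obtain ⟨c, hc⟩ := IsCyclic.exists_generator (α := C)
      obtain ⟨g, hg⟩ := hsurj ((c : U.map f) : G ⧸ N)
      have hcZ : f g ∈ Z := hg ▸ Subgroup.mem_subgroupOf.1 (hCZ c.2)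
      refine ⟨g, fun hgN => ?_, normal_sup_zpowers fun x => ?_⟩
      · have h1 : f g = 1 := (QuotientGroup.eq_one_iff g).2 hgN
        have hc1 : c = 1 := Subtype.ext (Subtype.ext (hg.symm.trans h1))
        have hall : ∀ y : C, y = 1 := fun y => by
          obtain ⟨k, hk⟩ := hc y
          rw [← hk, hc1]; exact one_zpow k
        have : Subsingleton C := ⟨fun a b => (hall a).trans (hall b).symm⟩
        exact hCp.ne_one Nat.card_unique
      · have hnorm : f x * f g * (f x)⁻¹ ∈ Subgroup.zpowers (f g) := by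
          obtain ⟨a, ha, b, hb, rfl⟩ := Subgroup.mem_sup_of_normal_right.1
            (hUP.ge (Subgroup.mem_top x) : x ∈ U ⊔ P)
          have hbc : f b * f g = f g * f b :=
            Subgroup.mem_centralizer_iff.1 hcZ.2 (f b) ⟨b, hb, rfl⟩
          obtain ⟨k, hk⟩ := hc ⟨_, hCn.conj_mem (c : U.map f) c.2 ⟨f a, a, ha, rfl⟩⟩
          refine ⟨k, ?_⟩
          have hk' := congrArg (fun z : C => ((z : U.map f) : G ⧸ N)) hk
          simp only [Subgroup.coe_zpow, Subgroup.coe_mul, InvMemClass.coe_inv, ← hg] at hk'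
          show f g ^ k = _
          rw [hk', map_mul, mul_inv_rev]
          rw [show f a * f b * f g * ((f b)⁻¹ * (f a)⁻¹) = f a * (f b * f g * (f b)⁻¹) * (f a)⁻¹ by group,
            hbc]
          group
        obtain ⟨k, hk⟩ := hnorm
        have hk' : f g ^ k = f (x * g * x⁻¹) := by rw [map_mul, map_mul, map_inv]; exact hk
        have h1 : x * g * x⁻¹ * (g ^ k)⁻¹ ∈ N := by
          rw [← QuotientGroup.eq_one_iff]
          show f (x * g * x⁻¹ * (g ^ k)⁻¹) = 1
          rw [map_mul, map_inv f (g ^ k), map_zpow, hk', mul_inv_cancel]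
        have := Subgroup.mul_mem_sup h1 (Subgroup.zpow_mem_zpowers g k)
        simpa using this

theorem isSupersolvable_of_hereditary [Finite G] (h : ∀ H : Subgroup G, Cfsg.HasSubgroupOfEveryOrder H) :
    Cfsg.IsSupersolvable G :=
  hereditary_supersolvable_aux _ rfl h

end Cfsg.Agent.Solvable
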